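import Cfsg.Agent.Leech.Order

/-!
`Co0` is generated by the monomial automorphisms and the sextet involution.
-/

namespace Cfsg.Agent.Leech

open Cfsg

theorem monomial_mem_monoXi {σ : Equiv.Perm GolayPt} (hσ : σ ∈ M24) {c : Finset GolayPt}
    (hc : c ∈ supports (golayCode : Set (GolayPt → ZMod 2))) : monomial hσ hc ∈ monoXi :=
  mul_mem (flipOn_mem_monoXi hc) (comp_mem_monoXi hσ)

theorem monoXi_eq_top : monoXi = ⊤ := by
  rw [eq_top_iff]
  intro g _
  obtain ⟨h, hh, he⟩ := exists_mem_monoXi_of_conj (t := vec8) (v := crossL none)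
    (w := g • crossL none) (Conj.refl (cross_mem none))
    (conj64 (g • crossL none).2 ((g.2.2 (crossL none)).trans (sqNorm_cross none)))
  have hfix : (h⁻¹ * g) • crossL none = crossL none := by rw [mul_smul, ← he, inv_smul_smul]
  obtain ⟨σ, hσ, c, hc, e, -, -⟩ := exists_monomial_of_fix _ hfix
  have hm : h⁻¹ * g ∈ monoXi := e ▸ monomial_mem_monoXi hσ hc
  have := mul_mem hh hm
  rwa [mul_inv_cancel_left] at this

/-- A subgroup containing the monomial automorphisms and the sextet involution is everything. -/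
theorem eq_top_of_monomial_xi {H : Subgroup Co0}
    (hmono : ∀ (σ : Equiv.Perm GolayPt) (hσ : σ ∈ M24) (c : Finset GolayPt)
      (hc : c ∈ supports (golayCode : Set (GolayPt → ZMod 2))), monomial hσ hc ∈ H)
    (hxi : toCo0 isAut_xi ∈ H) : H = ⊤ := by
  have hempty : (∅ : Finset GolayPt) ∈ supports (golayCode : Set (GolayPt → ZMod 2)) :=
    ⟨0, zero_mem _, by ext p; simp [support₂]⟩
  have hone : ∀ {c : Finset GolayPt} (hc : c ∈ supports (golayCode : Set (GolayPt → ZMod 2))),
      monomial (one_mem M24) hc = toCo0 (isAut_flipOn hc) := by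
    intro c hc
    refine Subtype.ext (Equiv.ext fun x => Subtype.ext ?_)
    rfl
  have hcomp : ∀ {σ : Equiv.Perm GolayPt} (hσ : σ ∈ M24),
      monomial hσ hempty = toCo0 (isAut_comp hσ) := by
    intro σ hσ
    refine Subtype.ext (Equiv.ext fun x => Subtype.ext ?_)
    funext p
    show flipOn ∅ (x.1 ∘ σ) p = x.1 (σ p)
    simp [flipOn]
  rw [eq_top_iff, ← monoXi_eq_top, monoXi, Subgroup.closure_le]
  rintro g ((⟨σ, hσ, rfl⟩ | ⟨c, hc, rfl⟩) | rfl)
  · exact hcomp hσ ▸ hmono σ hσ ∅ hempty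
  · exact hone hc ▸ hmono 1 (one_mem _) c hc
  · exact hxi

end Cfsg.Agent.Leech
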