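import Cfsg.Agent.Leech.Configs
import Cfsg.Agent.Leech.TreesData

/-!
The stabiliser of a vector of squared length 48 on the 11178 minimal vectors of inner product -16
with it.
-/

set_option autoImplicit false

namespace Cfsg.Agent.Leech

open Cfsg

/-- The minimal vectors with inner product -16 with `u`. -/
def set11178 (u : leechLattice) : Set leechLattice :=
  {x | sqNorm x.1 = 32 ∧ dotInt u.1 x.1 = -16}

theorem count11178 : (set11178 pV).ncard = 11178 :=
  ncard_min_dot_grouped (threeVals 5 1 1) (by decide) (-16) 11178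
    [[1, 1, 1, 1, 1, 1, 1, 1], [1, 1, 1, 1, 1, 1, 1, 5]] (by decide +kernel)

theorem cert11178 : Trees.t11178.gensB ([pV].map fun v => v.1) = true ∧
    Trees.t11178.sizeB (keyOf pX.1) 11178 = true := by
  decide +kernel

theorem transitive11178 {x : leechLattice} (hx : x ∈ set11178 pV) :
    ∃ g : Co0, g • pV = pV ∧ g • pX = x := by
  obtain ⟨g, hg, e⟩ := transitive_of_cert Trees.t11178 (conf := [pV]) (x₀ := pX)
    (S := set11178 pV) (N := 11178) (by norm_num) count11178
    ⟨sqNorm_configs.2.2.2.1, dot_configs.2.1⟩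
    (fun g hg y hy => by
      have h : g • pV = pV := mem_fixConf.mp hg pV (List.mem_singleton.mpr rfl)
      refine ⟨(sqNorm_co0 g y).trans hy.1, ?_⟩
      calc dotInt pV.1 (g • y).1 = dotInt (g • pV).1 (g • y).1 := by rw [h]
        _ = dotInt pV.1 y.1 := co0_dotInt g pV y
        _ = -16 := hy.2)
    cert11178.1 cert11178.2 x hx
  exact ⟨g, mem_fixConf.mp hg pV (List.mem_singleton.mpr rfl), e⟩

theorem exists_to_11178 {u x : leechLattice} (hu : sqNorm u.1 = 48) (hx : sqNorm x.1 = 32)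
    (hd : dotInt u.1 x.1 = -16) : ∃ g : Co0, g • u = pV ∧ g • x = pX := by
  obtain ⟨g, hg⟩ := exists_to_pV hu
  obtain ⟨h, hh, hh'⟩ := transitive11178 (x := g • x)
    ⟨(sqNorm_co0 g x).trans hx, by rw [← hg, co0_dotInt]; exact hd⟩
  refine ⟨h⁻¹ * g, ?_, ?_⟩
  · rw [mul_smul, hg, inv_smul_eq_iff, hh]
  · rw [mul_smul, inv_smul_eq_iff, hh']

theorem ncard_set11178 {u : leechLattice} (hu : sqNorm u.1 = 48) :
    (set11178 u).ncard = 11178 := by
  obtain ⟨g, hg⟩ := exists_to_pV hu
  refine Eq.trans ?_ ((ncard_smul_setOf g fun x => x ∈ set11178 pV).trans count11178)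
  congr 1
  ext x
  simp only [set11178, Set.mem_ofPred_eq, sqNorm_co0]
  rw [← hg, co0_dotInt]

/-- Pairs of vectors of squared length 48 with inner product -32 go to a standard pair. -/
theorem exists_to_hs {v w : leechLattice} (hv : sqNorm v.1 = 48) (hw : sqNorm w.1 = 48)
    (hd : dotInt v.1 w.1 = -32) : ∃ g : Co0, g • v = pV ∧ g • w = pY := by
  have e : (-(v + w) : leechLattice).1 = -v.1 - w.1 := by
    rw [AddSubgroup.coe_neg, AddSubgroup.coe_add, neg_add, sub_eq_add_neg]
  have h32 : sqNorm (-(v + w) : leechLattice).1 = 32 := by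
    rw [e, sqNorm_sub_eq]
    have h1 : sqNorm (-v.1) = sqNorm v.1 := by simp [sqNorm]
    have h2 : dotInt (-v.1) w.1 = -dotInt v.1 w.1 := by simp [dotInt]
    rw [h1, h2, hv, hw, hd]; norm_num
  have hdv : dotInt v.1 (-(v + w) : leechLattice).1 = -16 := by
    have h1 : dotInt v.1 (-v.1 - w.1) = -sqNorm v.1 - dotInt v.1 w.1 := by
      simp only [dotInt, sqNorm, Pi.sub_apply, Pi.neg_apply, ← Finset.sum_neg_distrib,
        ← Finset.sum_sub_distrib]
      exact Finset.sum_congr rfl fun p _ => by ring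
    rw [e, h1, hv, hd]; norm_num
  obtain ⟨g, hg, hgx⟩ := exists_to_11178 hv h32 hdv
  refine ⟨g, hg, ?_⟩
  rw [co0_neg, co0_add, hg] at hgx
  rw [pY_eq, ← hgx, neg_neg, add_sub_cancel_left]

end Cfsg.Agent.Leech
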