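import Cfsg.Agent.Leech.Orbit552
import Cfsg.Agent.Leech.Orbit11178
import Cfsg.Agent.Leech.ModTwo
import Cfsg.Agent.Golay.MathieuSimple

/-!
Orders of the stabilisers of standard configurations, and the copy of M22 fixing them.
-/

set_option autoImplicit false

namespace Cfsg.Agent.Leech

open Cfsg Cfsg.Agent.Golay

/-- The stabiliser of `pU`. -/
def co2 : Subgroup Co0 := MulAction.stabilizer Co0 pU
/-- The stabiliser of `pV`. -/
def co3 : Subgroup Co0 := MulAction.stabilizer Co0 pV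
/-- The stabiliser of `pV` and `pU`. -/
def mcl : Subgroup Co0 := co3 ⊓ MulAction.stabilizer Co0 pU
/-- The stabiliser of `pV` and `pX`. -/
def hs : Subgroup Co0 := co3 ⊓ MulAction.stabilizer Co0 pX

theorem mem_co2 {g : Co0} : g ∈ co2 ↔ g • pU = pU := Iff.rfl
theorem mem_co3 {g : Co0} : g ∈ co3 ↔ g • pV = pV := Iff.rfl
theorem mem_mcl {g : Co0} : g ∈ mcl ↔ g • pV = pV ∧ g • pU = pU := Iff.rfl
theorem mem_hs {g : Co0} : g ∈ hs ↔ g • pV = pV ∧ g • pX = pX := Iff.rfl

theorem mcl_smul_pW {g : Co0} (h : g ∈ mcl) : g • pW = pW := by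
  rw [pW_eq, co0_sub, (mem_mcl.mp h).1, (mem_mcl.mp h).2]

theorem hs_smul_pY {g : Co0} (h : g ∈ hs) : g • pY = pY := by
  rw [pY_eq, co0_sub, co0_neg, (mem_hs.mp h).1, (mem_hs.mp h).2]

theorem co2_inf_pW : co2 ⊓ MulAction.stabilizer Co0 pW = mcl := by
  ext g
  rw [Subgroup.mem_inf, mem_co2, MulAction.mem_stabilizer_iff, mem_mcl]
  constructor
  · rintro ⟨h1, h2⟩
    refine ⟨?_, h1⟩
    have e : pV = pW + pU := by rw [pW_eq, sub_add_cancel]
    rw [e, co0_add, h1, h2]
  · exact fun h => ⟨h.2, mcl_smul_pW (mem_mcl.mpr h)⟩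

/-- The stabiliser in a subgroup, as an intersection. -/
def stabEquiv (K : Subgroup Co0) (x : leechLattice) :
    MulAction.stabilizer K x ≃* ↥(K ⊓ MulAction.stabilizer Co0 x) where
  toFun g := ⟨g.1.1, g.1.2, g.2⟩
  invFun g := ⟨⟨g.1, g.2.1⟩, g.2.2⟩
  left_inv _ := rfl
  right_inv _ := rfl
  map_mul' _ _ := rfl

theorem card_mul_stab {K : Subgroup Co0} {x : leechLattice} {S : Set leechLattice}
    (hS : ∀ g ∈ K, g • x ∈ S) (ht : ∀ y ∈ S, ∃ g ∈ K, g • x = y) :
    S.ncard * Nat.card ↥(K ⊓ MulAction.stabilizer Co0 x) = Nat.card K := by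
  have horb : MulAction.orbit K x = S := by
    ext y
    constructor
    · rintro ⟨g, rfl⟩; exact hS g.1 g.2
    · intro hy
      obtain ⟨g, hg, e⟩ := ht y hy
      exact ⟨⟨g, hg⟩, e⟩
  rw [← Nat.card_congr (stabEquiv K x).toEquiv, ← horb, ← Nat.card_coe_set_eq,
    ← Nat.card_prod]
  exact Nat.card_congr (MulAction.orbitProdStabilizerEquivGroup K x)

theorem index_stab {K : Subgroup Co0} {x : leechLattice} {S : Set leechLattice}
    (hS : ∀ g ∈ K, g • x ∈ S) (ht : ∀ y ∈ S, ∃ g ∈ K, g • x = y) :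
    (MulAction.stabilizer K x).index = S.ncard := by
  rw [MulAction.index_stabilizer]
  congr 1
  ext y
  constructor
  · rintro ⟨g, rfl⟩; exact hS g.1 g.2
  · intro hy
    obtain ⟨g, hg, e⟩ := ht y hy
    exact ⟨⟨g, hg⟩, e⟩

theorem card_stab_shell {x : leechLattice} {N : ℤ} {n : ℕ}
    (hn : {y : GolayPt → ℤ | y ∈ leechLattice ∧ sqNorm y = N}.ncard = n) (hx : sqNorm x.1 = N)
    (ht : ∀ y : leechLattice, sqNorm y.1 = N → ∃ g : Co0, g • y = x) :
    n * Nat.card (MulAction.stabilizer Co0 x) = 8315553613086720000 := by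
  have horb : MulAction.orbit Co0 x = shell N := by
    ext y
    constructor
    · rintro ⟨g, rfl⟩; exact (sqNorm_co0 g x).trans hx
    · intro hy
      obtain ⟨g, hg⟩ := ht y hy
      exact ⟨g⁻¹, by simp only; rw [← hg, inv_smul_smul]⟩
  rw [← hn, ← ncard_shell_eq', ← horb, ← MulAction.index_stabilizer, Subgroup.index_mul_card,
    card_Co0]

theorem card_co2 : Nat.card co2 = 42305421312000 := by
  have h := card_stab_shell (x := pU) leechLattice_counts.1 sqNorm_configs.1
    (fun y hy => exists_to_pU hy)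
  show Nat.card (MulAction.stabilizer Co0 pU) = _
  omega

theorem card_co3 : Nat.card co3 = 495766656000 := by
  have h := card_stab_shell (x := pV) leechLattice_counts.2.1 sqNorm_configs.2.1
    (fun y hy => exists_to_pV hy)
  show Nat.card (MulAction.stabilizer Co0 pV) = _
  omega

theorem co3_smul_552 {g : Co0} (hg : g ∈ co3) {x : leechLattice} (hx : x ∈ set552 pV) :
    g • x ∈ set552 pV := by
  refine ⟨(sqNorm_co0 g x).trans hx.1, ?_⟩
  have h := co0_dotInt g pV x
  rw [mem_co3.mp hg] at h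
  rw [h]; exact hx.2

theorem card_mcl : Nat.card mcl = 898128000 := by
  have h := card_mul_stab (K := co3) (x := pU) (S := set552 pV)
    (fun g hg => co3_smul_552 hg ⟨sqNorm_configs.1, dot_configs.1⟩)
    (fun y hy => by
      obtain ⟨g, hg, hgy⟩ := transitive552 hy
      exact ⟨g, hg, hgy⟩)
  rw [count552, card_co3] at h
  show Nat.card ↥(co3 ⊓ MulAction.stabilizer Co0 pU) = _
  omega

theorem card_hs : Nat.card hs = 44352000 := by
  have h := card_mul_stab (K := co3) (x := pX) (S := set11178 pV)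
    (fun g hg => by
      refine ⟨(sqNorm_co0 g pX).trans sqNorm_configs.2.2.2.1, ?_⟩
      have h := co0_dotInt g pV pX
      rw [mem_co3.mp hg] at h
      rw [h]; exact dot_configs.2.1)
    (fun y hy => by
      obtain ⟨g, hg, hgy⟩ := transitive11178 hy
      exact ⟨g, hg, hgy⟩)
  rw [count11178, card_co3] at h
  show Nat.card ↥(co3 ⊓ MulAction.stabilizer Co0 pX) = _
  omega

/-! ### The copy of M22 -/

theorem mem_M22' {σ : Equiv.Perm GolayPt} (h : σ ∈ Spor.M22) :
    σ ∈ M24 ∧ σ none = none ∧ σ (some 0) = some 0 :=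
  ⟨h.1.1, h.1.2, h.2⟩

/-- M22 as a group of automorphisms of the lattice. -/
def m22Hom : Spor.M22 →* Co0 where
  toFun σ := toCo0 (isAut_comp (inv_mem (mem_M22' σ.2).1))
  map_one' := by
    refine Subtype.ext (Equiv.ext fun x => Subtype.ext ?_)
    funext p
    show x.1 ((((1 : Spor.M22) : Equiv.Perm GolayPt))⁻¹ p) = x.1 p
    simp
  map_mul' σ τ := by
    refine Subtype.ext (Equiv.ext fun x => Subtype.ext ?_)
    funext p
    show x.1 ((((σ * τ : Spor.M22) : Equiv.Perm GolayPt))⁻¹ p) =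
      x.1 ((τ : Equiv.Perm GolayPt)⁻¹ ((σ : Equiv.Perm GolayPt)⁻¹ p))
    simp [mul_inv_rev]

theorem m22Hom_smul (σ : Spor.M22) (x : leechLattice) (p : GolayPt) :
    (m22Hom σ • x).1 p = x.1 ((σ : Equiv.Perm GolayPt)⁻¹ p) := rfl

theorem m22Hom_injective : Function.Injective m22Hom := by
  intro σ τ h
  refine Subtype.ext (inv_injective (Equiv.ext fun p => ?_))
  have e := congrArg (fun g : Co0 => (g • crossL ((σ : Equiv.Perm GolayPt)⁻¹ p)).1 p) h
  simp only [m22Hom_smul, crossL, cross, if_true] at e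
  by_contra hne
  rw [if_neg (Ne.symm hne)] at e
  omega

/-- The image of M22. -/
def m22G : Subgroup Co0 := m22Hom.range

theorem card_m22G : Nat.card m22G = 443520 := by
  show Nat.card m22Hom.range = _
  rw [← Nat.card_congr (MonoidHom.ofInjective m22Hom_injective).toEquiv, card_M22]

theorem isSimpleGroup_m22G : IsSimpleGroup m22G := by
  have := isSimpleGroup_M22
  exact (MonoidHom.ofInjective m22Hom_injective).isSimpleGroup_congr.mp this

theorem tv_apply (a b c : ℤ) (p : GolayPt) :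
    tv a b c p = if p = none then a else if p = some 0 then b else c := by
  rcases p with _ | z
  · rfl
  · fin_cases z <;> rfl

theorem m22G_fix_tv (a b c : ℤ) (v : leechLattice) (hv : v.1 = tv a b c) :
    ∀ g ∈ m22G, g • v = v := by
  rintro _ ⟨σ, rfl⟩
  obtain ⟨-, h1, h2⟩ := mem_M22' σ.2
  refine Subtype.ext (funext fun p => ?_)
  rw [m22Hom_smul, hv, tv_apply, tv_apply]
  simp only [Equiv.Perm.inv_eq_iff_eq, h1, h2]

/-- The vectors fixed by M22 have three values. -/
theorem eq_tv_of_fixed {v : leechLattice} (h : ∀ g ∈ m22G, g • v = v) :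
    v.1 = tv (v.1 none) (v.1 (some 0)) (v.1 (some 1)) := by
  funext p
  rw [tv_apply]
  split_ifs with h1 h2
  · rw [h1]
  · rw [h2]
  obtain ⟨a, ha, ha0⟩ := exists_move_fin (k := 3) (by norm_num)
    ⟨![none, some 0, p], fun x y => by
      fin_cases x <;> fin_cases y <;> simp [h1, h2, Ne.symm h1, Ne.symm h2]⟩
  have hb : basePt 0 = none ∧ basePt 1 = some 0 ∧ basePt 2 = some 1 := by decide +kernel
  have e0 : a none = none := (ha0 0).trans hb.1
  have e1 : a (some 0) = some 0 := (ha0 1).trans hb.2.1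
  have e2 : a p = some 1 := (ha0 2).trans hb.2.2
  have hm : a ∈ Spor.M22 := ⟨⟨ha, e0⟩, e1⟩
  have := congrArg (fun w : leechLattice => w.1 (some 1)) (h _ ⟨⟨a, hm⟩, rfl⟩)
  simp only [m22Hom_smul] at this
  rw [show a⁻¹ (some 1) = p from Equiv.Perm.inv_eq_iff_eq.mpr e2.symm] at this
  exact this

theorem m22G_le_mcl : m22G ≤ mcl := fun g hg =>
  mem_mcl.mpr ⟨m22G_fix_tv 5 1 1 pV rfl g hg, m22G_fix_tv 4 4 0 pU rfl g hg⟩

theorem m22G_le_hs : m22G ≤ hs := fun g hg =>
  mem_hs.mpr ⟨m22G_fix_tv 5 1 1 pV rfl g hg, m22G_fix_tv (-4) 4 0 pX rfl g hg⟩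

end Cfsg.Agent.Leech
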