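import Cfsg.Agent.Leech.Keys
import Cfsg.Agent.Leech.Monomial
import Cfsg.Agent.Leech.Stabilizers
import Cfsg.Agent.SchurCert.GolayPerm
import Cfsg.Agent.AutCert.ThreeGen

/-!
Elements of `Co0` given by lists of steps and coded permutations, evaluated on packed vectors,
and vectors fixed by a coded permutation.
-/

set_option autoImplicit false

namespace Cfsg.Agent.Leech

open Cfsg Cfsg.Agent.Golay Cfsg.Agent.SchurCert

/-- A step of a word, or a coded permutation with the code of its inverse. -/
inductive LOp where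
  | step (i : ℕ)
  | perm (q : ℕ × ℕ)

/-- The action on vectors. -/
def opVec : LOp → (GolayPt → ℤ) → GolayPt → ℤ
  | .step i, x => stepFun2 i x
  | .perm q, x => fun p => x (codeFun q.2 p)

/-- The operation is an automorphism. -/
def opOK : LOp → Bool
  | .step _ => true
  | .perm q => validPair q && decide (PreservesRows (codeFun q.2))

theorem exists_op_element (o : LOp) :
    ∃ g : Co0, opOK o = true → ∀ x : leechLattice, (g • x).1 = opVec o x.1 := by
  cases o with
  | step i =>
    obtain ⟨g, -, hg⟩ := exists_step_element i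
    exact ⟨g, fun _ x => hg x⟩
  | perm q =>
    by_cases h : opOK (.perm q) = true
    · simp only [opOK, Bool.and_eq_true, decide_eq_true_eq] at h
      let σ : Equiv.Perm GolayPt := ⟨codeFun q.2, codeFun q.1, fun p => (validPair_inv h.1 p).2,
        fun p => (validPair_inv h.1 p).1⟩
      exact ⟨toCo0 (isAut_comp (σ := σ) (mem_M24_of_preservesRows h.2)), fun _ x => rfl⟩
    · exact ⟨1, fun h' => absurd h' h⟩

/-- The automorphism of an operation. -/
noncomputable def opEl (o : LOp) : Co0 := (exists_op_element o).choose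

theorem opEl_smul {o : LOp} (h : opOK o = true) (x : leechLattice) :
    (opEl o • x).1 = opVec o x.1 := (exists_op_element o).choose_spec h x

/-- The operations applied from left to right. -/
def opsVec : List LOp → (GolayPt → ℤ) → GolayPt → ℤ
  | [], x => x
  | o :: l, x => opsVec l (opVec o x)

/-- The automorphism of a list of operations. -/
noncomputable def opsEl : List LOp → Co0
  | [] => 1
  | o :: l => opsEl l * opEl o

theorem opsEl_append : ∀ a b : List LOp, opsEl (a ++ b) = opsEl b * opsEl a
  | [], b => (mul_one _).symm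
  | o :: a, b => by
    show opsEl (a ++ b) * opEl o = _
    rw [opsEl_append a b, mul_assoc]; rfl

theorem opsEl_smul : ∀ {l : List LOp}, l.all opOK = true → ∀ x : leechLattice,
    (opsEl l • x).1 = opsVec l x.1
  | [], _, x => congrArg Subtype.val (one_smul Co0 x)
  | o :: l, h, x => by
    rw [List.all_cons, Bool.and_eq_true] at h
    rw [opsEl, mul_smul, opsEl_smul h.2, opsVec, opEl_smul h.1]

/-- A power of a list of operations. -/
def opsPow (l : List LOp) : ℕ → List LOp
  | 0 => []
  | n + 1 => l ++ opsPow l n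

theorem opsEl_pow (l : List LOp) : ∀ n, opsEl (opsPow l n) = opsEl l ^ n
  | 0 => rfl
  | n + 1 => by rw [opsPow, opsEl_append, opsEl_pow l n, pow_succ]

/-- The coded permutation as an element. -/
theorem opEl_perm_eq {q : ℕ × ℕ} (h : opOK (.perm q) = true) (σ : Spor.M22)
    (e : (σ : Equiv.Perm GolayPt) = permOfPair q) : opEl (.perm q) = m22Hom σ := by
  refine Subtype.ext (Equiv.ext fun x => Subtype.ext (funext fun p => ?_))
  show (opEl (.perm q) • x).1 p = (m22Hom σ • x).1 p
  rw [opEl_smul h, m22Hom_smul]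
  simp only [opOK, Bool.and_eq_true] at h
  show x.1 (codeFun q.2 p) = x.1 ((σ : Equiv.Perm GolayPt)⁻¹ p)
  refine congrArg x.1 (Equiv.Perm.inv_eq_iff_eq.mpr ?_).symm
  rw [e, permOfPair_apply h.1, (validPair_inv h.1 p).2]

/-! ### Evaluation on packed vectors -/

/-- Pack a list of numbers below 256. -/
def encL : List ℕ → ℕ
  | [] => 0
  | a :: l => a + 256 * encL l

/-- The entries are small. -/
def bndB (x : GolayPt → ℤ) : Bool :=
  (List.range 24).all fun i => decide (-128 ≤ x (ptOf i)) && decide (x (ptOf i) < 128)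

/-- A packed vector. -/
def encV (x : GolayPt → ℤ) : ℕ := encL ((List.range 24).map fun i => (x (ptOf i) + 128).toNat)

/-- The vector of a packed vector. -/
def decV (v : ℕ) : GolayPt → ℤ := fun p => ((v / 256 ^ ptIdx p % 256 : ℕ) : ℤ) - 128

theorem encL_get : ∀ (l : List ℕ), (∀ a ∈ l, a < 256) → ∀ i,
    encL l / 256 ^ i % 256 = l.getD i 0
  | [], _, i => by simp [encL]
  | a :: l, h, 0 => by
    have := h a List.mem_cons_self
    simp [encL]; omega
  | a :: l, h, i + 1 => by
    have ha := h a List.mem_cons_self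
    rw [encL, pow_succ', ← Nat.div_div_eq_div_mul, Nat.add_mul_div_left _ _ (by norm_num : 0 < 256),
      Nat.div_eq_of_lt ha, zero_add, encL_get l (fun b hb => h b (List.mem_cons_of_mem _ hb))]
    rfl

theorem decV_encV {x : GolayPt → ℤ} (h : bndB x = true) : decV (encV x) = x := by
  funext p
  simp only [bndB, List.all_eq_true, List.mem_range, Bool.and_eq_true, decide_eq_true_eq] at h
  rw [decV, encV, encL_get]
  · have := h (ptIdx p) (ptIdx_lt p)
    rw [List.getD_eq_getElem _ _ (by simpa using ptIdx_lt p)]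
    simp only [List.getElem_map, List.getElem_range, ptOf_ptIdx] at this ⊢
    omega
  · intro a ha
    obtain ⟨i, hi, rfl⟩ := List.mem_map.mp ha
    have := h i (List.mem_range.mp hi)
    omega

/-- The operations, evaluated. -/
def runV : List LOp → (GolayPt → ℤ) → GolayPt → ℤ
  | [], x => x
  | o :: l, x => bif bndB (opVec o x) then runV l (decV (encV (opVec o x)))
      else runV l (opVec o x)

theorem runV_eq : ∀ (l : List LOp) (x : GolayPt → ℤ), runV l x = opsVec l x
  | [], _ => rfl
  | o :: l, x => by
    rw [runV, opsVec]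
    cases h : bndB (opVec o x)
    · exact runV_eq l _
    · rw [cond_true, decV_encV h]; exact runV_eq l _

/-- The operations fix a vector. -/
def fixOpsB (l : List LOp) (x : GolayPt → ℤ) : Bool := eqB x (runV l x)

theorem eqB_self (x : GolayPt → ℤ) : eqB x x = true := by simp [eqB]

theorem opsEl_fix {l : List LOp} (hl : l.all opOK = true) {x : leechLattice}
    (h : fixOpsB l x.1 = true) : opsEl l • x = x :=
  Subtype.ext (by rw [opsEl_smul hl, ← runV_eq]; exact eq_of_eqB h)

theorem co0_ext {g h : Co0} (e : ∀ j, g • crossL j = h • crossL j) : g = h := by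
  refine Subtype.ext (Equiv.ext fun x => ?_)
  have hu : ∀ k, ((h⁻¹ * g) • x).1 k = x.1 k := fun k => by
    have hd := co0_dotInt (h⁻¹ * g) x (crossL k)
    rw [show (h⁻¹ * g) • crossL k = crossL k by rw [mul_smul, e, inv_smul_smul],
      show (crossL k).1 = cross k from rfl, dotInt_cross, dotInt_cross] at hd
    omega
  have : h • ((h⁻¹ * g) • x) = h • x := by rw [show (h⁻¹ * g) • x = x from Subtype.ext (funext hu)]
  rw [mul_smul, smul_inv_smul] at this
  exact this

/-! ### Matrices of packed rows -/

/-- The linear packing of a vector. -/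
def encI (x : GolayPt → ℤ) : ℤ :=
  ((List.range 24).map fun i => x (ptOf i) * 65536 ^ i).sum

/-- The packed vector with all entries 32768. -/
def offI : ℤ := encI fun _ => 32768

/-- The combination of rows by the base 65536 digits, less 32768. -/
def accI : List ℤ → ℕ → ℤ
  | [], _ => 0
  | r :: R, W => ((W % 65536 : ℕ) - 32768 : ℤ) * r + accI R (W / 65536)

/-- The image of a packed vector. -/
def appI (R : List ℤ) (V : ℤ) : ℤ := accI R (V + offI).toNat / 8

/-- The packed rows of an element. -/
def HasMat (g : Co0) (R : List ℤ) : Prop :=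
  R.length = 24 ∧ ∀ i < 24, R.getD i 0 = encI (g • crossL (ptOf i)).1

/-- The rows of a list of operations, computed. -/
def rowsOf (l : List LOp) : List ℤ :=
  (List.range 24).map fun i => encI (runV l (cross (ptOf i)))

theorem hasMat_ops {l : List LOp} (hl : l.all opOK = true) {R : List ℤ} (h : rowsOf l = R) :
    HasMat (opsEl l) R := by
  subst h
  refine ⟨by simp [rowsOf], fun i hi => ?_⟩
  rw [List.getD_eq_getElem _ _ (by simpa [rowsOf] using hi), opsEl_smul hl, ← runV_eq]
  simp [rowsOf, crossL]

theorem abs_le_of_sqNorm {x : GolayPt → ℤ} {N : ℤ} (h : sqNorm x ≤ N) (p : GolayPt) :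
    x p ^ 2 ≤ N :=
  le_trans (Finset.single_le_sum (f := fun q => x q ^ 2) (fun q _ => sq_nonneg _)
    (Finset.mem_univ p)) h

theorem digit_sum : ∀ (l : List ℤ), (∀ a ∈ l, -32768 ≤ a ∧ a < 32768) →
    ∀ (R : List ℤ), R.length = l.length →
      accI R ((l.map fun a => (a + 32768).toNat).foldr (fun a W => a + 65536 * W) 0) =
        ((l.zip R).map fun z => z.1 * z.2).sum
  | [], _, [], _ => rfl
  | a :: l, h, r :: R, hl => by
    obtain ⟨h1, h2⟩ := h a List.mem_cons_self
    simp only [List.map_cons, List.foldr_cons, accI, List.zip_cons_cons, List.sum_cons]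
    rw [Nat.add_mul_mod_self_left, Nat.mod_eq_of_lt (by omega), Nat.add_mul_div_left _ _
      (by norm_num : 0 < 65536), Nat.div_eq_of_lt (by omega), zero_add,
      digit_sum l (fun b hb => h b (List.mem_cons_of_mem _ hb)) R (by simpa using hl)]
    congr 2
    omega
  | [], _, _ :: _, hl => by simp at hl
  | _ :: _, _, [], hl => by simp at hl

theorem fold_cast : ∀ (l : List ℤ), (∀ a ∈ l, -32768 ≤ a ∧ a < 32768) →
    (((l.map fun a => (a + 32768).toNat).foldr (fun a W => a + 65536 * W) 0 : ℕ) : ℤ) =
      ((List.range l.length).map fun i => (l.getD i 0 + 32768) * 65536 ^ i).sum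
  | [], _ => rfl
  | a :: l, h => by
    obtain ⟨h1, h2⟩ := h a List.mem_cons_self
    rw [List.length_cons, List.range_succ_eq_map, List.map_cons, List.map_cons, List.map_map,
      List.foldr_cons, List.sum_cons, Nat.cast_add, Nat.cast_mul,
      fold_cast l (fun b hb => h b (List.mem_cons_of_mem _ hb)), Int.toNat_of_nonneg (by omega),
      ← List.sum_map_mul_left]
    simp only [List.getD_cons_zero, pow_zero, mul_one]
    congr 1
    refine congrArg List.sum (List.map_congr_left fun i _ => ?_)
    simp only [Function.comp, List.getD_cons_succ, pow_succ]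
    push_cast
    ring

theorem toNat_encI {x : GolayPt → ℤ} (hx : sqNorm x ≤ 1000000) :
    (encI x + offI).toNat =
      (((List.range 24).map fun i => x (ptOf i)).map fun a => (a + 32768).toNat).foldr
        (fun a W => a + 65536 * W) 0 ∧
    ∀ a ∈ (List.range 24).map (fun i => x (ptOf i)), -32768 ≤ a ∧ a < 32768 := by
  have hb : ∀ a ∈ (List.range 24).map (fun i => x (ptOf i)), -32768 ≤ a ∧ a < 32768 := by
    intro a ha
    obtain ⟨i, -, rfl⟩ := List.mem_map.mp ha
    have := abs_le_of_sqNorm hx (ptOf i)
    constructor <;> nlinarith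
  refine ⟨Int.ofNat_inj.mp ?_, hb⟩
  have e := fold_cast _ hb
  rw [List.length_map, List.length_range] at e
  have e2 : ((List.range 24).map fun i =>
      (((List.range 24).map fun i => x (ptOf i)).getD i 0 + 32768) * (65536 : ℤ) ^ i).sum =
      encI x + offI := by
    rw [encI, offI, encI, ← List.sum_map_add]
    refine congrArg List.sum (List.map_congr_left fun i hi => ?_)
    rw [List.getD_eq_getElem _ _ (by simpa using hi)]
    simp [add_mul]
  rw [e2] at e
  rw [← e]
  rfl

theorem encI_add (x y : GolayPt → ℤ) : encI (x + y) = encI x + encI y := by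
  simp [encI, add_mul, List.sum_map_add]

theorem HasMat.apply {g : Co0} {R : List ℤ} (h : HasMat g R) (x : leechLattice)
    (hx : sqNorm x.1 ≤ 1000000) : encI (g • x).1 = appI R (encI x.1) := by
  obtain ⟨hlen, hR⟩ := h
  obtain ⟨e, hb⟩ := toNat_encI hx
  rw [appI, e, digit_sum _ hb R (by simpa using hlen)]
  let φ : leechLattice →+ ℤ := AddMonoidHom.mk' (fun v => encI (g • v).1) fun a b => by
    rw [co0_add, AddSubgroup.coe_add, encI_add]
  have hsum : (8 : ℤ) • x = ∑ j, x.1 j • crossL j := by
    refine Subtype.ext (funext fun p => ?_)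
    rw [AddSubgroup.coe_zsmul, AddSubgroup.val_finset_sum, Finset.sum_apply,
      Finset.sum_eq_single p (fun j _ hj => by simp [crossL, cross, Ne.symm hj]) (by simp)]
    simp [crossL, cross, mul_comm]
  have h8 := congrArg φ hsum
  rw [map_zsmul, map_sum] at h8
  simp only [map_zsmul, smul_eq_mul] at h8
  have hz : (((List.range 24).map fun i => x.1 (ptOf i)).zip R).map (fun z => z.1 * z.2) =
      (List.range 24).map fun i => x.1 (ptOf i) * φ (crossL (ptOf i)) := by
    refine List.ext_getElem (by simp [hlen]) fun i h1 h2 => ?_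
    simp only [List.getElem_map, List.getElem_zip, List.getElem_range]
    have hi : i < 24 := by simpa using h2
    have := hR i hi
    rw [List.getD_eq_getElem _ _ (by omega)] at this
    rw [this]
    rfl
  rw [hz, ← sum_ptOf fun p => x.1 p * φ (crossL p), ← h8]
  show _ = 8 * φ x / 8
  rw [Int.mul_ediv_cancel_left _ (by norm_num)]
  rfl

theorem sqNorm_cross_smul (g : Co0) (j : GolayPt) : sqNorm (g • crossL j).1 ≤ 1000000 := by
  rw [show sqNorm (g • crossL j).1 = sqNorm (crossL j).1 from g.2.2 _,
    show (crossL j).1 = cross j from rfl, sqNorm_cross]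
  norm_num

/-- The product of two matrices. -/
def mulI (A B : List ℤ) : List ℤ := B.map (appI A)

theorem HasMat.mul {g h : Co0} {A B : List ℤ} (hA : HasMat g A) (hB : HasMat h B) :
    HasMat (g * h) (mulI A B) := by
  refine ⟨by simpa [mulI] using hB.1, fun i hi => ?_⟩
  rw [mulI, List.getD_eq_getElem _ _ (by simpa [hB.1] using hi), List.getElem_map]
  have := hB.2 i hi
  rw [List.getD_eq_getElem _ _ (by rw [hB.1]; exact hi)] at this
  rw [this, mul_smul, ← hA.apply _ (sqNorm_cross_smul _ _)]

/-- A power of a matrix acting. -/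
def powI (A : List ℤ) : ℕ → ℤ → ℤ
  | 0, V => V
  | n + 1, V => appI A (powI A n V)

theorem HasMat.pow_apply {g : Co0} {A : List ℤ} (hA : HasMat g A) (x : leechLattice)
    (hx : sqNorm x.1 ≤ 1000000) : ∀ n, encI ((g ^ n) • x).1 = powI A n (encI x.1)
  | 0 => by rw [pow_zero, one_smul]; rfl
  | n + 1 => by
    rw [pow_succ', mul_smul, hA.apply _ (by rw [sqNorm_co0']; exact hx), hA.pow_apply x hx n]
    rfl
where
  sqNorm_co0' {k : Co0} : sqNorm (k • x).1 = sqNorm x.1 := k.2.2 x

/-- A word acting on a packed vector, each letter by a map. -/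
def wordI (a b c : ℤ → ℤ) : List ℕ → ℤ → ℤ
  | [], V => V
  | 0 :: w, V => a (wordI a b c w V)
  | 1 :: w, V => b (wordI a b c w V)
  | (_ + 2) :: w, V => c (wordI a b c w V)

/-- A map of packed vectors represents an element on vectors of bounded length. -/
def Acts (g : Co0) (a : ℤ → ℤ) : Prop :=
  ∀ x : leechLattice, sqNorm x.1 ≤ 1000000 → encI (g • x).1 = a (encI x.1)

theorem Acts.mul {g h : Co0} {a b : ℤ → ℤ} (hg : Acts g a) (hh : Acts h b) :
    Acts (g * h) (a ∘ b) := fun x hx => by
  rw [mul_smul, hg _ (by rw [show sqNorm (h • x).1 = sqNorm x.1 from h.2.2 x]; exact hx), hh x hx]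
  rfl

theorem HasMat.acts {g : Co0} {A : List ℤ} (hA : HasMat g A) : Acts g (appI A) := hA.apply

theorem HasMat.acts_pow {g : Co0} {A : List ℤ} (hA : HasMat g A) (n : ℕ) :
    Acts (g ^ n) (powI A n) := fun x hx => hA.pow_apply x hx n

theorem acts_word {a b c : Co0} {A B C : ℤ → ℤ} (ha : Acts a A) (hb : Acts b B) (hc : Acts c C) :
    ∀ w, Acts (AutCert.word3 a b c w) (wordI A B C w)
  | [] => fun x _ => by rw [AutCert.word3, one_smul]; rfl
  | 0 :: w => ha.mul (acts_word ha hb hc w)
  | 1 :: w => hb.mul (acts_word ha hb hc w)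
  | (i + 2) :: w => hc.mul (acts_word ha hb hc w)

theorem encI_inj {x y : GolayPt → ℤ} (hx : sqNorm x ≤ 1000000) (hy : sqNorm y ≤ 1000000)
    (h : encI x = encI y) : x = y := by
  obtain ⟨ex, bx⟩ := toNat_encI hx
  obtain ⟨ey, by'⟩ := toNat_encI hy
  funext p
  have key : ∀ R : List ℤ, R.length = 24 →
      ((((List.range 24).map fun i => x (ptOf i)).zip R).map fun z => z.1 * z.2).sum =
      ((((List.range 24).map fun i => y (ptOf i)).zip R).map fun z => z.1 * z.2).sum := by
    intro R hR
    rw [← digit_sum _ bx R (by simpa using hR), ← digit_sum _ by' R (by simpa using hR), ← ex,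
      ← ey, h]
  have := key ((List.range 24).map fun i => if ptOf i = p then 1 else 0) (by simp)
  rw [List.zip_map', List.zip_map', List.map_map, List.map_map] at this
  simp only [Function.comp_def] at this
  rw [← sum_ptOf fun q => x q * if q = p then 1 else 0,
    ← sum_ptOf fun q => y q * if q = p then 1 else 0] at this
  simpa using this

/-- Two maps agree on the cross. -/
def sameI (a b : ℤ → ℤ) : Bool :=
  (List.range 24).all fun i => a (encI (cross (ptOf i))) == b (encI (cross (ptOf i)))

theorem Acts.eq {g h : Co0} {a b : ℤ → ℤ} (hg : Acts g a) (hh : Acts h b)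
    (e : sameI a b = true) : g = h := by
  refine co0_ext fun j => Subtype.ext ?_
  refine encI_inj (sqNorm_cross_smul _ _) (sqNorm_cross_smul _ _) ?_
  have h1 : sqNorm (crossL j).1 ≤ 1000000 := by
    rw [show (crossL j).1 = cross j from rfl, sqNorm_cross]; norm_num
  rw [hg _ h1, hh _ h1]
  have := List.all_eq_true.mp e (ptIdx j) (List.mem_range.mpr (ptIdx_lt j))
  rw [beq_iff_eq, ptOf_ptIdx] at this
  exact this

/-- A map moves a cross vector. -/
def movesI (a : ℤ → ℤ) : Bool :=
  (List.range 24).any fun i => !(a (encI (cross (ptOf i))) == encI (cross (ptOf i)))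

theorem Acts.ne_one {g : Co0} {a : ℤ → ℤ} (hg : Acts g a) (e : movesI a = true) : g ≠ 1 := by
  rintro rfl
  simp only [movesI, List.any_eq_true, Bool.not_eq_true', beq_eq_false_iff_ne] at e
  obtain ⟨i, -, hi⟩ := e
  refine hi ?_
  have h1 : sqNorm (crossL (ptOf i)).1 ≤ 1000000 := by
    rw [show (crossL (ptOf i)).1 = cross (ptOf i) from rfl, sqNorm_cross]; norm_num
  have := hg _ h1
  rw [one_smul] at this
  exact this.symm

/-! ### Fixed vectors of a permutation -/

/-- The vector with the given values on the orbits. -/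
def vecOrb : List (List ℕ) → List ℤ → GolayPt → ℤ
  | o :: os, v :: vs, p => bif o.contains (ptIdx p) then v else vecOrb os vs p
  | _, _, _ => 0

/-- The values with the given weighted squared length and two weighted sums. -/
def searchVals (dom : List ℤ) : List (ℕ × ℤ × ℤ) → ℕ → ℤ → ℤ → List (List ℤ)
  | [], rem, s, t => bif Nat.beq rem 0 && (s == 0) && (t == 0) then [[]] else []
  | (n, a, b) :: os, rem, s, t =>
    dom.flatMap fun v =>
      bif Nat.ble (n * (v.natAbs * v.natAbs)) rem then
        (searchVals dom os (rem - n * (v.natAbs * v.natAbs)) (s - a * v) (t - b * v)).map (v :: ·)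
      else []

theorem mem_searchVals {dom : List ℤ} : ∀ {os : List (ℕ × ℤ × ℤ)} {vs : List ℤ} {rem : ℕ} {s t : ℤ},
    os.length = vs.length → (∀ v ∈ vs, v.natAbs ≤ 5 → v ∈ dom) → rem ≤ 32 → (∀ o ∈ os, 0 < o.1) →
    (rem : ℤ) = ((os.zip vs).map fun z => (z.1.1 : ℤ) * z.2 ^ 2).sum →
    s = ((os.zip vs).map fun z => z.1.2.1 * z.2).sum →
    t = ((os.zip vs).map fun z => z.1.2.2 * z.2).sum → vs ∈ searchVals dom os rem s t
  | [], [], rem, s, t, _, _, _, _, h1, h2, h3 => by
    simp only [List.zip_nil_left, List.map_nil, List.sum_nil, Nat.cast_eq_zero] at h1 h2 h3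
    subst h1 h2 h3
    simp [searchVals]
  | (n, a, b) :: os, v :: vs, rem, s, t, hl, hdom, hrem, hpos, h1, h2, h3 => by
    simp only [List.zip_cons_cons, List.map_cons, List.sum_cons] at h1 h2 h3
    have hn : 0 < n := hpos _ List.mem_cons_self
    have hsum : 0 ≤ ((os.zip vs).map fun z => (z.1.1 : ℤ) * z.2 ^ 2).sum :=
      List.sum_nonneg fun z hz => by
        obtain ⟨y, -, rfl⟩ := List.mem_map.mp hz
        positivity
    have hsq : ((v.natAbs * v.natAbs : ℕ) : ℤ) = v ^ 2 := by
      push_cast; rw [← sq, sq_abs]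
    have hle : n * (v.natAbs * v.natAbs) ≤ rem := by
      have : ((n * (v.natAbs * v.natAbs) : ℕ) : ℤ) ≤ rem := by
        rw [Nat.cast_mul, hsq, h1]; linarith
      exact_mod_cast this
    have hv : v.natAbs * v.natAbs ≤ 32 := le_trans (Nat.le_mul_of_pos_left _ hn) (hle.trans hrem)
    have hv5 : v ∈ dom := by
      have : v.natAbs ≤ 5 := by
        by_contra hc
        have := Nat.mul_le_mul (show 6 ≤ v.natAbs by omega) (show 6 ≤ v.natAbs by omega)
        omega
      exact hdom v List.mem_cons_self this
    simp only [searchVals, List.mem_flatMap]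
    refine ⟨v, hv5, ?_⟩
    rw [Nat.ble_eq.mpr hle, cond_true, List.mem_map]
    refine ⟨vs, mem_searchVals (by simpa using hl)
      (fun w hw => hdom w (List.mem_cons_of_mem _ hw)) (by omega)
      (fun o ho => hpos o (List.mem_cons_of_mem _ ho)) ?_ (by rw [h2]; ring) (by rw [h3]; ring), rfl⟩
    rw [Nat.cast_sub hle, Nat.cast_mul, hsq, h1]; ring
  | [], _ :: _, _, _, _, hl, _, _, _, _, _, _ => by simp at hl
  | _ :: _, [], _, _, _, hl, _, _, _, _, _, _ => by simp at hl

/-- The orbits partition the positions and are cycles of the code. -/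
def orbsB (q : ℕ) (os : List (List ℕ)) : Bool :=
  decide (os.flatten.Perm (List.range 24)) &&
  os.all fun o => !o.isEmpty &&
    (List.range (o.length - 1)).all fun i => Nat.beq (getC q (o.getD i 0)) (o.getD (i + 1) 0)

/-- The weights of the orbits for two vectors. -/
def orbData (a b : GolayPt → ℤ) (os : List (List ℕ)) : List (ℕ × ℤ × ℤ) :=
  os.map fun o => (o.length, (o.map fun i => a (ptOf i)).sum, (o.map fun i => b (ptOf i)).sum)

/-- Candidates for the fixed vectors of squared length 32 with given inner products. -/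
def fixedCands (a b : GolayPt → ℤ) (os : List (List ℕ)) (s t : ℤ) : List (GolayPt → ℤ) :=
  ((searchVals [-4, -2, 0, 2, 4] (orbData a b os) 32 s t ++
      searchVals [-5, -3, -1, 1, 3, 5] (orbData a b os) 32 s t).map (vecOrb os)).filter fun x =>
    keyBasis.all fun d => dotL d x % 8 == 0

theorem vecOrb_of_const : ∀ {os : List (List ℕ)} {f : List ℕ → ℤ} {p : GolayPt},
    (∃ o ∈ os, ptIdx p ∈ o) → ∀ {x : GolayPt → ℤ},
    (∀ o ∈ os, ∀ i ∈ o, x (ptOf i) = f o) → vecOrb os (os.map f) p = x p
  | [], _, p, h, _, _ => by obtain ⟨o, ho, -⟩ := h; simp at ho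
  | o :: os, f, p, h, x, hx => by
    rw [List.map_cons, vecOrb]
    cases hc : o.contains (ptIdx p)
    · rw [cond_false]
      refine vecOrb_of_const ?_ fun o' ho' => hx o' (List.mem_cons_of_mem _ ho')
      obtain ⟨o', ho', hp⟩ := h
      rcases List.mem_cons.mp ho' with rfl | ho'
      · simp only [List.contains_iff_mem.mpr hp] at hc
        exact absurd hc (by simp)
      · exact ⟨o', ho', hp⟩
    · rw [cond_true, ← hx o List.mem_cons_self _ (List.contains_iff_mem.mp hc), ptOf_ptIdx]

theorem mem_fixedCands {q : ℕ} {os : List (List ℕ)} (hos : orbsB q os = true)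
    {x : leechLattice} (hinv : ∀ p, x.1 (codeFun q p) = x.1 p) (hN : sqNorm x.1 = 32)
    (a b : GolayPt → ℤ) {s t : ℤ} (ha : dotInt a x.1 = s) (hb : dotInt b x.1 = t) :
    x.1 ∈ fixedCands a b os s t := by
  simp only [orbsB, Bool.and_eq_true, decide_eq_true_eq, List.all_eq_true, Bool.not_eq_true',
    List.mem_range] at hos
  obtain ⟨hperm, hcyc⟩ := hos
  have hlt : ∀ o ∈ os, ∀ i ∈ o, i < 24 := fun o ho i hi =>
    List.mem_range.mp (hperm.mem_iff.mp (List.mem_flatten.mpr ⟨o, ho, hi⟩))
  set f : List ℕ → ℤ := fun o => x.1 (ptOf (o.getD 0 0)) with hf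
  have hconst : ∀ o ∈ os, ∀ i ∈ o, x.1 (ptOf i) = f o := by
    intro o ho i hi
    obtain ⟨k, hk, rfl⟩ := List.getElem_of_mem hi
    induction k with
    | zero => rw [hf]; simp only; rw [List.getD_eq_getElem _ _ hk]
    | succ k ih =>
      have h' := Nat.eq_of_beq_eq_true ((hcyc o ho).2 k (by omega))
      rw [List.getD_eq_getElem _ _ hk, List.getD_eq_getElem _ _ (by omega : k < o.length)] at h'
      rw [← ih (by omega) (List.getElem_mem _), ← hinv (ptOf o[k]), codeFun,
        ptIdx_ptOf _ (hlt o ho _ (List.getElem_mem _)), h']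
  have hvec : x.1 = vecOrb os (os.map f) := funext fun p => (vecOrb_of_const
    (List.mem_flatten.mp (hperm.mem_iff.mpr (List.mem_range.mpr (ptIdx_lt p)))) hconst).symm
  have key : ∀ g : ℕ → ℤ → ℤ, ((List.range 24).map fun i => g i (x.1 (ptOf i))).sum =
      (os.map fun o => (o.map fun i => g i (f o)).sum).sum := by
    intro g
    rw [← (hperm.map _).sum_eq, List.map_flatten, List.sum_flatten, List.map_map]
    refine congrArg List.sum (List.map_congr_left fun o ho => ?_)
    exact congrArg List.sum (List.map_congr_left fun i hi => by rw [hconst o ho i hi])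
  have hpar : ∀ v ∈ os.map f, v % 2 = x.1 none % 2 := by
    intro v hv
    obtain ⟨o, -, rfl⟩ := List.mem_map.mp hv
    exact ((mem_leechLattice_iff_none x.1).mp x.2).1 _
  have hsel : ∀ D : List ℤ, (∀ v : ℤ, v.natAbs ≤ 5 → v % 2 = x.1 none % 2 → v ∈ D) →
      os.map f ∈ searchVals D (orbData a b os) 32 s t := by
    intro D hD
    refine mem_searchVals ?_ (fun v hv h5 => hD v h5 (hpar v hv)) le_rfl ?_ ?_ ?_ ?_
    · simp [orbData]
    · intro o ho
      obtain ⟨o', ho', rfl⟩ := List.mem_map.mp ho
      exact List.length_pos_iff.mpr (List.isEmpty_eq_false_iff.mp (hcyc o' ho').1)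
    · rw [orbData, List.zip_map', List.map_map, Nat.cast_ofNat, ← hN, sqNorm, sum_ptOf]
      rw [key fun _ v => v ^ 2]
      refine congrArg List.sum (List.map_congr_left fun o _ => ?_)
      simp
    · rw [orbData, List.zip_map', List.map_map, ← ha, dotInt, sum_ptOf]
      rw [key fun i v => a (ptOf i) * v]
      refine congrArg List.sum (List.map_congr_left fun o _ => ?_)
      simp [List.sum_map_mul_right]
    · rw [orbData, List.zip_map', List.map_map, ← hb, dotInt, sum_ptOf]
      rw [key fun i v => b (ptOf i) * v]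
      refine congrArg List.sum (List.map_congr_left fun o _ => ?_)
      simp [List.sum_map_mul_right]
  refine List.mem_filter.mpr ⟨List.mem_map.mpr ⟨os.map f, ?_, hvec.symm⟩, ?_⟩
  · refine List.mem_append.mpr ?_
    rcases Int.emod_two_eq_zero_or_one (x.1 none) with h | h
    · refine Or.inl (hsel _ fun v h5 hv => ?_)
      simp only [List.mem_cons, List.not_mem_nil, or_false]
      omega
    · refine Or.inr (hsel _ fun v h5 hv => ?_)
      simp only [List.mem_cons, List.not_mem_nil, or_false]
      omega
  · rw [List.all_eq_true]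
    intro d hd
    rw [beq_iff_eq]
    exact Int.emod_eq_zero_of_dvd (eight_dvd_dotL hd x.2)

end Cfsg.Agent.Leech
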