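import Cfsg.Agent.Leech.Orbit4600

/-!
Inner products of the minimal vectors with a fixed one.
-/

set_option autoImplicit false

namespace Cfsg.Agent.Leech

open Cfsg

theorem count47104 :
    {x : leechLattice | sqNorm x.1 = 32 ∧ dotInt pU.1 x.1 = -8}.ncard = 47104 :=
  ncard_min_dot_grouped (threeVals 4 4 0) (by decide) (-8) 47104
    [[0, 0, 0, 0, 0, 0, 0, 0], [4, 0, 0, 0, 0, 0, 0, 0], [0, 0, 0, 0, 0, 0, 0, 4],
      [4, 0, 0, 0, 0, 0, 0, 4]] (by decide +kernel)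

theorem count93150 :
    {x : leechLattice | sqNorm x.1 = 32 ∧ dotInt pU.1 x.1 = 0}.ncard = 93150 :=
  ncard_min_dot_grouped (threeVals 4 4 0) (by decide) 0 93150
    [[0, 0, 0, 0, 0, 0, 0, 0], [4, 0, 0, 0, 0, 0, 0, 0], [0, 0, 0, 0, 0, 0, 0, 4],
      [4, 0, 0, 0, 0, 0, 0, 4]] (by decide +kernel)

/-- The census in coordinates. -/
theorem ncard_census {v : GolayPt → ℤ} (hv : v ∈ leechLattice) (hN : sqNorm v = 32) (t : ℤ) :
    {w : GolayPt → ℤ | w ∈ leechLattice ∧ sqNorm w = 32 ∧ dotInt v w = t}.ncard =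
      {x : leechLattice | sqNorm x.1 = 32 ∧ dotInt pU.1 x.1 = t}.ncard := by
  obtain ⟨g, hg⟩ := exists_to_pU (v := ⟨v, hv⟩) hN
  refine Eq.trans ?_ (ncard_smul_setOf g fun x => sqNorm x.1 = 32 ∧ dotInt pU.1 x.1 = t)
  refine Set.ncard_congr (fun w hw => (⟨w, hw.1⟩ : leechLattice)) (fun w hw => ?_)
    (fun w w' _ _ h => congrArg Subtype.val h) (fun y hy => ?_)
  · refine ⟨(sqNorm_co0 g _).trans hw.2.1, ?_⟩
    rw [← hg, co0_dotInt]
    exact hw.2.2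
  · obtain ⟨h1, h2⟩ := hy
    rw [sqNorm_co0] at h1
    rw [← hg, co0_dotInt] at h2
    exact ⟨y.1, ⟨y.2, h1, h2⟩, rfl⟩

end Cfsg.Agent.Leech
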