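import Cfsg.Agent.Leech.Transitive

/-!
A list of all minimal vectors, and evaluable counts of those with a given inner product.
-/

set_option autoImplicit false

namespace Cfsg.Agent.Leech

open Cfsg Cfsg.Agent.Golay

/-- The vector with given coordinates in position order. -/
def ofList (us : List ℤ) : GolayPt → ℤ := fun p => us.getD (ptIdx p) 0

/-- A multiple of a coordinate vector, by position. -/
def posVec (i : ℕ) (a : ℤ) : GolayPt → ℤ := fun p => if ptIdx p = i then a else 0

/-- The vectors with two coordinates of absolute value 4. -/
def pairList : List (GolayPt → ℤ) :=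
  (List.range 24).flatMap fun i => (List.range 24).flatMap fun j =>
    bif Nat.blt i j then
      [posVec i 4 + posVec j 4, posVec i 4 + posVec j (-4), posVec i (-4) + posVec j 4,
        posVec i (-4) + posVec j (-4)]
    else []

/-- The vectors `±2` on the given positions, with given parity of the number of minus signs. -/
def signVecs : List ℕ → Bool → List (GolayPt → ℤ)
  | [], odd => bif odd then [] else [0]
  | i :: l, odd => (signVecs l odd).map (fun v => posVec i 2 + v) ++
      (signVecs l (!odd)).map (fun v => posVec i (-2) + v)

/-- The positions of the set bits. -/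
def posList (r : ℕ) : List ℕ := (List.range 24).filter fun i => r.testBit i

/-- The indices of the octads. -/
def octIdx : List ℕ := (List.range 4096).filter fun k => pop24 (Golay.enc k) == 8

/-- The vectors supported on an octad. -/
def octList : List (GolayPt → ℤ) :=
  octIdx.flatMap fun k => signVecs (posList (Golay.enc k)) false

/-- The vector with `-3` at a position and `1` elsewhere. -/
def threeVec (i : ℕ) : GolayPt → ℤ := fun p => if ptIdx p = i then -3 else 1

/-- The vectors with odd coordinates. -/
def oddList : List (GolayPt → ℤ) :=
  (List.range 4096).flatMap fun k => (List.range 24).map fun i =>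
    fun p => bif (Golay.enc k).testBit (ptIdx p) then -threeVec i p else threeVec i p

/-- The minimal vectors. -/
def minList : List (GolayPt → ℤ) := pairList ++ octList ++ oddList

/-! ### Counting by inner product -/

/-- The sums reached by sign choices. -/
def signSums : List ℤ → Bool → List ℤ
  | [], odd => bif odd then [] else [0]
  | a :: l, odd => (signSums l odd).map (fun s => Int.add (a * 2) s) ++
      (signSums l (!odd)).map (fun s => Int.add (a * (-2)) s)

/-- A coordinate with the sign of a mask. -/
def signedVal (us : List ℤ) (r j : ℕ) : ℤ := bif r.testBit j then -us.getD j 0 else us.getD j 0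

/-- The signed sum. -/
def signedTotal : List ℤ → ℕ → ℤ
  | [], _ => 0
  | a :: l, r => Int.add (bif Nat.beq (Nat.mod r 2) 1 then Int.neg a else a) (signedTotal l (Nat.div r 2))

/-- The number of signed values equal to a given one. -/
def signedHits : List ℤ → ℕ → ℤ → ℕ
  | [], _, _ => 0
  | a :: l, r, d =>
    (bif (bif Nat.beq (Nat.mod r 2) 1 then Int.neg a else a) == d then 1 else 0) +
      signedHits l (Nat.div r 2) d

/-- All code words, in the order of their indices. -/
def wordTab : List ℕ → List ℕ
  | [] => [0]
  | r :: l => (wordTab l).flatMap fun x => [x, r ^^^ x]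

/-- Number of minimal vectors with inner product `T` with the vector of coordinates `us`. -/
def countMin (us : List ℤ) (T : ℤ) : ℕ :=
  ((List.range 24).map fun i => ((List.range 24).map fun j =>
      bif Nat.blt i j then
        [us.getD i 0 * 4 + us.getD j 0 * 4, us.getD i 0 * 4 + us.getD j 0 * (-4),
          us.getD i 0 * (-4) + us.getD j 0 * 4,
          us.getD i 0 * (-4) + us.getD j 0 * (-4)].countP fun s => s == T
      else 0).sum).sum +
    ((wordTab rows).map fun r =>
      bif pop24 r == 8 then
        (signSums ((posList r).map fun i => us.getD i 0) false).countP fun s => s == T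
      else 0).sum +
    ((wordTab rows).map fun r =>
      signedHits (us.map fun a => a * 4) r (Int.sub (signedTotal us r) T)).sum

theorem wordTab_eq : wordTab rows = (List.range 4096).map Golay.enc := by
  have h : (wordTab rows == (List.range 4096).map Golay.enc) = true := by decide +kernel
  exact eq_of_beq h

theorem signedVal_cons (a : ℤ) (l : List ℤ) (r j : ℕ) :
    signedVal (a :: l) r (j + 1) = signedVal l (r / 2) j := by
  simp [signedVal, Nat.testBit_succ]

theorem signedVal_zero (a : ℤ) (l : List ℤ) (r : ℕ) :
    (bif Nat.beq (Nat.mod r 2) 1 then Int.neg a else a) = signedVal (a :: l) r 0 := by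
  have : r.testBit 0 = Nat.beq (Nat.mod r 2) 1 := by
    rw [Nat.testBit_zero]
    rcases Nat.mod_two_eq_zero_or_one r with h | h <;>
      simp only [h, show Nat.mod r 2 = r % 2 from rfl] <;> rfl
  simp only [signedVal, this, List.getD_cons_zero]
  rfl

theorem signedTotal_eq : ∀ (l : List ℤ) (r : ℕ),
    signedTotal l r = ((List.range l.length).map fun j => signedVal l r j).sum
  | [], _ => rfl
  | a :: l, r => by
    rw [signedTotal, signedTotal_eq l, signedVal_zero a l, List.length_cons,
      List.range_succ_eq_map, List.map_cons, List.sum_cons, List.map_map]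
    refine congrArg₂ (fun a b : ℤ => a + b) rfl (congrArg List.sum (List.map_congr_left fun j _ => ?_))
    exact (signedVal_cons a l r j).symm

theorem signedHits_eq : ∀ (l : List ℤ) (r : ℕ) (d : ℤ),
    signedHits l r d = (List.range l.length).countP fun j => signedVal l r j == d
  | [], _, _ => rfl
  | a :: l, r, d => by
    rw [signedHits, signedHits_eq l, signedVal_zero a l, List.length_cons,
      List.range_succ_eq_map, List.countP_cons, List.countP_map, add_comm]
    refine congrArg₂ (fun a b : ℕ => a + b) (List.countP_congr fun j _ => ?_) ?_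
    · rw [Function.comp_apply, signedVal_cons]; rfl
    · cases (signedVal (a :: l) r 0 == d) <;> rfl

theorem ptIdx_ptOf : ∀ i < 24, ptIdx (ptOf i) = i := by decide +kernel

theorem dot_posVec (us : List ℤ) {i : ℕ} (hi : i < 24) (a : ℤ) :
    dotInt (ofList us) (posVec i a) = us.getD i 0 * a := by
  rw [dotInt, Finset.sum_eq_single (ptOf i)]
  · simp only [posVec, ofList, ptIdx_ptOf i hi, if_true]
  · intro p _ hp
    have : ptIdx p ≠ i := fun h => hp (by rw [← h, ptOf_ptIdx])
    simp only [posVec, if_neg this, mul_zero]
  · simp

theorem dot_add (u x y : GolayPt → ℤ) : dotInt u (x + y) = dotInt u x + dotInt u y := by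
  simp only [dotInt, Pi.add_apply, mul_add, Finset.sum_add_distrib]

theorem map_dot_signVecs (us : List ℤ) : ∀ (l : List ℕ) (odd : Bool), (∀ i ∈ l, i < 24) →
    (signVecs l odd).map (dotInt (ofList us)) = signSums (l.map fun i => us.getD i 0) odd := by
  intro l
  induction l with
  | nil => intro odd _; cases odd <;> simp [signVecs, signSums, dotInt]
  | cons i l ih =>
    intro odd h
    have hl : ∀ j ∈ l, j < 24 := fun j hj => h j (List.mem_cons_of_mem _ hj)
    have hi := h i List.mem_cons_self
    simp only [signVecs, List.map_cons, signSums, List.map_append, List.map_map, ← ih _ hl]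
    congr 1 <;> refine List.map_congr_left fun v _ => ?_ <;>
      simp only [Function.comp_apply, dot_add, dot_posVec us hi] <;> rfl

theorem dot_oddVec (us : List ℤ) (k : ℕ) {i : ℕ} (hi : i < 24) :
    dotInt (ofList us) (fun p => bif (Golay.enc k).testBit (ptIdx p) then -threeVec i p
        else threeVec i p) =
      ((List.range 24).map fun j => signedVal us (Golay.enc k) j).sum
        - signedVal us (Golay.enc k) i * 4 := by
  have h : ∀ p, ofList us p * (bif (Golay.enc k).testBit (ptIdx p) then -threeVec i p
        else threeVec i p) =
      signedVal us (Golay.enc k) (ptIdx p) -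
        (if p = ptOf i then signedVal us (Golay.enc k) i * 4 else 0) := by
    intro p
    by_cases hp : p = ptOf i
    · subst hp
      rw [ptIdx_ptOf i hi]
      simp only [threeVec, ofList, signedVal, ptIdx_ptOf i hi, if_true]
      cases (Golay.enc k).testBit i <;> simp <;> ring
    · have : ptIdx p ≠ i := fun h => hp (by rw [← h, ptOf_ptIdx])
      simp only [threeVec, ofList, signedVal, this, hp, if_false, sub_zero]
      cases (Golay.enc k).testBit (ptIdx p) <;> simp
  rw [dotInt, Finset.sum_congr rfl fun p _ => h p, Finset.sum_sub_distrib, Finset.sum_ite_eq',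
    if_pos (Finset.mem_univ _), sum_ptOf]
  congr 1

theorem countP_minList (us : List ℤ) (hlen : us.length = 24) (T : ℤ) :
    minList.countP (fun x => dotInt (ofList us) x == T) = countMin us T := by
  simp only [minList, List.countP_append, countMin]
  refine congrArg₂ (· + ·) (congrArg₂ (· + ·) ?_ ?_) ?_
  · rw [pairList, List.countP_flatMap]
    refine congrArg List.sum (List.map_congr_left fun i hi => ?_)
    simp only [Function.comp_apply, List.countP_flatMap]
    refine congrArg List.sum (List.map_congr_left fun j hj => ?_)
    simp only [Function.comp_apply]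
    cases Nat.blt i j
    · rfl
    · simp only [cond_true, List.countP_cons, List.countP_nil, dot_add,
        dot_posVec us (List.mem_range.mp hi), dot_posVec us (List.mem_range.mp hj)]
  · rw [octList, List.countP_flatMap, wordTab_eq, List.map_map, octIdx]
    have key : ∀ (L : List ℕ) (q : ℕ → Bool) (f : ℕ → ℕ),
        ((L.filter q).map f).sum = (L.map fun k => bif q k then f k else 0).sum := by
      intro L q f
      induction L with
      | nil => rfl
      | cons x L ih => cases h : q x <;> simp [List.filter_cons, h, ih]
    rw [key]
    refine congrArg List.sum (List.map_congr_left fun k _ => ?_)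
    simp only [Function.comp_apply]
    cases pop24 (Golay.enc k) == 8
    · rfl
    · simp only [cond_true]
      have h24 : ∀ i ∈ posList (Golay.enc k), i < 24 := fun i hi =>
        List.mem_range.mp (List.mem_filter.mp hi).1
      rw [← map_dot_signVecs us (posList (Golay.enc k)) false h24, List.countP_map]
      rfl
  · rw [oddList, List.countP_flatMap, wordTab_eq, List.map_map]
    refine congrArg List.sum (List.map_congr_left fun k _ => ?_)
    simp only [Function.comp_apply]
    rw [List.countP_map, signedHits_eq, signedTotal_eq, List.length_map, hlen]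
    refine List.countP_congr fun i hi => ?_
    have h4 : signedVal (us.map fun a => a * 4) (Golay.enc k) i =
        signedVal us (Golay.enc k) i * 4 := by
      have e : (us.map fun a => a * 4).getD i 0 = us.getD i 0 * 4 := by
        rw [List.getD_eq_getElem?_getD, List.getD_eq_getElem?_getD, List.getElem?_map]
        cases us[i]? <;> simp
      simp only [signedVal, e]
      cases (Golay.enc k).testBit i <;> simp
    simp only [Function.comp_apply, beq_iff_eq, dot_oddVec us k (List.mem_range.mp hi), h4]
    show _ ↔ _ = _ - T
    omega

/-! ### Grouped evaluation -/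

/-- The value lists on the octads. -/
def octVals (us : List ℤ) : List (List ℤ) :=
  ((wordTab rows).filter fun r => pop24 r == 8).map fun r => (posList r).map fun i => us.getD i 0

/-- The count, evaluated once for each value list in `cands`. -/
def countMinG (us : List ℤ) (T : ℤ) (cands : List (List ℤ)) : ℕ :=
  ((List.range 24).map fun i => ((List.range 24).map fun j =>
      bif Nat.blt i j then
        [us.getD i 0 * 4 + us.getD j 0 * 4, us.getD i 0 * 4 + us.getD j 0 * (-4),
          us.getD i 0 * (-4) + us.getD j 0 * 4,
          us.getD i 0 * (-4) + us.getD j 0 * (-4)].countP fun s => s == T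
      else 0).sum).sum +
    (cands.map fun v => (octVals us).count v * (signSums v false).countP fun s => s == T).sum +
    ((wordTab rows).map fun r =>
      signedHits (us.map fun a => a * 4) r (Int.sub (signedTotal us r) T)).sum

/-- The candidates cover all the value lists, each listed once. -/
def candsB (us : List ℤ) (cands : List (List ℤ)) : Bool :=
  decide cands.Nodup && (octVals us).all fun v => cands.contains v

theorem countMinG_eq (us : List ℤ) (T : ℤ) (cands : List (List ℤ)) (h : candsB us cands = true) :
    countMinG us T cands = countMin us T := by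
  simp only [candsB, Bool.and_eq_true, decide_eq_true_eq, List.all_eq_true,
    List.contains_iff_mem] at h
  obtain ⟨hnd, hall⟩ := h
  simp only [countMinG, countMin]
  refine congrArg₂ (fun a b : ℕ => a + b) (congrArg₂ (fun a b : ℕ => a + b) rfl ?_) rfl
  set F : List ℤ → ℕ := fun v => (signSums v false).countP fun s => s == T with hF
  have key : ∀ L : List (List ℤ), (∀ v ∈ L, v ∈ cands) →
      (cands.map fun v => L.count v * F v).sum = (L.map F).sum := by
    intro L hL
    have hB : (List.instBEq : BEq (List ℤ)) = instBEqOfDecidableEq := by
      ext x y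
      exact Bool.eq_iff_iff.mpr (by simp)
    have hc : ∀ v, L.count v = @List.count _ instBEqOfDecidableEq v L := fun v => by rw [hB]
    simp only [hc]
    rw [← List.sum_toFinset _ hnd, Finset.sum_list_map_count]
    symm
    refine (Finset.sum_subset (fun v hv => List.mem_toFinset.mpr (hL v (List.mem_toFinset.mp hv)))
      fun v _ hv => ?_).trans (Finset.sum_congr rfl fun v _ => smul_eq_mul (α := ℕ) _ _)
    rw [← hc, List.count_eq_zero.mpr fun h => hv (List.mem_toFinset.mpr h), zero_smul]
  rw [key _ hall, octVals, List.map_map]
  simp only [hF, Function.comp_def]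
  generalize wordTab rows = L
  induction L with
  | nil => rfl
  | cons r L ih =>
    cases h : pop24 r == 8 <;>
      simp only [List.filter_cons, List.map_cons, List.sum_cons, h, cond_false, cond_true,
        if_true, Bool.false_eq_true, if_false, ← ih, Nat.zero_add]

theorem countMin_zero : countMin (List.replicate 24 0) 0 = 196560 := by
  have h : (candsB (List.replicate 24 0) [List.replicate 8 0] &&
      (countMinG (List.replicate 24 0) 0 [List.replicate 8 0] == 196560)) = true := by
    decide +kernel
  rw [Bool.and_eq_true, beq_iff_eq] at h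
  rw [← countMinG_eq _ _ _ h.1, h.2]

theorem length_minList : minList.length = 196560 := by
  rw [← countMin_zero, ← countP_minList _ (by decide), List.countP_eq_length.mpr]
  intro x _
  rw [beq_iff_eq, dotInt, show ofList (List.replicate 24 0) = 0 from by decide +kernel]
  simp

/-! ### Completeness -/

theorem mem_signVecs : ∀ (l : List ℕ), l.Nodup → (∀ i ∈ l, i < 24) → ∀ x : GolayPt → ℤ,
    (∀ p, ptIdx p ∈ l → x p = 2 ∨ x p = -2) → (∀ p, ptIdx p ∉ l → x p = 0) →
    ∀ odd, (odd = true ↔ ((∑ p, x p) - 2 * (l.length : ℤ)) / 4 % 2 = 1) → x ∈ signVecs l odd := by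
  intro l
  induction l with
  | nil =>
    intro _ _ x _ h0 odd hodd
    have hx : x = 0 := funext fun p => h0 p (by simp)
    subst hx
    cases odd
    · simp [signVecs]
    · simp at hodd
  | cons i l ih =>
    intro hnd h24 x hv h0 odd hodd
    rw [List.nodup_cons] at hnd
    have hi := h24 i List.mem_cons_self
    set a := x (ptOf i) with ha
    have hx' : x = posVec i a + (x - posVec i a) := by rw [add_sub_cancel]
    have hoff : ∀ p, ptIdx p ≠ i → (x - posVec i a) p = x p := fun p hp => by
      simp [posVec, hp]
    have hon : ∀ p, ptIdx p = i → (x - posVec i a) p = 0 := fun p hp => by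
      simp only [Pi.sub_apply, posVec, if_pos hp, ha]
      rw [← hp, ptOf_ptIdx, sub_self]
    have hmem : ∀ odd', (odd' = true ↔
        ((∑ p, (x - posVec i a) p) - 2 * (l.length : ℤ)) / 4 % 2 = 1) →
        x - posVec i a ∈ signVecs l odd' := by
      refine ih hnd.2 (fun j hj => h24 j (List.mem_cons_of_mem _ hj)) _ (fun p hp => ?_)
        (fun p hp => ?_)
      · rw [hoff p fun h => hnd.1 (h ▸ hp)]
        exact hv p (List.mem_cons_of_mem _ hp)
      · by_cases h : ptIdx p = i
        · exact hon p h
        · rw [hoff p h]
          exact h0 p (by simp [h, hp])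
    have hsum : ∑ p, (x - posVec i a) p = (∑ p, x p) - a := by
      simp only [Pi.sub_apply, Finset.sum_sub_distrib, sub_right_inj]
      rw [Finset.sum_eq_single (ptOf i)]
      · simp [posVec, ptIdx_ptOf i hi]
      · intro p _ hp
        simp only [posVec]
        rw [if_neg fun h => hp (by rw [← h, ptOf_ptIdx])]
      · simp
    rw [signVecs, List.mem_append, List.mem_map, List.mem_map]
    simp only [List.length_cons, Nat.cast_add, Nat.cast_one] at hodd
    rw [hsum] at hmem
    rcases hv (ptOf i) (by rw [ptIdx_ptOf i hi]; exact List.mem_cons_self) with h2 | h2 <;>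
      rw [← ha] at h2 <;> rw [h2] at hx' hmem
    · refine Or.inl ⟨_, hmem odd ?_, hx'.symm⟩
      rw [hodd]; omega
    · refine Or.inr ⟨_, hmem (!odd) ?_, hx'.symm⟩
      have h4 : (4 : ℤ) ∣ (∑ p, x p) - 2 * ((l.length : ℤ) + 1) := by
        have hp : ∀ p, (4 : ℤ) ∣ x p - (if ptIdx p ∈ i :: l then 2 else 0) := fun p => by
          split_ifs with h
          · rcases hv p h with e | e <;> rw [e] <;> norm_num
          · rw [h0 p h]; norm_num
        have hd := Finset.dvd_sum fun p (_ : p ∈ Finset.univ) => hp p
        rw [Finset.sum_sub_distrib] at hd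
        have hc : (∑ p : GolayPt, if ptIdx p ∈ i :: l then (2 : ℤ) else 0) =
            2 * ((l.length : ℤ) + 1) := by
          rw [← Finset.sum_filter, Finset.sum_const]
          have e : (Finset.univ.filter fun p : GolayPt => ptIdx p ∈ i :: l) =
              (i :: l).toFinset.image ptOf := by
            ext p
            simp only [Finset.mem_filter, Finset.mem_univ, true_and, Finset.mem_image,
              List.mem_toFinset]
            constructor
            · exact fun h => ⟨_, h, ptOf_ptIdx p⟩
            · rintro ⟨j, hj, rfl⟩
              rwa [ptIdx_ptOf j (h24 j hj)]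
          rw [e, Finset.card_image_of_injOn, List.toFinset_card_of_nodup
            (List.nodup_cons.mpr hnd), List.length_cons, nsmul_eq_mul]
          · push_cast; ring
          · intro j hj k hk h
            rw [Finset.mem_coe, List.mem_toFinset] at hj hk
            rw [← ptIdx_ptOf j (h24 j hj), h, ptIdx_ptOf k (h24 k hk)]
        rwa [hc] at hd
      cases odd
      · simp only [Bool.not_false, true_iff]
        simp only [Bool.false_eq_true, false_iff] at hodd
        omega
      · simp only [Bool.not_true, Bool.false_eq_true, false_iff]
        simp only [true_iff] at hodd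
        omega

theorem mem_pairList {i j : ℕ} (hij : i < j) (hj : j < 24) {a b : ℤ} (ha : a = 4 ∨ a = -4)
    (hb : b = 4 ∨ b = -4) : posVec i a + posVec j b ∈ pairList := by
  rw [pairList, List.mem_flatMap]
  refine ⟨i, List.mem_range.mpr (by omega), ?_⟩
  rw [List.mem_flatMap]
  refine ⟨j, List.mem_range.mpr hj, ?_⟩
  rw [show Nat.blt i j = true from Nat.blt_eq.mpr hij, cond_true]
  rcases ha with rfl | rfl <;> rcases hb with rfl | rfl <;> simp

theorem mem_minList {x : GolayPt → ℤ} (hx : x ∈ leechLattice) (hN : sqNorm x = 32) :
    x ∈ minList := by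
  simp only [minList, List.mem_append]
  rcases shape32 hx hN with ⟨-, e, e0⟩ | ⟨he, e, e0⟩ | ⟨ho, e, e1⟩
  · refine Or.inl (Or.inl ?_)
    obtain ⟨a, b, hab, hT⟩ := Finset.card_eq_two.mp e
    have habs := abs_two (x := x) (show (4 : ℕ) ≠ 0 by norm_num) (by omega)
    have hne : ptIdx a ≠ ptIdx b := fun h => hab (ptIdx_injective h)
    have h4 : ∀ p, (p = a ∨ p = b) → (x p = 4 ∨ x p = -4) := fun p hp => by
      have : (x p).natAbs = 4 := mem_absSet.mp (by
        rw [hT, Finset.mem_insert, Finset.mem_singleton]; exact hp)
      omega
    have hxe : x = posVec (ptIdx a) (x a) + posVec (ptIdx b) (x b) := by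
      funext p
      simp only [Pi.add_apply, posVec, ptIdx_injective.eq_iff]
      by_cases hpa : p = a
      · subst hpa; simp [hab]
      by_cases hpb : p = b
      · subst hpb; simp [hpa]
      · rw [if_neg hpa, if_neg hpb]
        rcases habs p with h | h
        · have := mem_absSet.mpr h
          rw [hT] at this
          simp [hpa, hpb] at this
        · omega
    rcases Nat.lt_or_gt_of_ne hne with h | h
    · rw [hxe]
      exact mem_pairList h (ptIdx_lt b) (h4 a (Or.inl rfl)) (h4 b (Or.inr rfl))
    · rw [hxe, add_comm]
      exact mem_pairList h (ptIdx_lt a) (h4 b (Or.inr rfl)) (h4 a (Or.inl rfl))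
  · refine Or.inl (Or.inr ?_)
    have habs := abs_two (x := x) (show (2 : ℕ) ≠ 0 by norm_num) (by omega)
    obtain ⟨u, hu, hus⟩ := absSet_two_support hx he (by omega) fun p => by
      rcases habs p with h | h <;> omega
    obtain ⟨k, hk, rfl⟩ := (mem_golayCode_iff _).mp hu
    rw [← bitSet_eq] at hus
    have hbit : ∀ p, (Golay.enc k).testBit (ptIdx p) = true ↔ (x p).natAbs = 2 := fun p => by
      rw [← mem_absSet, ← hus]
      simp [bitSet]
    rw [octList, List.mem_flatMap]
    refine ⟨k, ?_, ?_⟩
    · rw [octIdx, List.mem_filter, List.mem_range, beq_iff_eq, pop24_eq_sum]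
      refine ⟨hk, ?_⟩
      have : (Finset.range 24).filter (fun i => (Golay.enc k).testBit i = true) =
          (absSet x 2).image ptIdx := by
        ext i
        simp only [Finset.mem_filter, Finset.mem_range, Finset.mem_image, mem_absSet, ← hbit]
        constructor
        · exact fun ⟨hi, h⟩ => ⟨ptOf i, by rwa [ptIdx_ptOf i hi], ptIdx_ptOf i hi⟩
        · rintro ⟨p, hp, rfl⟩; exact ⟨ptIdx_lt p, hp⟩
      rw [show (∑ i ∈ Finset.range 24, ((Golay.enc k).testBit i).toNat) =
          ((Finset.range 24).filter fun i => (Golay.enc k).testBit i = true).card by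
        rw [Finset.card_filter]
        exact Finset.sum_congr rfl fun i _ => by cases (Golay.enc k).testBit i <;> rfl, this,
        Finset.card_image_of_injective _ ptIdx_injective]
      exact e
    · have hnd' : (posList (Golay.enc k)).Nodup := List.nodup_range.filter _
      have hlen : (posList (Golay.enc k)).length = 8 := by
        rw [← List.toFinset_card_of_nodup hnd', ← e]
        refine Finset.card_bij' (fun i _ => ptOf i) (fun p _ => ptIdx p) ?_ ?_ ?_ ?_
        · intro i hi
          rw [List.mem_toFinset, posList, List.mem_filter, List.mem_range] at hi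
          rw [mem_absSet, ← hbit, ptIdx_ptOf i hi.1]
          exact hi.2
        · intro p hp
          rw [List.mem_toFinset, posList, List.mem_filter, List.mem_range]
          exact ⟨ptIdx_lt p, (hbit p).mpr (mem_absSet.mp hp)⟩
        · intro i hi
          rw [List.mem_toFinset, posList, List.mem_filter, List.mem_range] at hi
          exact ptIdx_ptOf i hi.1
        · intro p _; exact ptOf_ptIdx p
      refine mem_signVecs (posList (Golay.enc k)) hnd' 
        (fun i hi => List.mem_range.mp (List.mem_filter.mp hi).1) x ?_ ?_ false ?_
      · intro p hp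
        have := (hbit p).mp (List.mem_filter.mp hp).2
        omega
      · intro p hp
        rcases habs p with h | h
        · exact absurd (List.mem_filter.mpr ⟨List.mem_range.mpr (ptIdx_lt p), (hbit p).mpr h⟩) hp
        · omega
      · obtain ⟨hp0, -, hs⟩ := (mem_leechLattice_iff_none x).mp hx
        have hn := he none
        rw [hlen]
        simp only [Bool.false_eq_true, false_iff]
        simp only [Int.ModEq] at hs
        omega
  · refine Or.inr ?_
    obtain ⟨a, hT⟩ := Finset.card_eq_one.mp e
    have habs := abs_two (x := x) (show (3 : ℕ) ≠ 1 by norm_num) (by omega)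
    have ha3 : ∀ p, (x p).natAbs = 3 ↔ p = a := fun p => by
      rw [← mem_absSet, hT, Finset.mem_singleton]
    obtain ⟨m, hm, hpar, -, hw⟩ := exists_parity01 hx
    have hm1 : m = 1 := by
      have := hpar none; have := ho none
      simp only [Int.ModEq] at *
      rcases hm with rfl | rfl <;> omega
    subst hm1
    obtain ⟨k, hk, hkw⟩ := (mem_golayCode_iff _).mp hw
    rw [oddList, List.mem_flatMap]
    refine ⟨k, List.mem_range.mpr hk, ?_⟩
    rw [List.mem_map]
    refine ⟨ptIdx a, List.mem_range.mpr (ptIdx_lt a), ?_⟩
    funext p
    have hkp := congrFun hkw p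
    have hb : (Golay.enc k).testBit (ptIdx p) = true ↔ (x p - 1) / 2 % 2 ≠ 0 := by
      rw [← ofBits_apply_ne_zero, ← hkp]
      simp only [word, intCast_zmod2_ne_zero_iff]
      omega
    have := ho p
    simp only [threeVec, ptIdx_injective.eq_iff]
    rcases habs p with h | h
    · rw [if_pos ((ha3 p).mp h)]
      cases hbb : (Golay.enc k).testBit (ptIdx p) <;> rw [hbb] at hb <;> simp at hb ⊢ <;> omega
    · rw [if_neg fun h' => by rw [(ha3 p).mpr h'] at h; omega]
      cases hbb : (Golay.enc k).testBit (ptIdx p) <;> rw [hbb] at hb <;> simp at hb ⊢ <;> omega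

/-- The count of minimal vectors with a given inner product. -/
theorem ncard_min_dot (us : List ℤ) (hlen : us.length = 24) (T : ℤ) :
    {x : leechLattice | sqNorm x.1 = 32 ∧ dotInt (ofList us) x.1 = T}.ncard = countMin us T := by
  classical
  have hcard : ({x : GolayPt → ℤ | x ∈ leechLattice ∧ sqNorm x = 32}).ncard = 196560 := by
    exact leechLattice_counts.1
  have hsub : {x : GolayPt → ℤ | x ∈ leechLattice ∧ sqNorm x = 32} ⊆ ↑minList.toFinset :=
    fun x hx => List.mem_toFinset.mpr (mem_minList hx.1 hx.2)
  have hle := List.toFinset_card_le minList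
  rw [length_minList] at hle
  have heq := Set.eq_of_subset_of_ncard_le hsub (by rw [Set.ncard_coe_finset, hcard]; exact hle)
    (Finset.finite_toSet _)
  have hlc : minList.toFinset.card = minList.length := by
    rw [length_minList, ← hcard, heq, Set.ncard_coe_finset]
  have hnd : minList.Nodup := by
    rw [List.card_toFinset] at hlc
    rw [← (List.dedup_sublist minList).eq_of_length hlc]
    exact List.nodup_dedup minList
  rw [← countP_minList us hlen T, List.countP_eq_length_filter,
    ← List.toFinset_card_of_nodup (hnd.filter _), ← Set.ncard_coe_finset]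
  refine Set.ncard_congr (fun x _ => x.1) (fun x hx => ?_) (fun x y _ _ h => Subtype.ext h)
    (fun y hy => ?_)
  · rw [Finset.mem_coe, List.mem_toFinset, List.mem_filter, beq_iff_eq]
    exact ⟨mem_minList x.2 hx.1, hx.2⟩
  · rw [Finset.mem_coe, List.mem_toFinset, List.mem_filter, beq_iff_eq] at hy
    have hy' : y ∈ {x : GolayPt → ℤ | x ∈ leechLattice ∧ sqNorm x = 32} := by
      rw [heq]; exact List.mem_toFinset.mpr hy.1
    exact ⟨⟨y, hy'.1⟩, ⟨hy'.2, hy.2⟩, rfl⟩

/-- The count of minimal vectors with a given inner product, evaluated by groups. -/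
theorem ncard_min_dot_grouped (us : List ℤ) (hlen : us.length = 24) (T : ℤ) (N : ℕ)
    (cands : List (List ℤ)) (h : (candsB us cands && (countMinG us T cands == N)) = true) :
    {x : leechLattice | sqNorm x.1 = 32 ∧ dotInt (ofList us) x.1 = T}.ncard = N := by
  rw [Bool.and_eq_true, beq_iff_eq] at h
  rw [ncard_min_dot us hlen, ← countMinG_eq us T cands h.1, h.2]

end Cfsg.Agent.Leech
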