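import Cfsg.Agent.Leech.Keys
import Cfsg.Agent.Leech.CountMin

/-!
Standard configurations of short vectors and their elementary properties.
-/

set_option autoImplicit false

namespace Cfsg.Agent.Leech

open Cfsg Cfsg.Agent.Golay

/-- The coordinates `a` at the extra point, `b` at 0 and `c` elsewhere. -/
def threeVals (a b c : ℤ) : List ℤ := b :: List.replicate 22 c ++ [a]

/-- The vector with those coordinates. -/
def tv (a b c : ℤ) : GolayPt → ℤ := ofList (threeVals a b c)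

theorem tv_checks : inLeechB (tv 4 4 0) = true ∧ inLeechB (tv 5 1 1) = true ∧
    inLeechB (tv 1 (-3) 1) = true ∧ inLeechB (tv (-4) 4 0) = true ∧
    inLeechB (tv (-1) (-5) (-1)) = true ∧ inLeechB (tv 4 (-4) 0) = true ∧
    inLeechB (ofList [0, 4, 0, 0, 0, 0, 0, 0, 0, 0, 0, 0, 0, 0, 0, 0, 0, 0, 0, 0, 0, 0, 0, -4]) = true ∧
    inLeechB (ofList [0, 4, 0, 0, 0, 0, 0, 0, 0, 0, 0, 0, 0, 0, 0, 0, 0, 0, 0, 0, 0, 0, 0, 4]) = true := by
  decide +kernel

/-- `(4, 4, 0²²)`. -/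
def pU : leechLattice := ⟨tv 4 4 0, mem_of_inLeechB tv_checks.1⟩
/-- `(5, 1²³)`. -/
def pV : leechLattice := ⟨tv 5 1 1, mem_of_inLeechB tv_checks.2.1⟩
/-- `(1, -3, 1²²)`, equal to `pV - pU`. -/
def pW : leechLattice := ⟨tv 1 (-3) 1, mem_of_inLeechB tv_checks.2.2.1⟩
/-- `(-4, 4, 0²²)`. -/
def pX : leechLattice := ⟨tv (-4) 4 0, mem_of_inLeechB tv_checks.2.2.2.1⟩
/-- `(-1, -5, -1²²)`, equal to `-pX - pV`. -/
def pY : leechLattice := ⟨tv (-1) (-5) (-1), mem_of_inLeechB tv_checks.2.2.2.2.1⟩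
/-- `(4, -4, 0²²)`. -/
def pZ : leechLattice := ⟨tv 4 (-4) 0, mem_of_inLeechB tv_checks.2.2.2.2.2.1⟩
/-- A minimal vector with inner product -16 with `pU`. -/
def pT : leechLattice := ⟨_, mem_of_inLeechB tv_checks.2.2.2.2.2.2.1⟩
/-- A minimal vector with inner products 24, 16 with `pV`, `pU`. -/
def pS : leechLattice := ⟨_, mem_of_inLeechB tv_checks.2.2.2.2.2.2.2⟩

theorem pU_eq : pU = Spor.leechU := by
  apply Subtype.ext; show tv 4 4 0 = Spor.vecU; decide +kernel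

theorem pV_eq : pV = -Spor.leechV := by
  apply Subtype.ext; show tv 5 1 1 = -Spor.vecV; decide +kernel

theorem pW_eq : pW = pV - pU := by
  apply Subtype.ext; show tv 1 (-3) 1 = tv 5 1 1 - tv 4 4 0; decide +kernel

theorem pY_eq : pY = -pX - pV := by
  apply Subtype.ext; show tv (-1) (-5) (-1) = -tv (-4) 4 0 - tv 5 1 1; decide +kernel

theorem sqNorm_co0 (g : Co0) (v : leechLattice) : sqNorm (g • v).1 = sqNorm v.1 := g.2.2 v

/-- Counting is unchanged by automorphisms. -/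
theorem ncard_smul_setOf (g : Co0) (P : leechLattice → Prop) :
    {x | P (g • x)}.ncard = {x | P x}.ncard := by
  refine Set.ncard_congr (fun x _ => g • x) (fun x hx => hx)
    (fun x y _ _ h => MulAction.injective g h) (fun y hy => ⟨g⁻¹ • y, ?_, smul_inv_smul g y⟩)
  show P (g • g⁻¹ • y)
  rwa [smul_inv_smul]

theorem exists_to_pU {v : leechLattice} (hv : sqNorm v.1 = 32) : ∃ g : Co0, g • v = pU :=
  exists_smul_eq_of_conj (conj32 v.2 hv) (by rw [pU_eq]; exact Conj.refl Spor.leechU.2)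

theorem exists_to_pV {u : leechLattice} (hu : sqNorm u.1 = 48) : ∃ g : Co0, g • u = pV := by
  have hN : sqNorm (-u).1 = 48 := by
    rw [AddSubgroup.coe_neg, ← hu]; exact sqNorm_neg' _
  obtain ⟨g, hg⟩ := exists_smul_eq_of_conj (v := -u) (w := Spor.leechV)
    (conj48 (-u).2 hN) (Conj.refl Spor.leechV.2)
  refine ⟨g, ?_⟩
  rw [co0_neg] at hg
  rw [pV_eq, ← hg, neg_neg]
where
  sqNorm_neg' (x : GolayPt → ℤ) : sqNorm (-x) = sqNorm x := by simp [sqNorm]

theorem sqNorm_sub_eq (u v : GolayPt → ℤ) :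
    sqNorm (u - v) = sqNorm u + sqNorm v - 2 * dotInt u v := by
  simp only [sqNorm, dotInt, Pi.sub_apply, Finset.mul_sum, ← Finset.sum_add_distrib,
    ← Finset.sum_sub_distrib]
  exact Finset.sum_congr rfl fun p _ => by ring

theorem sqNorm_add_eq (u v : GolayPt → ℤ) :
    sqNorm (u + v) = sqNorm u + sqNorm v + 2 * dotInt u v := by
  simp only [sqNorm, dotInt, Pi.add_apply, Finset.mul_sum, ← Finset.sum_add_distrib]
  exact Finset.sum_congr rfl fun p _ => by ring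

theorem dotInt_comm' (u v : GolayPt → ℤ) : dotInt u v = dotInt v u :=
  Finset.sum_congr rfl fun p _ => mul_comm _ _

theorem dot_bound {a x : GolayPt → ℤ} (ha : sqNorm a ≤ 48) (hx : sqNorm x = 32) :
    -40 ≤ dotInt a x ∧ dotInt a x ≤ 40 := by
  have h0 : ∀ y : GolayPt → ℤ, 0 ≤ sqNorm y := fun y => Finset.sum_nonneg fun p _ => sq_nonneg _
  have h1 := h0 (a - x); have h2 := h0 (a + x)
  rw [sqNorm_sub_eq] at h1
  rw [sqNorm_add_eq] at h2
  omega

/-- Two inner products packed into one. -/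
theorem dot_pack {a b x : GolayPt → ℤ} {us : List ℤ} (hus : ofList us = a + 100 • b)
    (ha : sqNorm a ≤ 48) (hb : sqNorm b ≤ 48) (hx : sqNorm x = 32) {s t : ℤ}
    (hs : -40 ≤ s ∧ s ≤ 40) :
    dotInt (ofList us) x = s + 100 * t ↔ dotInt a x = s ∧ dotInt b x = t := by
  have e : dotInt (ofList us) x = dotInt a x + 100 * dotInt b x := by
    rw [hus]
    simp only [dotInt, Pi.add_apply, Pi.smul_apply, nsmul_eq_mul, Nat.cast_ofNat, add_mul,
      Pi.mul_apply, Pi.ofNat_apply, Finset.sum_add_distrib, Finset.mul_sum, mul_assoc]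
  have := dot_bound ha hx; have := dot_bound hb hx
  rw [e]; omega

theorem sqNorm_configs : sqNorm pU.1 = 32 ∧ sqNorm pV.1 = 48 ∧ sqNorm pW.1 = 32 ∧
    sqNorm pX.1 = 32 ∧ sqNorm pY.1 = 48 ∧ sqNorm pZ.1 = 32 ∧ sqNorm pT.1 = 32 ∧
    sqNorm pS.1 = 32 := by
  decide +kernel

theorem dot_configs : dotInt pV.1 pU.1 = 24 ∧ dotInt pV.1 pX.1 = -16 ∧ dotInt pU.1 pT.1 = -16 ∧
    dotInt pV.1 pS.1 = 24 ∧ dotInt pU.1 pS.1 = 16 ∧ dotInt pV.1 pU.1 = 24 ∧
    dotInt pY.1 pU.1 = -24 ∧ dotInt pU.1 pZ.1 = 0 ∧ dotInt pW.1 pZ.1 = 16 := by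
  decide +kernel

end Cfsg.Agent.Leech
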