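import Cfsg.Agent.Leech.Reduce
import Cfsg.Agent.Leech.Order

/-!
Orbit certificates for automorphisms of the lattice given by words of steps: a vector has a key of
24 parities, on which each automorphism acts linearly; a walk in a spanning tree produces distinct
keys, bounding an orbit from below.
-/

set_option autoImplicit false

namespace Cfsg.Agent.Leech

open Cfsg Cfsg.Agent.Golay

/-! ### Words as automorphisms -/

theorem exists_step_element (i : ℕ) :
    ∃ g : Co0, g ∈ monoXi ∧ ∀ x : leechLattice, (g • x).1 = stepFun2 i x.1 := by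
  by_cases h : i < 192
  · by_cases h0 : i = 0
    · refine ⟨toCo0 isAut_xi, xi_mem_monoXi, fun x => ?_⟩
      simp only [stepFun2, stepFun, h, h0, if_true]
      rfl
    · obtain ⟨g, hg, e⟩ := node_mem_gen3 (i - 1) (by omega)
      refine ⟨toCo0 (isAut_comp (gen3_le hg)), comp_mem_monoXi (gen3_le hg), fun x => ?_⟩
      simp only [stepFun2, stepFun, h, h0, if_true, if_false]
      rw [toCo0_smul]
      funext p
      rw [← e]
      rfl
  · have hc : bitSet (Golay.enc (i - 192)) ∈ supports (golayCode : Set (GolayPt → ZMod 2)) :=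
      ⟨_, ofBits_enc_mem _, (bitSet_eq _).symm⟩
    refine ⟨toCo0 (isAut_flipOn hc), flipOn_mem_monoXi hc, fun x => ?_⟩
    simp only [stepFun2, h, if_false]
    rw [toCo0_smul]
    funext p
    simp [flipMask, flipOn, bitSet]

theorem exists_word_element (w : List ℕ) :
    ∃ g : Co0, g ∈ monoXi ∧ ∀ x : leechLattice, (g • x).1 = wordApp2 w x.1 := by
  induction w with
  | nil => exact ⟨1, one_mem _, fun x => by rw [one_smul]; rfl⟩
  | cons i w ih =>
    obtain ⟨g, hgm, hg⟩ := exists_step_element i
    obtain ⟨k, hkm, hk⟩ := ih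
    exact ⟨k * g, mul_mem hkm hgm, fun x => by rw [mul_smul, hk, hg]; rfl⟩

/-- The automorphism of a word. -/
noncomputable def wordAut (w : List ℕ) : Co0 := (exists_word_element w).choose

theorem wordAut_mem (w : List ℕ) : wordAut w ∈ monoXi := (exists_word_element w).choose_spec.1

theorem wordAut_smul (w : List ℕ) (x : leechLattice) :
    (wordAut w • x).1 = wordApp2 w x.1 := (exists_word_element w).choose_spec.2 x

/-- A word fixing a vector, computed. -/
def fixesB (w : List ℕ) (x : GolayPt → ℤ) : Bool := eqB x (wordApp2 w x)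

theorem wordAut_mem_stabilizer {w : List ℕ} {x : leechLattice} (h : fixesB w x.1 = true) :
    wordAut w ∈ MulAction.stabilizer Co0 x :=
  MulAction.mem_stabilizer_iff.mpr (Subtype.ext ((wordAut_smul w x).trans (eq_of_eqB h)))

/-! ### Keys -/

/-- The inner product, evaluated along positions. -/
def dotL (d x : GolayPt → ℤ) : ℤ := ((List.range 24).map fun i => d (ptOf i) * x (ptOf i)).sum

theorem dotL_eq (d x : GolayPt → ℤ) : dotL d x = dotInt d x :=
  (sum_ptOf fun p => d p * x p).symm

/-- The parities of the inner products with a list of vectors, as bits of a number. -/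
def keyAux : List (GolayPt → ℤ) → (GolayPt → ℤ) → ℕ
  | [], _ => 0
  | d :: l, x => (bif dotL d x / 8 % 2 == 1 then 1 else 0) + 2 * keyAux l x

/-- The vectors whose inner products give the key: a basis of the lattice modulo 2. -/
def keyBasis : List (GolayPt → ℤ) :=
  [0, 1, 2, 3, 4, 5, 6, 7, 8, 9, 10, 11, 12, 13, 14, 15, 16, 17, 18, 19, 20, 22, 23, 36].map
    fun i => genVecs.getD i 0

/-- The key of a vector. -/
def keyOf (x : GolayPt → ℤ) : ℕ := keyAux keyBasis x

theorem xor_bit (a b m n : ℕ) (ha : a ≤ 1) (hb : b ≤ 1) :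
    (a + 2 * m) ^^^ (b + 2 * n) = (a ^^^ b) + 2 * (m ^^^ n) := by
  apply Nat.eq_of_testBit_eq
  intro i
  cases i with
  | zero =>
    simp only [Nat.testBit_zero, Nat.testBit_xor]
    interval_cases a <;> interval_cases b <;> simp <;> omega
  | succ i =>
    have h1 : ∀ c k : ℕ, c ≤ 1 → (c + 2 * k).testBit (i + 1) = k.testBit i := fun c k hc => by
      rw [Nat.testBit_succ, show (c + 2 * k) / 2 = k by omega]
    rw [Nat.testBit_xor, h1 a m ha, h1 b n hb, h1 _ _ (by interval_cases a <;> interval_cases b <;> simp),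
      Nat.testBit_xor]

theorem parity_bit_add {a b : ℤ} (ha : (8 : ℤ) ∣ a) :
    (bif (a + b) / 8 % 2 == 1 then 1 else 0 : ℕ) =
      (bif a / 8 % 2 == 1 then 1 else 0) ^^^ (bif b / 8 % 2 == 1 then 1 else 0) := by
  have h : (a + b) / 8 % 2 = (a / 8 % 2 + b / 8 % 2) % 2 := by omega
  rcases Int.emod_two_eq_zero_or_one (a / 8) with h1 | h1 <;>
    rcases Int.emod_two_eq_zero_or_one (b / 8) with h2 | h2 <;>
      rw [h, h1, h2] <;> rfl

theorem dotL_add_right (d x y : GolayPt → ℤ) : dotL d (x + y) = dotL d x + dotL d y := by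
  simp only [dotL_eq, dotInt, Pi.add_apply, mul_add, Finset.sum_add_distrib]

theorem keyAux_add : ∀ (l : List (GolayPt → ℤ)) {x : GolayPt → ℤ} (y : GolayPt → ℤ),
    (∀ d ∈ l, (8 : ℤ) ∣ dotL d x) → keyAux l (x + y) = keyAux l x ^^^ keyAux l y := by
  intro l
  induction l with
  | nil => intro x y _; simp [keyAux]
  | cons d l ih =>
    intro x y h
    simp only [keyAux]
    rw [xor_bit _ _ _ _ (by cases (dotL d x / 8 % 2 == 1) <;> simp)
      (by cases (dotL d y / 8 % 2 == 1) <;> simp),
      ← ih y (fun e he => h e (List.mem_cons_of_mem _ he)), dotL_add_right,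
      parity_bit_add (h d List.mem_cons_self)]

/-- The dot products of the key vectors with the generators are multiples of 8. -/
theorem keyBasis_check :
    (keyBasis.all fun d => genVecs.all fun g => dotL d g % 8 == 0) = true := by
  decide +kernel

theorem eight_dvd_dotL {d x : GolayPt → ℤ} (hd : d ∈ keyBasis) (hx : x ∈ leechLattice) :
    (8 : ℤ) ∣ dotL d x := by
  let K : AddSubgroup (GolayPt → ℤ) :=
    { carrier := {y | (8 : ℤ) ∣ dotL d y}
      zero_mem' := by simp [dotL_eq, dotInt]
      add_mem' := fun {a b} ha hb => by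
        show (8 : ℤ) ∣ dotL d (a + b)
        rw [dotL_add_right]; exact dvd_add ha hb
      neg_mem' := fun {a} ha => by
        show (8 : ℤ) ∣ dotL d (-a)
        have h := dotL_add_right d a (-a)
        rw [add_neg_cancel] at h
        have h0 : dotL d 0 = 0 := by simp [dotL_eq, dotInt]
        have ha' : (8 : ℤ) ∣ dotL d a := ha
        omega }
  refine leechLattice_le_of_gens (K := K) (fun g hg => ?_) hx
  have h := List.all_eq_true.mp (List.all_eq_true.mp keyBasis_check d hd) g hg
  rw [beq_iff_eq] at h
  exact Int.dvd_of_emod_eq_zero h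

theorem keyOf_add {x : GolayPt → ℤ} (hx : x ∈ leechLattice) (y : GolayPt → ℤ) :
    keyOf (x + y) = keyOf x ^^^ keyOf y :=
  keyAux_add keyBasis y fun _ hd => eight_dvd_dotL hd hx

theorem keyOf_zero : keyOf 0 = 0 := by decide +kernel

theorem keyOf_neg {x : GolayPt → ℤ} (hx : x ∈ leechLattice) : keyOf (-x) = keyOf x := by
  have h := keyOf_add hx (-x)
  rw [add_neg_cancel, keyOf_zero] at h
  exact (Nat.xor_eq_zero_iff.mp h.symm).symm

/-- A word acts on keys by the columns listed, checked on generators of the lattice. -/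
def actsB (w cols : List ℕ) : Bool :=
  genVecs.all fun g => inLeechB g && (keyOf (wordApp2 w g) == xorSel cols (keyOf g))

theorem xorSel_zero (l : List ℕ) : xorSel l 0 = 0 := by
  induction l with
  | nil => rfl
  | cons r l ih => simp [xorSel, ih]

theorem keyOf_word {w cols : List ℕ} (h : actsB w cols = true) (x : leechLattice) :
    keyOf (wordAut w • x).1 = xorSel cols (keyOf x.1) := by
  let K : AddSubgroup (GolayPt → ℤ) :=
    { carrier := {y | ∃ hy : y ∈ leechLattice,
        keyOf (wordAut w • (⟨y, hy⟩ : leechLattice)).1 = xorSel cols (keyOf y)}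
      zero_mem' := ⟨zero_mem _, by
        have h0 : wordAut w • (0 : leechLattice) = 0 := by
          have := co0_add (wordAut w) 0 0
          rwa [add_zero, left_eq_add] at this
        rw [show (⟨0, zero_mem _⟩ : leechLattice) = 0 from rfl, h0, keyOf_zero, xorSel_zero]
        exact keyOf_zero⟩
      add_mem' := fun {a b} ⟨ha, ha'⟩ ⟨hb, hb'⟩ => ⟨add_mem ha hb, by
        rw [show (⟨a + b, add_mem ha hb⟩ : leechLattice) = ⟨a, ha⟩ + ⟨b, hb⟩ from rfl, co0_add,
          AddSubgroup.coe_add, keyOf_add (Subtype.prop _), ha', hb', keyOf_add ha, xorSel_xor]⟩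
      neg_mem' := fun {a} ⟨ha, ha'⟩ => ⟨neg_mem ha, by
        rw [show (⟨-a, neg_mem ha⟩ : leechLattice) = -⟨a, ha⟩ from rfl, co0_neg,
          AddSubgroup.coe_neg, keyOf_neg (Subtype.prop _), ha', keyOf_neg ha]⟩ }
  obtain ⟨_, hx⟩ := leechLattice_le_of_gens (K := K) (fun g hg => by
    have := List.all_eq_true.mp h g hg
    rw [Bool.and_eq_true, beq_iff_eq] at this
    exact ⟨mem_of_inLeechB this.1, by rw [wordAut_smul]; exact this.2⟩) x.2
  exact hx

/-! ### Walks -/

/-- The columns selected by the bits, computed with the primitive operations. -/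
def applyCols : List ℕ → ℕ → ℕ
  | [], _ => 0
  | c :: l, k =>
    Nat.xor (bif Nat.beq (Nat.mod k 2) 1 then c else 0) (applyCols l (Nat.div k 2))

theorem applyCols_eq : ∀ (l : List ℕ) (k : ℕ), applyCols l k = xorSel l k
  | [], _ => rfl
  | c :: l, k => by
    have h : k.testBit 0 = Nat.beq (Nat.mod k 2) 1 := by
      rw [Nat.testBit_zero]
      rcases Nat.mod_two_eq_zero_or_one k with h | h <;>
        simp only [h, show Nat.mod k 2 = k % 2 from rfl] <;> rfl
    rw [applyCols, applyCols_eq l, xorSel, h]
    rfl

/-- The `k` base-32 digits of a number, lowest first. -/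
def digits32 : ℕ → ℕ → List ℕ
  | 0, _ => []
  | k + 1, n => n % 32 :: digits32 k (n / 32)

/-- The tokens packed in a list of numbers, 48 to each. -/
def unpack : List ℕ → List ℕ
  | [] => []
  | n :: l => digits32 48 n ++ unpack l

/-- The keys met on a walk: token `0` steps back, `g + 1` applies the columns numbered `g`. -/
def walk (gens : List (List ℕ)) : List ℕ → List ℕ → List ℕ
  | [], _ => []
  | 0 :: ts, st => walk gens ts st.tail
  | (g + 1) :: ts, st =>
    match gens[g]?, st.head? with
    | some cols, some k => applyCols cols k :: walk gens ts (applyCols cols k :: st)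
    | _, _ => []

/-- Merge of two lists, with fuel. -/
def mergeF : ℕ → List ℕ → List ℕ → List ℕ
  | 0, a, b => a ++ b
  | _ + 1, [], b => b
  | _ + 1, a, [] => a
  | n + 1, x :: a, y :: b =>
    bif Nat.blt x y then x :: mergeF n a (y :: b) else y :: mergeF n (x :: a) b

theorem mem_of_mem_mergeF : ∀ (n : ℕ) (a b : List ℕ) {z : ℕ}, z ∈ mergeF n a b → z ∈ a ∨ z ∈ b
  | 0, a, b, z, h => by simpa [mergeF] using h
  | _ + 1, [], b, z, h => Or.inr (by simpa [mergeF] using h)
  | _ + 1, _ :: _, [], z, h => Or.inl (by simpa [mergeF] using h)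
  | n + 1, x :: a, y :: b, z, h => by
    simp only [mergeF] at h
    cases hxy : Nat.blt x y <;> rw [hxy] at h <;> simp only [cond_false, cond_true] at h <;>
      rcases List.mem_cons.mp h with rfl | h
    · exact Or.inr List.mem_cons_self
    · rcases mem_of_mem_mergeF n _ _ h with h | h
      · exact Or.inl h
      · exact Or.inr (List.mem_cons_of_mem _ h)
    · exact Or.inl List.mem_cons_self
    · rcases mem_of_mem_mergeF n _ _ h with h | h
      · exact Or.inl (List.mem_cons_of_mem _ h)
      · exact Or.inr h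

/-- One round of merging neighbours. -/
def mergePairs : List (List ℕ) → List (List ℕ)
  | a :: b :: l => mergeF 70000 a b :: mergePairs l
  | l => l

theorem mem_mergePairs : ∀ (L : List (List ℕ)) {z : ℕ},
    z ∈ (mergePairs L).flatten → z ∈ L.flatten
  | [], z, h => by simpa [mergePairs] using h
  | [_], z, h => by simpa [mergePairs] using h
  | a :: b :: l, z, h => by
    simp only [mergePairs, List.flatten_cons, List.mem_append] at h ⊢
    rcases h with h | h
    · rcases mem_of_mem_mergeF _ _ _ h with h | h
      · exact Or.inl h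
      · exact Or.inr (Or.inl h)
    · exact Or.inr (Or.inr (mem_mergePairs l h))

/-- Rounds of merging. -/
def mergeAll : ℕ → List (List ℕ) → List ℕ
  | 0, L => L.flatten
  | n + 1, L => mergeAll n (mergePairs L)

theorem mem_mergeAll : ∀ (n : ℕ) (L : List (List ℕ)) {z : ℕ}, z ∈ mergeAll n L → z ∈ L.flatten
  | 0, _, _, h => h
  | n + 1, _, _, h => mem_mergePairs _ (mem_mergeAll n _ h)

/-- Sorting. -/
def sortKeys (l : List ℕ) : List ℕ := mergeAll 17 (l.map fun x => [x])

/-- Strictly increasing. -/
def incB : List ℕ → Bool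
  | a :: b :: l => Nat.blt a b && incB (b :: l)
  | _ => true

theorem nodup_of_incB : ∀ {l : List ℕ}, incB l = true → l.Nodup := by
  intro l
  have key : ∀ l : List ℕ, incB l = true → l.Pairwise (· < ·) := by
    intro l
    induction l with
    | nil => exact fun _ => List.Pairwise.nil
    | cons a l ih =>
      intro h
      cases l with
      | nil => exact List.pairwise_singleton _ _
      | cons b l =>
        simp only [incB, Bool.and_eq_true, Nat.blt_eq] at h
        have hp := ih h.2
        refine List.pairwise_cons.mpr ⟨fun c hc => ?_, hp⟩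
        rcases List.mem_cons.mp hc with rfl | hc
        · exact h.1
        · exact lt_trans h.1 ((List.pairwise_cons.mp hp).1 c hc)
  exact fun h => (key l h).nodup

theorem walk_sound {gens : List (List ℕ)} {K : Subgroup Co0}
    (hgens : ∀ cols ∈ gens, ∃ g ∈ K, ∀ x : leechLattice,
      keyOf (g • x).1 = xorSel cols (keyOf x.1))
    (x₀ : leechLattice) : ∀ (ts st : List ℕ),
      (∀ k ∈ st, ∃ g ∈ K, keyOf (g • x₀).1 = k) →
      ∀ k ∈ walk gens ts st, ∃ g ∈ K, keyOf (g • x₀).1 = k := by
  intro ts
  induction ts with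
  | nil => intro st _ k hk; simp [walk] at hk
  | cons t ts ih =>
    intro st hst k hk
    cases t with
    | zero =>
      rw [walk] at hk
      exact ih _ (fun j hj => hst j (List.mem_of_mem_tail hj)) k hk
    | succ g =>
      rw [walk] at hk
      split at hk
      · rename_i cols k' hcols hk'
        simp only [applyCols_eq] at hk
        obtain ⟨a, haK, ha⟩ := hgens cols (List.mem_of_getElem? hcols)
        obtain ⟨b, hbK, hb⟩ := hst k' (List.mem_of_mem_head? hk')
        have hnew : ∃ g ∈ K, keyOf (g • x₀).1 = xorSel cols k' :=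
          ⟨a * b, mul_mem haK hbK, by rw [mul_smul, ha, hb]⟩
        rcases List.mem_cons.mp hk with rfl | hk
        · exact hnew
        · refine ih _ (fun j hj => ?_) k hk
          rcases List.mem_cons.mp hj with rfl | hj
          · exact hnew
          · exact hst j hj
      · simp at hk

/-- An orbit certificate: words with their columns, and a packed walk. -/
structure OrbitCert where
  gens : List (List ℕ × List ℕ)
  toks : List ℕ

/-- All words fix the given vectors and act on keys as listed. -/
def OrbitCert.gensB (C : OrbitCert) (conf : List (GolayPt → ℤ)) : Bool :=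
  C.gens.all fun g => actsB g.1 g.2 && conf.all (fixesB g.1)

/-- The walk from a key has at least `N` distinct keys. -/
def OrbitCert.sizeB (C : OrbitCert) (root N : ℕ) : Bool :=
  let l := sortKeys (root :: walk (C.gens.map Prod.snd) (unpack C.toks) [root])
  incB l && Nat.ble N l.length

attribute [local irreducible] keyOf in
/-- An orbit of a group containing the certified words has at least `N` elements. -/
theorem le_ncard_orbit (C : OrbitCert) {K : Subgroup Co0} {x₀ : leechLattice} {N : ℕ}
    (hK : ∀ g ∈ C.gens, wordAut g.1 ∈ K) (hacts : ∀ g ∈ C.gens, actsB g.1 g.2 = true)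
    (h : C.sizeB (keyOf x₀.1) N = true) : N ≤ {x | ∃ g ∈ K, g • x₀ = x}.ncard := by
  have := finite_Co0
  simp only [OrbitCert.sizeB, Bool.and_eq_true, Nat.ble_eq] at h
  set l := sortKeys (keyOf x₀.1 :: walk (C.gens.map Prod.snd) (unpack C.toks) [keyOf x₀.1]) with hl
  have hreach : ∀ k ∈ l, ∃ g ∈ K, keyOf (g • x₀).1 = k := by
    intro k hk
    have hk' := mem_mergeAll 17 _ (show k ∈ mergeAll 17 _ from hk)
    rw [List.mem_flatten] at hk'
    obtain ⟨s, hs, hks⟩ := hk'
    obtain ⟨k', hk'', rfl⟩ := List.mem_map.mp hs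
    rw [List.mem_singleton] at hks
    subst hks
    rcases List.mem_cons.mp hk'' with rfl | hw
    · exact ⟨1, one_mem _, congrArg (fun v : leechLattice => keyOf v.1) (one_smul Co0 x₀)⟩
    · refine walk_sound (K := K) (fun cols hcols => ?_) x₀ _ _ (fun j hj => ?_) k hw
      · obtain ⟨g, hg, rfl⟩ := List.mem_map.mp hcols
        exact ⟨wordAut g.1, hK g hg, fun x => keyOf_word (hacts g hg) x⟩
      · rw [List.mem_singleton] at hj
        subst hj
        exact ⟨1, one_mem _, congrArg (fun v : leechLattice => keyOf v.1) (one_smul Co0 x₀)⟩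
  have hfin : {x | ∃ g ∈ K, g • x₀ = x}.Finite :=
    ((Set.finite_univ (α := Co0)).image fun g => g • x₀).subset fun x ⟨g, _, hg⟩ =>
      ⟨g, Set.mem_univ g, hg⟩
  have hsub : ↑l.toFinset ⊆ (fun x : leechLattice => keyOf x.1) '' {x | ∃ g ∈ K, g • x₀ = x} := by
    intro k hk
    obtain ⟨g, hg, e⟩ := hreach k (List.mem_toFinset.mp hk)
    exact ⟨g • x₀, ⟨g, hg, rfl⟩, e⟩
  calc N ≤ l.length := h.2
    _ = (↑l.toFinset : Set ℕ).ncard := by
      rw [Set.ncard_coe_finset, List.toFinset_card_of_nodup (nodup_of_incB h.1)]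
    _ ≤ _ := Set.ncard_le_ncard hsub (hfin.image _)
    _ ≤ _ := Set.ncard_image_le hfin

theorem le_stabilizer_of_gensB {C : OrbitCert} {conf : List leechLattice}
    (h : C.gensB (conf.map fun v => v.1) = true) :
    ∀ g ∈ C.gens, ∀ v ∈ conf, wordAut g.1 • v = v := by
  intro g hg v hv
  have := List.all_eq_true.mp h g hg
  rw [Bool.and_eq_true, List.all_eq_true] at this
  exact MulAction.mem_stabilizer_iff.mp
    (wordAut_mem_stabilizer (this.2 v.1 (List.mem_map_of_mem hv)))

/-- The elements fixing each of a list of vectors. -/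
def fixConf (conf : List leechLattice) : Subgroup Co0 :=
  ⨅ v ∈ conf, MulAction.stabilizer Co0 v

theorem mem_fixConf {conf : List leechLattice} {g : Co0} :
    g ∈ fixConf conf ↔ ∀ v ∈ conf, g • v = v := by
  simp [fixConf, Subgroup.mem_iInf, MulAction.mem_stabilizer_iff]

/-- The vectors of an invariant set reached from a certified one are all of it, by counting. -/
theorem transitive_of_cert (C : OrbitCert) {conf : List leechLattice} {x₀ : leechLattice}
    {S : Set leechLattice} {N : ℕ} (hN : 0 < N) (hS : S.ncard = N) (hx₀ : x₀ ∈ S)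
    (hinv : ∀ g ∈ fixConf conf, ∀ x ∈ S, g • x ∈ S)
    (hg : C.gensB (conf.map fun v => v.1) = true) (hn : C.sizeB (keyOf x₀.1) N = true) :
    ∀ x ∈ S, ∃ g ∈ fixConf conf, g • x₀ = x := by
  have hacts : ∀ g ∈ C.gens, actsB g.1 g.2 = true := fun g hg' => by
    have := List.all_eq_true.mp hg g hg'
    rw [Bool.and_eq_true] at this
    exact this.1
  have hle := le_ncard_orbit C (K := fixConf conf)
    (fun g hg' => mem_fixConf.mpr (le_stabilizer_of_gensB hg g hg')) hacts hn
  have hsub : {x | ∃ g ∈ fixConf conf, g • x₀ = x} ⊆ S := by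
    rintro x ⟨g, hg', rfl⟩
    exact hinv g hg' _ hx₀
  have heq := Set.eq_of_subset_of_ncard_le hsub (by omega)
    (Set.finite_of_ncard_pos (by omega))
  intro x hx
  rw [← heq] at hx
  exact hx

end Cfsg.Agent.Leech
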