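import Cfsg.Agent.Leech.Monomial
import Cfsg.Agent.Leech.ModTwo

/-!
Transitivity of the stabiliser of a minimal vector on orthogonal pairs of minimal vectors.
-/

namespace Cfsg.Agent.Leech

open Cfsg Cfsg.Agent.Golay

theorem sqNorm_add (a b : GolayPt → ℤ) : sqNorm (a + b) = sqNorm a + sqNorm b + 2 * dotInt a b := by
  simp only [sqNorm, dotInt, Pi.add_apply, Finset.mul_sum, ← Finset.sum_add_distrib]
  exact Finset.sum_congr rfl fun p _ => by ring

theorem sqNorm_sub (a b : GolayPt → ℤ) : sqNorm (a - b) = sqNorm a + sqNorm b - 2 * dotInt a b := by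
  simp only [sqNorm, dotInt, Pi.sub_apply, Finset.mul_sum, ← Finset.sum_add_distrib,
    ← Finset.sum_sub_distrib]
  exact Finset.sum_congr rfl fun p _ => by ring

theorem exists_flip_sep : ∀ j : GolayPt, j ≠ none → ∃ k ∈ List.range 4096,
    (Golay.enc k).testBit (ptIdx j) = true ∧ (Golay.enc k).testBit (ptIdx none) = false := by
  decide +kernel

theorem flipMask_eq_flipOn (k : ℕ) :
    flipMask (Golay.enc k) = flipOn (bitSet (Golay.enc k)) := by
  funext x p
  simp [flipMask, flipOn, bitSet]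

/-- A minimal vector with 4 at the extra point is `4e∞ ± 4eⱼ`. -/
theorem eq_pair_of_four {a : GolayPt → ℤ} (ha : a ∈ leechLattice) (hN : sqNorm a = 32)
    (h4 : a none = 4) : ∃ j, j ≠ none ∧ (a j = 4 ∨ a j = -4) ∧
      ∀ p, p ≠ none → p ≠ j → a p = 0 := by
  have hmem : none ∈ absSet a 4 := mem_absSet.mpr (by rw [h4]; rfl)
  rcases shape32 ha hN with ⟨-, e, e0⟩ | ⟨-, e, e0⟩ | ⟨ho, -⟩
  · obtain ⟨x, y, hxy, hT⟩ := Finset.card_eq_two.mp e
    have habs := abs_two (x := a) (show (4 : ℕ) ≠ 0 by norm_num) (by omega)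
    obtain ⟨j, hj, hT'⟩ : ∃ j, j ≠ none ∧ absSet a 4 = {none, j} := by
      rw [hT] at hmem
      rcases Finset.mem_insert.mp hmem with rfl | hb
      · exact ⟨y, Ne.symm hxy, hT⟩
      · rw [Finset.mem_singleton] at hb
        subst hb
        exact ⟨x, hxy, by rw [hT, Finset.pair_comm]⟩
    refine ⟨j, hj, ?_, fun p hp hpj => ?_⟩
    · have : (a j).natAbs = 4 := mem_absSet.mp (by rw [hT']; simp)
      omega
    · rcases habs p with h | h
      · have := mem_absSet.mpr h
        rw [hT'] at this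
        simp [hp, hpj] at this
      · omega
  · rcases abs_two (x := a) (show (2 : ℕ) ≠ 0 by norm_num) (by omega) none with h | h <;>
      rw [h4] at h <;> simp at h
  · have := ho none; omega

/-- The automorphism group is transitive on the ordered orthogonal pairs of minimal vectors. -/
theorem exists_smul_orth_eq {v w w' : leechLattice} (hv : sqNorm v.1 = 32) (hw : sqNorm w.1 = 32)
    (hw' : sqNorm w'.1 = 32) (hd : dotInt v.1 w.1 = 0) (hd' : dotInt v.1 w'.1 = 0) :
    ∃ g : Co0, g • v = v ∧ g • w = w' := by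
  -- frames
  have key : ∀ u : leechLattice, sqNorm u.1 = 32 → dotInt v.1 u.1 = 0 →
      ∃ g : Co0, ∃ j, j ≠ none ∧ (((g • v).1 j = 4) ∨ ((g • v).1 j = -4)) ∧ (g • v).1 none = 4 ∧
        (∀ p, p ≠ none → p ≠ j → (g • v).1 p = 0) ∧ (g • (v + u)).1 = vec8 := by
    intro u hu hvu
    have h64 : sqNorm (v + u).1 = 64 := by
      rw [AddSubgroup.coe_add, sqNorm_add, hv, hu, hvu]; norm_num
    obtain ⟨g, hg⟩ := exists_smul_eq_of_conj (w := crossL none) (conj64 (v + u).2 h64)
      (Conj.refl (cross_mem none))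
    have hN := (g.2.2 v).trans hv
    have hdot := co0_dotInt g v (v + u)
    rw [hg, show (crossL none).1 = cross none from rfl, dotInt_cross, AddSubgroup.coe_add] at hdot
    have hvv : dotInt v.1 (v.1 + u.1) = 32 := by
      have e : dotInt v.1 (v.1 + u.1) = sqNorm v.1 + dotInt v.1 u.1 := by
        simp only [dotInt, sqNorm, Pi.add_apply, ← Finset.sum_add_distrib]
        exact Finset.sum_congr rfl fun p _ => by ring
      rw [e, hv, hvu]; norm_num
    have h4 : (g • v).1 none = 4 := by omega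
    obtain ⟨j, hj, hjs, hz⟩ := eq_pair_of_four (g • v).2 hN h4
    exact ⟨g, j, hj, hjs, h4, hz, by rw [hg]; rfl⟩
  obtain ⟨g, j, hj, hjs, hgn, hgz, hgsum⟩ := key w hw hd
  -- choose the sign of `w'` so that the two frames have the same signs
  obtain ⟨g', k, hk, hks, hgn', hgz', hgsum'⟩ := key w' hw' hd'
  obtain ⟨σ, hσ, hσn, hσk⟩ : ∃ σ ∈ M24, σ none = none ∧ σ k = j := by
    obtain ⟨a, ha, ha0⟩ := exists_move_fin (k := 2) (by norm_num)
      ⟨![none, k], fun x y => by fin_cases x <;> fin_cases y <;> simp [hk, Ne.symm hk]⟩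
    obtain ⟨b, hb, hb0⟩ := exists_move_fin (k := 2) (by norm_num)
      ⟨![none, j], fun x y => by fin_cases x <;> fin_cases y <;> simp [hj, Ne.symm hj]⟩
    refine ⟨b⁻¹ * a, mul_mem (inv_mem hb) ha, ?_, ?_⟩
    · rw [Equiv.Perm.mul_apply, Equiv.Perm.inv_eq_iff_eq]
      exact (ha0 0).trans (hb0 0).symm
    · rw [Equiv.Perm.mul_apply, Equiv.Perm.inv_eq_iff_eq]
      exact (ha0 1).trans (hb0 1).symm
  obtain ⟨m, hm1, hm2⟩ : ∃ m : Co0, m • crossL none = crossL none ∧
      m • (g • v) = g' • v := by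
    obtain ⟨r, -, hr1, hr2⟩ := exists_flip_sep k hk
    set e := if (g • v).1 j = (g' • v).1 k then (0 : ℕ) else Golay.enc r with he
    obtain ⟨kk, hkk⟩ : ∃ kk, e = Golay.enc kk := by
      rw [he]; split_ifs
      · exact ⟨0, by decide +kernel⟩
      · exact ⟨r, rfl⟩
    have hc : bitSet (Golay.enc kk) ∈ supports (golayCode : Set (GolayPt → ZMod 2)) :=
      ⟨_, ofBits_enc_mem kk, (bitSet_eq _).symm⟩
    have hbn : e.testBit (ptIdx none) = false := by
      rw [he]; split_ifs
      · simp
      · exact hr2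
    have hf : ∀ x p, flipOn (bitSet (Golay.enc kk)) x p =
        if e.testBit (ptIdx p) then -x p else x p := by
      intro x p
      rw [← flipMask_eq_flipOn, hkk]
      rfl
    refine ⟨monomial hσ hc, Subtype.ext ?_, Subtype.ext ?_⟩
    · rw [monomial_smul]
      funext p
      rw [hf]
      simp only [crossL, cross, Function.comp_apply]
      by_cases hp : p = none
      · subst hp; simp [hσn, hbn]
      · have : σ p ≠ none := fun h => hp (σ.injective (h.trans hσn.symm))
        simp [hp, this]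
    · rw [monomial_smul]
      funext p
      rw [hf]
      simp only [Function.comp_apply]
      by_cases hp : p = none
      · subst hp; simp [hσn, hbn, hgn, hgn']
      by_cases hpk : p = k
      · subst hpk
        rw [hσk, he]
        by_cases h1 : (g • v).1 j = (g' • v).1 p
        · simp [h1]
        · simp [h1, hr1]
          omega
      · have h1 : σ p ≠ none := fun h => hp (σ.injective (h.trans hσn.symm))
        have h2 : σ p ≠ j := fun h => hpk (σ.injective (h.trans hσk.symm))
        rw [hgz _ h1 h2, hgz' _ hp hpk]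
        simp
  have hs : g • (v + w) = crossL none := Subtype.ext hgsum
  have hs' : g' • (v + w') = crossL none := Subtype.ext hgsum'
  refine ⟨g'⁻¹ * (m * g), ?_, ?_⟩
  · rw [mul_smul, mul_smul, hm2, inv_smul_smul]
  · rw [mul_smul, mul_smul, inv_smul_eq_iff]
    have h1 : m • (g • (v + w)) = g' • (v + w') := by rw [hs, hs', hm1]
    rw [co0_add g, co0_add m, co0_add g', hm2] at h1
    exact add_left_cancel h1

/-- The same, up to the sign of the second. -/
theorem exists_smul_orth {v w w' : leechLattice} (hv : sqNorm v.1 = 32) (hw : sqNorm w.1 = 32)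
    (hw' : sqNorm w'.1 = 32) (hd : dotInt v.1 w.1 = 0) (hd' : dotInt v.1 w'.1 = 0) :
    ∃ g : Co0, g • v = v ∧ (g • w = w' ∨ g • w = -w') :=
  let ⟨g, h1, h2⟩ := exists_smul_orth_eq hv hw hw' hd hd'
  ⟨g, h1, Or.inl h2⟩

end Cfsg.Agent.Leech
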