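import Cfsg.Agent.Leech.SimpleMcL
import Cfsg.Agent.Leech.Orthogonal
import Cfsg.Agent.Leech.Census

/-!
Simplicity of the stabiliser of a minimal vector.
-/

set_option autoImplicit false

namespace Cfsg.Agent.Leech

open Cfsg Cfsg.Agent.Golay

/-- The minimal vectors with inner product -8 with `pU`. -/
def set47104 : Set leechLattice := {x | sqNorm x.1 = 32 ∧ dotInt pU.1 x.1 = -8}

/-- The minimal vectors orthogonal to `pU`. -/
def set93150 : Set leechLattice := {x | sqNorm x.1 = 32 ∧ dotInt pU.1 x.1 = 0}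

theorem pW_mem : pW ∈ set47104 := ⟨sqNorm_configs.2.2.1, by decide +kernel⟩

theorem pZ_mem93150 : pZ ∈ set93150 :=
  ⟨sqNorm_configs.2.2.2.2.2.1, dot_configs.2.2.2.2.2.2.2.1⟩

theorem co2_dot {g : Co0} (hg : g ∈ co2) (x : leechLattice) :
    dotInt pU.1 (g • x).1 = dotInt pU.1 x.1 := by
  have h := co0_dotInt g pU x
  rwa [mem_co2.mp hg] at h

theorem set47104_inv {g : Co0} (hg : g ∈ co2) : g • pW ∈ set47104 :=
  ⟨(sqNorm_co0 g pW).trans pW_mem.1, (co2_dot hg pW).trans pW_mem.2⟩

theorem transitive47104 {y : leechLattice} (hy : y ∈ set47104) : ∃ g ∈ co2, g • pW = y :=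
  exists_smul_pair8 sqNorm_configs.1 pW_mem.1 pW_mem.2 sqNorm_configs.1 hy.1 hy.2

theorem transitive93150 {y : leechLattice} (hy : y ∈ set93150) : ∃ g ∈ co2, g • pZ = y :=
  exists_smul_orth_eq sqNorm_configs.1 pZ_mem93150.1 hy.1 pZ_mem93150.2 hy.2

theorem co2_index : (MulAction.stabilizer co2 pW).index = 47104 :=
  (index_stab (fun _ hg => set47104_inv hg) fun _ hy => transitive47104 hy).trans count47104

theorem co2_index93150 : (MulAction.stabilizer co2 pZ).index = 93150 :=
  (index_stab (fun g hg => (show g • pZ ∈ set93150 from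
      ⟨(sqNorm_co0 g pZ).trans pZ_mem93150.1, (co2_dot hg pZ).trans pZ_mem93150.2⟩))
    fun _ hy => transitive93150 hy).trans count93150

theorem le_of_simple {G : Type*} [Group G] [Finite G] {N H : Subgroup G} [N.Normal]
    [IsSimpleGroup H] (h : ¬ Nat.card H ∣ N.index) : H ≤ N := by
  have hn : (N.subgroupOf H).Normal := inferInstance
  rcases hn.eq_bot_or_eq_top with hb | ht
  · exfalso
    apply h
    have hinj : Function.Injective ((QuotientGroup.mk' N).comp H.subtype) := by
      refine (injective_iff_map_eq_one _).mpr fun x hx => ?_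
      have : x ∈ N.subgroupOf H :=
        Subgroup.mem_subgroupOf.mpr ((QuotientGroup.eq_one_iff (x : G)).mp hx)
      rwa [hb, Subgroup.mem_bot] at this
    rw [Nat.card_congr (MonoidHom.ofInjective hinj).toEquiv]
    exact Subgroup.card_subgroup_dvd_card _
  · exact Subgroup.subgroupOf_eq_top.mp ht

theorem relIndex_dvd_index_of_normal {G : Type*} [Group G] [Finite G] (N T : Subgroup G)
    [N.Normal] : T.relIndex N ∣ T.index := by
  have h1 : N.relIndex T * T.index = (N ⊓ T).index := by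
    rw [← Subgroup.inf_relIndex_right, Subgroup.relIndex_mul_index inf_le_right]
  have h2 : T.relIndex N * N.index = (N ⊓ T).index := by
    rw [← Subgroup.inf_relIndex_left, Subgroup.relIndex_mul_index inf_le_left]
  have h3 : N.relIndex T * (N ⊔ T).index = N.index := by
    rw [← Subgroup.relIndex_sup_left (K := N) (H := T), Subgroup.relIndex_mul_index le_sup_left]
  have h4 : 0 < N.relIndex T := Nat.pos_iff_ne_zero.mpr fun h0 => by
    rw [h0, zero_mul] at h3
    exact Subgroup.index_ne_zero_of_finite h3.symm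
  refine ⟨(N ⊔ T).index, Nat.eq_of_mul_eq_mul_left h4 ?_⟩
  rw [h1, ← h2, ← h3]
  ring

theorem card_dvd_index_of_disjoint {G : Type*} [Group G] [Finite G] {N M : Subgroup G} [N.Normal]
    (h : N ⊓ M = ⊥) : Nat.card N ∣ M.index := by
  have h3 : M.relIndex N = Nat.card N := by
    rw [← Subgroup.inf_relIndex_left, h, Subgroup.relIndex_bot_left]
  exact h3 ▸ relIndex_dvd_index_of_normal N M

theorem vecF_check : inLeechB (tv (-3) 1 1) = true ∧ sqNorm (tv (-3) 1 1) = 32 := by decide +kernel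

/-- The vector `(-3, 1²³)`. -/
def pF : leechLattice := ⟨_, mem_of_inLeechB vecF_check.1⟩

theorem mem_M23' {σ : Equiv.Perm GolayPt} (h : σ ∈ Spor.M23) : σ ∈ M24 ∧ σ none = none :=
  ⟨h.1, h.2⟩

/-- M23 as a group of automorphisms of the lattice. -/
def m23Hom : Spor.M23 →* Co0 where
  toFun σ := toCo0 (isAut_comp (inv_mem (mem_M23' σ.2).1))
  map_one' := by
    refine Subtype.ext (Equiv.ext fun x => Subtype.ext ?_)
    funext p
    show x.1 ((((1 : Spor.M23) : Equiv.Perm GolayPt))⁻¹ p) = x.1 p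
    simp
  map_mul' σ τ := by
    refine Subtype.ext (Equiv.ext fun x => Subtype.ext ?_)
    funext p
    show x.1 ((((σ * τ : Spor.M23) : Equiv.Perm GolayPt))⁻¹ p) =
      x.1 ((τ : Equiv.Perm GolayPt)⁻¹ ((σ : Equiv.Perm GolayPt)⁻¹ p))
    simp [mul_inv_rev]

theorem m23Hom_injective : Function.Injective m23Hom := by
  intro σ τ h
  refine Subtype.ext (inv_injective (Equiv.ext fun p => ?_))
  have e := congrArg (fun g : Co0 => (g • crossL ((σ : Equiv.Perm GolayPt)⁻¹ p)).1 p) h
  change cross ((σ : Equiv.Perm GolayPt)⁻¹ p) ((σ : Equiv.Perm GolayPt)⁻¹ p) =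
    cross ((σ : Equiv.Perm GolayPt)⁻¹ p) ((τ : Equiv.Perm GolayPt)⁻¹ p) at e
  simp only [cross, if_true] at e
  by_contra hne
  rw [if_neg (Ne.symm hne)] at e
  omega

theorem m23Hom_fix (σ : Spor.M23) : m23Hom σ • pF = pF := by
  refine Subtype.ext (funext fun p => ?_)
  show tv (-3) 1 1 ((σ : Equiv.Perm GolayPt)⁻¹ p) = tv (-3) 1 1 p
  rw [tv_apply, tv_apply]
  simp only [Equiv.Perm.inv_eq_iff_eq, (mem_M23' σ.2).2]
  split_ifs <;> rfl

/-- A copy of M23 in `co2`. -/
theorem exists_simple_M23_co2 :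
    ∃ H : Subgroup co2, IsSimpleGroup H ∧ Nat.card H = 10200960 := by
  obtain ⟨g, hg⟩ := exists_to_pU (v := pF) vecF_check.2
  let φ : Spor.M23 →* co2 :=
    ((MulAut.conj g).toMonoidHom.comp m23Hom).codRestrict co2 fun σ => by
      rw [mem_co2]
      show (g * m23Hom σ * g⁻¹) • pU = pU
      rw [mul_smul, mul_smul, ← hg, inv_smul_smul, m23Hom_fix]
  have hinj : Function.Injective φ := fun a b h =>
    m23Hom_injective ((MulAut.conj g).injective (congrArg Subtype.val h))
  refine ⟨φ.range, ?_, ?_⟩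
  · have := Golay.isSimpleGroup_M23
    exact (MonoidHom.ofInjective hinj).isSimpleGroup_congr.mp this
  · rw [← Nat.card_congr (MonoidHom.ofInjective hinj).toEquiv]
    exact card_inf_stabilizer_point none

theorem tv_not_mem : tv (-3) 1 (-1) ∉ leechLattice := by
  intro h
  obtain ⟨-, -, hs⟩ := (mem_leechLattice_iff_none _).mp h
  rw [sum_ptOf] at hs
  revert hs
  decide +kernel

theorem pairs_mem : ∀ a b : GolayPt, a ≠ b →
    (4 : ℤ) • (unitVec a + unitVec b) ∈ leechLattice ∧
      (4 : ℤ) • (unitVec a - unitVec b) ∈ leechLattice := by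
  intro a b _
  refine ⟨four_smul_mem ?_, four_smul_mem ?_⟩
  · simp [Finset.sum_add_distrib, unitVec]
  · simp [Finset.sum_sub_distrib, unitVec]

theorem pairs_spec : ∀ a b : GolayPt, a ≠ none → a ≠ some 0 → b ≠ none → b ≠ some 0 → a ≠ b →
    (dotL ((4 : ℤ) • (unitVec a + unitVec b)) ((4 : ℤ) • (unitVec a + unitVec b)) = 32 ∧
      dotL (tv 4 4 0) ((4 : ℤ) • (unitVec a + unitVec b)) = 0) ∧
    (dotL ((4 : ℤ) • (unitVec a - unitVec b)) ((4 : ℤ) • (unitVec a - unitVec b)) = 32 ∧
      dotL (tv 4 4 0) ((4 : ℤ) • (unitVec a - unitVec b)) = 0) := by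
  decide +kernel

/-- The octad vector orthogonal to `pU`. -/
def octVec0 : GolayPt → ℤ := fun p =>
  if ptIdx p = 0 ∨ ptIdx p = 22 then -2 else
    if [12, 14, 16, 17, 18, 23].contains (ptIdx p) then 2 else 0

theorem octVec0_checks : inLeechB octVec0 = true ∧ dotL octVec0 octVec0 = 32 ∧
    dotL (tv 4 4 0) octVec0 = 0 ∧
    (2 : ℤ) • octVec0 = tv 4 (-4) 0 + (4 : ℤ) • (unitVec (ptOf 12) + unitVec (ptOf 14)) +
      (4 : ℤ) • (unitVec (ptOf 16) + unitVec (ptOf 17)) +
      (4 : ℤ) • (unitVec (ptOf 18) - unitVec (ptOf 22)) ∧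
    (8 : ℤ) • tv 1 (-3) 1 = (-2 : ℤ) • tv 4 4 0 + (4 : ℤ) • tv 4 (-4) 0 +
      ∑ a ∈ (Finset.univ : Finset GolayPt).filter (fun a => a ≠ none ∧ a ≠ some 0), cross a := by
  decide +kernel

/-- A map sending each of the minimal vectors orthogonal to `pU` to itself or its negative fixes
`pW` if it fixes `pU`. -/
theorem fix_pW_of_signs (n : Co0) (hU : n • pU = pU)
    (h : ∀ w ∈ set93150, n • w = w ∨ n • w = -w) : n • pW = pW := by
  let f : leechLattice →+ leechLattice := AddMonoidHom.mk' (fun y => n • y) (co0_add n)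
  have hf : ∀ w ∈ set93150, ∃ s : ℤ, (s = 1 ∨ s = -1) ∧ f w = s • w := fun w hw => by
    rcases h w hw with e | e
    · exact ⟨1, Or.inl rfl, by rw [one_zsmul]; exact e⟩
    · exact ⟨-1, Or.inr rfl, by rw [neg_one_zsmul]; exact e⟩
  have hsq : ∀ x : GolayPt → ℤ, dotL x x = sqNorm x := fun x => by
    rw [dotL_eq]; exact Finset.sum_congr rfl fun p _ => (sq _).symm
  let good : GolayPt → Prop := fun a => a ≠ none ∧ a ≠ some 0
  let P : ∀ a b : GolayPt, a ≠ b → leechLattice := fun a b hab => ⟨_, (pairs_mem a b hab).1⟩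
  let Q : ∀ a b : GolayPt, a ≠ b → leechLattice := fun a b hab => ⟨_, (pairs_mem a b hab).2⟩
  have hPm : ∀ {a b : GolayPt} (hab : a ≠ b), good a → good b → P a b hab ∈ set93150 :=
    fun {a b} hab ha hb => by
      have hs := (pairs_spec a b ha.1 ha.2 hb.1 hb.2 hab).1
      exact ⟨(hsq _).symm.trans hs.1, (dotL_eq _ _).symm.trans hs.2⟩
  have hQm : ∀ {a b : GolayPt} (hab : a ≠ b), good a → good b → Q a b hab ∈ set93150 :=
    fun {a b} hab ha hb => by
      have hs := (pairs_spec a b ha.1 ha.2 hb.1 hb.2 hab).2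
      exact ⟨(hsq _).symm.trans hs.1, (dotL_eq _ _).symm.trans hs.2⟩
  have hsum : ∀ {a b : GolayPt} (hab : a ≠ b), crossL a = P a b hab + Q a b hab := by
    intro a b hab
    apply Subtype.ext
    funext p
    simp only [crossL, cross, P, Q, AddSubgroup.coe_add, Pi.add_apply, Pi.smul_apply,
      Pi.sub_apply, unitVec, smul_eq_mul]
    split_ifs <;> omega
  have hdiff : ∀ {a b : GolayPt} (hab : a ≠ b), crossL b = P a b hab - Q a b hab := by
    intro a b hab
    apply Subtype.ext
    funext p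
    simp only [crossL, cross, P, Q, AddSubgroup.coe_sub, Pi.add_apply, Pi.smul_apply,
      Pi.sub_apply, unitVec, smul_eq_mul]
    split_ifs <;> omega
  have happly : ∀ (s : ℤ) (a p : GolayPt), (s • crossL a).1 p = if p = a then 8 * s else 0 := by
    intro s a p
    simp only [AddSubgroup.coe_zsmul, Pi.smul_apply, crossL, cross, smul_eq_mul]
    split_ifs <;> ring
  have hcross : ∀ {a b : GolayPt} (hab : a ≠ b), good a → good b →
      ∃ s : ℤ, (s = 1 ∨ s = -1) ∧ (f (crossL a) = s • crossL a ∨ f (crossL a) = s • crossL b) := by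
    intro a b hab ha hb
    obtain ⟨s, hs, es⟩ := hf _ (hPm hab ha hb)
    obtain ⟨t, ht, et⟩ := hf _ (hQm hab ha hb)
    refine ⟨s, hs, ?_⟩
    rw [hsum hab, map_add, es, et, hdiff hab, smul_add, smul_sub]
    by_cases hst : s = t
    · left; rw [hst]
    · right
      rw [show t = -s by omega, neg_zsmul, sub_eq_add_neg]
  have hdiag : ∀ a, good a → ∃ s : ℤ, (s = 1 ∨ s = -1) ∧ f (crossL a) = s • crossL a := by
    intro a ha
    have key : ∀ a : GolayPt, a ≠ none → a ≠ some 0 → ∃ b c : GolayPt, b ≠ none ∧ b ≠ some 0 ∧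
        c ≠ none ∧ c ≠ some 0 ∧ a ≠ b ∧ a ≠ c ∧ b ≠ c := by decide +kernel
    obtain ⟨b, c, hb1, hb2, hc1, hc2, hab, hac, hbc⟩ := key a ha.1 ha.2
    obtain ⟨s, hs, e | e⟩ := hcross hab ha ⟨hb1, hb2⟩
    · exact ⟨s, hs, e⟩
    obtain ⟨t, ht, e' | e'⟩ := hcross hac ha ⟨hc1, hc2⟩
    · exact ⟨t, ht, e'⟩
    exfalso
    have h' := congrArg (fun y : leechLattice => y.1 b) (e.symm.trans e')
    simp only [happly, if_true, if_neg hbc] at h'
    omega
  have hpair : ∀ {a b : GolayPt} (hab : a ≠ b) (ha : good a) (hb : good b) {s : ℤ},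
      (s = 1 ∨ s = -1) → f (crossL a) = s • crossL a → f (P a b hab) = s • P a b hab ∧
        f (crossL b) = s • crossL b ∧ f (Q a b hab) = s • Q a b hab := by
    intro a b hab ha hb s hs e
    obtain ⟨u, hu, eu⟩ := hf _ (hPm hab ha hb)
    obtain ⟨t, ht, et⟩ := hf _ (hQm hab ha hb)
    have e2 := e
    rw [hsum hab, map_add, eu, et] at e2
    have h1 := congrArg (fun y : leechLattice => y.1 a) e2
    have h2 := congrArg (fun y : leechLattice => y.1 b) e2
    simp only [AddSubgroup.coe_add, AddSubgroup.coe_zsmul, Pi.add_apply, Pi.smul_apply, P, Q,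
      Pi.sub_apply, unitVec, smul_eq_mul, if_true, if_neg hab, if_neg (Ne.symm hab)] at h1 h2
    have hu' : u = s := by omega
    have ht' : t = s := by omega
    subst hu'; subst ht'
    exact ⟨eu, by rw [hdiff hab, map_sub, eu, et, smul_sub], et⟩
  have g12 : good (ptOf 12) := by decide +kernel
  obtain ⟨s, hs, h12⟩ := hdiag _ g12
  have hall : ∀ a, good a → f (crossL a) = s • crossL a := fun a ha => by
    by_cases hne : ptOf 12 = a
    · subst hne; exact h12
    · exact (hpair hne g12 ha hs h12).2.1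
  have hne : ptOf 12 ≠ ptOf 14 ∧ ptOf 16 ≠ ptOf 17 ∧ ptOf 18 ≠ ptOf 22 ∧ good (ptOf 14) ∧
      good (ptOf 16) ∧ good (ptOf 17) ∧ good (ptOf 18) ∧ good (ptOf 22) := by decide +kernel
  obtain ⟨n1, n2, n3, g14, g16, g17, g18, g22⟩ := hne
  have p1 := (hpair n1 g12 g14 hs h12).1
  have p2 := (hpair n2 g16 g17 hs (hall _ g16)).1
  have p3 := (hpair n3 g18 g22 hs (hall _ g18)).2.2
  obtain ⟨ho1, ho2, ho3, hrel, hrel8⟩ := octVec0_checks
  set O : leechLattice := ⟨octVec0, mem_of_inLeechB ho1⟩ with hO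
  obtain ⟨t, ht, eO⟩ := hf O ⟨(hsq _).symm.trans ho2, (dotL_eq _ _).symm.trans ho3⟩
  obtain ⟨z, hz, eZ⟩ := hf pZ pZ_mem93150
  have hrelL : (2 : ℤ) • O = pZ + P _ _ n1 + P _ _ n2 + Q _ _ n3 := Subtype.ext hrel
  have hfO := congrArg f hrelL
  rw [map_zsmul, eO, map_add, map_add, map_add, eZ, p1, p2, p3] at hfO
  have c1 := congrArg (fun y : leechLattice => y.1 none) hfO
  have c2 := congrArg (fun y : leechLattice => y.1 (ptOf 12)) hfO
  have v1 : octVec0 none = 2 ∧ pZ.1 none = 4 ∧ octVec0 (ptOf 12) = 2 ∧ pZ.1 (ptOf 12) = 0 ∧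
      unitVec (ptOf 12) none = 0 ∧ unitVec (ptOf 14) none = 0 ∧ unitVec (ptOf 16) none = 0 ∧
      unitVec (ptOf 17) none = 0 ∧ unitVec (ptOf 18) none = 0 ∧ unitVec (ptOf 22) none = 0 ∧
      unitVec (ptOf 12) (ptOf 12) = 1 ∧ unitVec (ptOf 14) (ptOf 12) = 0 ∧
      unitVec (ptOf 16) (ptOf 12) = 0 ∧ unitVec (ptOf 17) (ptOf 12) = 0 ∧
      unitVec (ptOf 18) (ptOf 12) = 0 ∧ unitVec (ptOf 22) (ptOf 12) = 0 := by
    decide +kernel
  obtain ⟨w1, w2, w3, w4, u1, u2, u3, u4, u5, u6, u7, u8, u9, u10, u11, u12⟩ := v1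
  simp only [AddSubgroup.coe_add, AddSubgroup.coe_zsmul, Pi.add_apply, Pi.smul_apply, P, Q,
    Pi.sub_apply, hO, smul_eq_mul, w1, w2, w3, w4, u1, u2, u3, u4, u5, u6, u7, u8, u9, u10, u11, u12] at c1 c2
  have hzs : z = s := by omega
  have hfU : f pU = pU := hU
  have hrel8L : (8 : ℤ) • pW = (-2 : ℤ) • pU + (4 : ℤ) • pZ +
      ∑ a ∈ (Finset.univ : Finset GolayPt).filter (fun a => a ≠ none ∧ a ≠ some 0), crossL a := by
    apply Subtype.ext
    rw [AddSubgroup.coe_add, AddSubgroup.coe_add, AddSubgroup.coe_zsmul, AddSubgroup.coe_zsmul,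
      AddSubgroup.coe_zsmul, AddSubgroup.val_finsetSum]
    exact hrel8
  have hfW := congrArg f hrel8L
  rw [map_zsmul, map_add, map_add, map_zsmul, map_zsmul, hfU, eZ, hzs, map_sum,
    Finset.sum_congr rfl fun a ha => hall a (Finset.mem_filter.mp ha).2, ← Finset.smul_sum] at hfW
  have hkey : ∀ p, 8 * (n • pW).1 p = -2 * pU.1 p + s * (8 * pW.1 p + 2 * pU.1 p) := by
    intro p
    have h1 := congrArg (fun y : leechLattice => y.1 p) hfW
    have h2 := congrArg (fun y : leechLattice => y.1 p) hrel8L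
    simp only [AddSubgroup.coe_add, AddSubgroup.coe_zsmul, Pi.add_apply, Pi.smul_apply,
      smul_eq_mul] at h1 h2
    change 8 * (n • pW).1 p = _ at h1
    rw [h1, h2]
    ring
  rcases hs with rfl | rfl
  · refine Subtype.ext (funext fun p => ?_)
    have := hkey p
    omega
  · exfalso
    apply tv_not_mem
    have e : (n • pW).1 = tv (-3) 1 (-1) := by
      funext p
      have := hkey p
      rw [show pU.1 = tv 4 4 0 from rfl, show pW.1 = tv 1 (-3) 1 from rfl, tv_apply, tv_apply]
        at this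
      rw [tv_apply]
      split_ifs at this ⊢ <;> omega
    rw [← e]
    exact (n • pW).2

theorem signs_of_small {N : Subgroup co2} [N.Normal] (hN : Nat.card N ∣ 2 ^ 11) :
    ∀ n ∈ N, ∀ w ∈ set93150, (n : Co0) • w = w ∨ (n : Co0) • w = -w := by
  have := finite_Co0
  set T := MulAction.stabilizer co2 pZ with hT
  have hs : T.relIndex N ∣ 2 := by
    have h1 : T.relIndex N ∣ Nat.card N := Subgroup.relIndex_dvd_card _ _
    have h2 : T.relIndex N ∣ 93150 := by
      rw [← co2_index93150]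
      exact relIndex_dvd_index_of_normal N T
    have := Nat.dvd_gcd (h1.trans hN) h2
    exact this.trans (by norm_num)
  have horb : (MulAction.orbit N pZ).ncard ≤ 2 := by
    rw [← MulAction.index_stabilizer]
    exact Nat.le_of_dvd two_pos hs
  have hmain : ∀ n ∈ N, (n : Co0) • pZ = pZ ∨ (n : Co0) • pZ = -pZ := by
    intro n hn
    by_cases he : (n : Co0) • pZ = pZ
    · exact Or.inl he
    right
    set y := (n : Co0) • pZ with hy
    have hfin : (MulAction.orbit N pZ).Finite := Set.finite_range _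
    have hpair : MulAction.orbit N pZ = {pZ, y} := by
      refine (Set.eq_of_subset_of_ncard_le ?_ ?_ hfin).symm
      · intro x hx
        rcases hx with rfl | rfl
        · exact MulAction.mem_orbit_self _
        · exact ⟨⟨n, hn⟩, rfl⟩
      · rw [Set.ncard_pair (Ne.symm he)]; exact horb
    have hfix : ∀ m ∈ m22G, m • y = y := by
      intro m hm
      have hm2 : m ∈ co2 := mem_co2.mpr (mem_mcl.mp (m22G_le_mcl hm)).2
      have hmZ : m • pZ = pZ := m22G_fix_tv 4 (-4) 0 pZ rfl m hm
      have hmem : m • y ∈ MulAction.orbit N pZ := by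
        refine ⟨⟨⟨m, hm2⟩ * n * (⟨m, hm2⟩ : co2)⁻¹, (inferInstance : N.Normal).conj_mem n hn _⟩, ?_⟩
        show (m * (n : Co0) * m⁻¹) • pZ = m • y
        rw [mul_smul, mul_smul, show m⁻¹ • pZ = pZ from inv_smul_eq_iff.mpr hmZ.symm]
      rw [hpair] at hmem
      rcases hmem with e | e
      · exfalso
        exact he ((smul_left_cancel m (e.trans hmZ.symm)))
      · exact e
    have h1 : sqNorm y.1 = 32 := (sqNorm_co0 _ pZ).trans pZ_mem93150.1
    have h2 : dotInt pU.1 y.1 = 0 := (co2_dot n.2 pZ).trans pZ_mem93150.2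
    have e := eq_tv_of_fixed hfix
    generalize y.1 none = a at e
    generalize y.1 (some 0) = b at e
    generalize y.1 (some 1) = c at e
    rw [e, sqNorm_tv] at h1
    rw [e, show pU.1 = tv 4 4 0 from rfl, dot_tv] at h2
    obtain ⟨hc1, hc2⟩ := abs_le_one (c := c) (by nlinarith)
    have hb : b = -a := by omega
    subst hb
    obtain ⟨ha1, ha2⟩ := abs_le_five (a := a) (by nlinarith)
    have key : c = 0 ∧ (a = 4 ∨ a = -4) := by
      interval_cases c <;> interval_cases a <;>
        first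
          | (exfalso; norm_num at h1; done)
          | exact ⟨rfl, by norm_num⟩
    obtain ⟨rfl, rfl | rfl⟩ := key
    · exact absurd (Subtype.ext (e.trans (show tv 4 (-4) 0 = pZ.1 from rfl))) he
    · refine Subtype.ext (e.trans ?_)
      show tv (-4) (- -4) 0 = (-pZ).1
      decide +kernel
  intro n hn w hw
  obtain ⟨k, hk, rfl⟩ := transitive93150 hw
  set k' : co2 := ⟨k, hk⟩ with hk'
  have hn' : k'⁻¹ * n * k'⁻¹⁻¹ ∈ N := (inferInstance : N.Normal).conj_mem n hn _
  rcases hmain _ hn' with e | e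
  · left
    have e' : (k⁻¹ * (n : Co0) * k⁻¹⁻¹) • pZ = pZ := e
    rw [inv_inv, mul_smul, mul_smul, inv_smul_eq_iff] at e'
    exact e'
  · right
    have e' : (k⁻¹ * (n : Co0) * k⁻¹⁻¹) • pZ = -pZ := e
    rw [inv_inv, mul_smul, mul_smul, inv_smul_eq_iff, co0_neg] at e'
    exact e'

/-- Index and word mask of code words avoiding the two special points, each with an octad of the
code through the extra point missing both it and 0. -/
def flipBasis : List (ℕ × ℕ) :=
  [(2, 9568632), (8, 9486564), (20, 11551306), (36, 10232008), (68, 13009064), (128, 14688364),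
    (256, 12604486), (512, 8683614), (1028, 9998658), (2052, 8937586)]

/-- A vector with inner product -8 with `pU`, supported on an octad. -/
def negOct (o : ℕ) : GolayPt → ℤ := fun p =>
  if o.testBit (ptIdx p) then -2 else 0

theorem flips_check :
    (flipBasis.all fun z => inLeechB (negOct z.2) && (dotL (negOct z.2) (negOct z.2) == 32) &&
      (dotL (tv 4 4 0) (negOct z.2) == -8) && fixesB [192 + z.1] (negOct z.2) &&
      fixesB [192 + z.1] (tv 4 4 0)) = true ∧
    ((List.range 4096).all fun k => (Golay.enc k).testBit 23 || (Golay.enc k).testBit 0 ||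
      (List.range 1024).any fun s => xorSel (flipBasis.map Prod.fst) s == k) = true := by
  decide +kernel

/-- The vector with 3 at a point and `-1` elsewhere. -/
def negThree : GolayPt → ℤ := fun p => if ptIdx p = 10 then 3 else -1

theorem swap_check : inLeechB negThree = true ∧ dotL negThree negThree = 32 ∧
    dotL (tv 4 4 0) negThree = -8 ∧ fixesB [2, 66] negThree = true ∧
    fixesB [2, 66] (tv 4 4 0) = true ∧ eqB (tv (-4) 4 0) (wordApp2 [2, 66] (tv 4 (-4) 0)) = true := by
  decide +kernel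

theorem mem_of_witness {N : Subgroup co2} [N.Normal] (hM : MulAction.stabilizer co2 pW ≤ N)
    {g : co2} {y : leechLattice} (hy : y ∈ set47104) (hgy : (g : Co0) • y = y) : g ∈ N := by
  obtain ⟨k, hk, rfl⟩ := transitive47104 hy
  set k' : co2 := ⟨k, hk⟩ with hk'
  have h1 : k'⁻¹ * g * k' ∈ MulAction.stabilizer co2 pW := by
    rw [MulAction.mem_stabilizer_iff]
    show (k⁻¹ * (g : Co0) * k) • pW = pW
    rw [mul_smul, mul_smul, hgy, inv_smul_smul]
  have h2 := (inferInstance : N.Normal).conj_mem _ (hM h1) k'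
  simpa [mul_assoc] using h2

theorem stab_pZ_le {N : Subgroup co2} [N.Normal] (hM : MulAction.stabilizer co2 pW ≤ N) :
    MulAction.stabilizer co2 pZ ≤ N := by
  obtain ⟨hfb, hcov⟩ := flips_check
  have hsq : ∀ x : GolayPt → ℤ, dotL x x = sqNorm x := fun x => by
    rw [dotL_eq]; exact Finset.sum_congr rfl fun p _ => (sq _).symm
  let good : ℕ → Prop := fun k => ∃ g ∈ N, ∀ x : leechLattice,
    ((g : Co0) • x).1 = flipMask (Golay.enc k) x.1
  have hflip_word : ∀ (k : ℕ) (x : GolayPt → ℤ),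
      wordApp2 [192 + k] x = flipMask (Golay.enc k) x := fun k x => by
    simp only [wordApp2, stepFun2, show ¬ 192 + k < 192 by omega, if_false, Nat.add_sub_cancel_left]
  have hbase : ∀ k ∈ flipBasis.map Prod.fst, good k := by
    intro k hk
    obtain ⟨z, hz, rfl⟩ := List.mem_map.mp hk
    have h := List.all_eq_true.mp hfb z hz
    simp only [Bool.and_eq_true, beq_iff_eq] at h
    obtain ⟨⟨⟨⟨h1, h2⟩, h3⟩, h4⟩, h5⟩ := h
    refine ⟨⟨wordAut [192 + z.1], mem_co2.mpr (wordAut_mem_stabilizer (x := pU) h5)⟩,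
      mem_of_witness hM (y := ⟨_, mem_of_inLeechB h1⟩)
        ⟨(hsq _).symm.trans h2, (dotL_eq _ _).symm.trans h3⟩
        (wordAut_mem_stabilizer (x := ⟨_, mem_of_inLeechB h1⟩) h4), fun x => ?_⟩
    show (wordAut [192 + z.1] • x).1 = _
    rw [wordAut_smul, hflip_word]
  have h0 : good 0 := ⟨1, one_mem _, fun x => by
    funext p
    have e : Golay.enc 0 = 0 := by decide +kernel
    simp [flipMask, e]⟩
  have hxor : ∀ a b, good a → good b → good (a ^^^ b) := by
    rintro a b ⟨g, hg, hg'⟩ ⟨h, hh, hh'⟩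
    refine ⟨g * h, mul_mem hg hh, fun x => ?_⟩
    show (((g : Co0) * (h : Co0)) • x).1 = _
    rw [mul_smul, hg', hh']
    funext p
    have e : Golay.enc (a ^^^ b) = Golay.enc a ^^^ Golay.enc b := xorSel_xor _ a b
    simp only [flipMask, e, Nat.testBit_xor]
    cases (Golay.enc a).testBit (ptIdx p) <;> cases (Golay.enc b).testBit (ptIdx p) <;> simp
  have hsel : ∀ (l : List ℕ) (s : ℕ), (∀ k ∈ l, good k) → good (xorSel l s) := by
    intro l
    induction l with
    | nil => intro s _; exact h0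
    | cons r l ih =>
      intro s h
      rw [xorSel]
      refine hxor _ _ ?_ (ih _ fun k hk => h k (List.mem_cons_of_mem _ hk))
      cases s.testBit 0
      · exact h0
      · exact h r List.mem_cons_self
  intro g hg
  have hgZ : (g : Co0) • pZ = pZ := MulAction.mem_stabilizer_iff.mp hg
  have hgU : (g : Co0) • pU = pU := mem_co2.mp g.2
  have e8 : crossL none = pU + pZ := by
    apply Subtype.ext
    show cross none = tv 4 4 0 + tv 4 (-4) 0
    decide +kernel
  have hg8 : (g : Co0) • crossL none = crossL none := by rw [e8, co0_add, hgU, hgZ]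
  obtain ⟨σ, hσ, c, hc, hgm, hσn, hcn⟩ := exists_monomial_of_fix (g : Co0) hg8
  have h0' := congrFun (congrArg Subtype.val hgU) (some 0)
  rw [hgm, monomial_smul] at h0'
  simp only [flipOn, Function.comp_apply, show pU.1 = tv 4 4 0 from rfl] at h0'
  have e00 : tv 4 4 0 (some 0) = 4 := by decide +kernel
  rw [e00, tv_apply] at h0'
  have hσn0 : σ (some 0) ≠ none := fun h =>
    Option.some_ne_none _ (σ.injective (h.trans hσn.symm))
  rw [if_neg hσn0] at h0'
  obtain ⟨hc0, hσ0⟩ : some (0 : ZMod 23) ∉ c ∧ σ (some 0) = some 0 := by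
    by_cases hb : some (0 : ZMod 23) ∈ c
    · rw [if_pos hb] at h0'; split_ifs at h0' <;> omega
    · rw [if_neg hb] at h0'
      refine ⟨hb, ?_⟩
      by_contra hne
      rw [if_neg hne] at h0'
      omega
  obtain ⟨v, hv, hvc⟩ := hc
  obtain ⟨k, hk, rfl⟩ := (mem_golayCode_iff _).mp hv
  rw [← bitSet_eq] at hvc
  subst hvc
  have hbit : ∀ p, p ∈ bitSet (Golay.enc k) ↔ (Golay.enc k).testBit (ptIdx p) = true := fun p => by
    simp [bitSet]
  have hkgood : good k := by
    have h := List.all_eq_true.mp hcov k (List.mem_range.mpr hk)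
    simp only [Bool.or_eq_true, List.any_eq_true, beq_iff_eq] at h
    rcases h with (h | h) | ⟨s, -, hs⟩
    · exact absurd ((hbit none).mpr h) hcn
    · exact absurd ((hbit (some 0)).mpr h) hc0
    · exact hs ▸ hsel _ s hbase
  obtain ⟨f, hf, hf'⟩ := hkgood
  have hM22 : σ⁻¹ ∈ Spor.M22 := inv_mem ⟨⟨hσ, hσn⟩, hσ0⟩
  set m : Co0 := m22Hom ⟨σ⁻¹, hM22⟩ with hm
  have hmm : m ∈ m22G := ⟨_, rfl⟩
  have hm2 : m ∈ co2 := mem_co2.mpr (mem_mcl.mp (m22G_le_mcl hmm)).2
  have hmN : (⟨m, hm2⟩ : co2) ∈ N :=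
    hM (MulAction.mem_stabilizer_iff.mpr (mcl_smul_pW (m22G_le_mcl hmm)))
  have e : g = f * ⟨m, hm2⟩ := by
    apply Subtype.ext
    apply Subtype.ext
    apply Equiv.ext
    intro x
    apply Subtype.ext
    show ((g : Co0) • x).1 = (((f : Co0) * m) • x).1
    rw [hgm, mul_smul, hf']
    show flipOn (bitSet (Golay.enc k)) (x.1 ∘ σ) = _
    funext p
    simp only [flipOn, flipMask, hbit, Function.comp_apply, hm, m22Hom_smul, inv_inv]
  rw [e]
  exact mul_mem hf hmN

theorem top_of_stab_le {N : Subgroup co2} [N.Normal] (hM : MulAction.stabilizer co2 pW ≤ N) :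
    N = ⊤ := by
  have := finite_Co0
  have hT := stab_pZ_le hM
  -- the order of `N` is divisible by that of `M`
  have eM : MulAction.stabilizer co2 pW ≃* mcl :=
    (stabEquiv co2 pW).trans (MulEquiv.subgroupCongr co2_inf_pW)
  have h1 : 898128000 ∣ Nat.card N := by
    rw [← card_mcl, ← Nat.card_congr eM.toEquiv]
    exact Subgroup.card_dvd_of_le hM
  -- and by twice the order of the stabiliser of `pZ`
  obtain ⟨hs1, hs2, hs3, hs4, hs5, hs6⟩ := swap_check
  have hsq : ∀ x : GolayPt → ℤ, dotL x x = sqNorm x := fun x => by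
    rw [dotL_eq]; exact Finset.sum_congr rfl fun p _ => (sq _).symm
  set s : co2 := ⟨wordAut [2, 66], mem_co2.mpr (wordAut_mem_stabilizer (x := pU) hs5)⟩ with hs
  have hsN : s ∈ N := mem_of_witness hM (y := ⟨_, mem_of_inLeechB hs1⟩)
    ⟨(hsq _).symm.trans hs2, (dotL_eq _ _).symm.trans hs3⟩
    (wordAut_mem_stabilizer (x := ⟨_, mem_of_inLeechB hs1⟩) hs4)
  have hsZ : (s : Co0) • pZ = -pZ := by
    refine Subtype.ext ((wordAut_smul _ pZ).trans ((eq_of_eqB hs6).trans ?_))
    show tv (-4) 4 0 = -tv 4 (-4) 0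
    decide +kernel
  have hneZ : -pZ ≠ pZ := by
    intro h
    have := congrArg (fun v : leechLattice => v.1 none) h
    revert this
    decide +kernel
  let U : Subgroup co2 :=
    { carrier := {g | g ∈ N ∧ ((g : Co0) • pZ = pZ ∨ (g : Co0) • pZ = -pZ)}
      one_mem' := ⟨one_mem _, Or.inl (one_smul _ _)⟩
      mul_mem' := by
        rintro a b ⟨ha, ha'⟩ ⟨hb, hb'⟩
        refine ⟨mul_mem ha hb, ?_⟩
        rcases ha' with e | e <;> rcases hb' with e' | e'
        · exact Or.inl (by rw [Subgroup.coe_mul, mul_smul, e', e])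
        · exact Or.inr (by rw [Subgroup.coe_mul, mul_smul, e', co0_neg, e])
        · exact Or.inr (by rw [Subgroup.coe_mul, mul_smul, e', e])
        · exact Or.inl (by rw [Subgroup.coe_mul, mul_smul, e', co0_neg, e, neg_neg])
      inv_mem' := by
        rintro a ⟨ha, ha'⟩
        refine ⟨inv_mem ha, ?_⟩
        rcases ha' with e | e
        · exact Or.inl (by rw [Subgroup.coe_inv, inv_smul_eq_iff, e])
        · exact Or.inr (by rw [Subgroup.coe_inv, inv_smul_eq_iff, co0_neg, e, neg_neg]) }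
  have hTU : MulAction.stabilizer co2 pZ ≤ U := fun g hg => ⟨hT hg, Or.inl hg⟩
  have hrel : (MulAction.stabilizer co2 pZ).relIndex U = 2 := by
    have horb : MulAction.orbit U pZ = {pZ, -pZ} := by
      ext y
      constructor
      · rintro ⟨u, rfl⟩
        rcases u.2.2 with e | e
        · exact Or.inl e
        · exact Or.inr e
      · rintro (rfl | rfl)
        · exact MulAction.mem_orbit_self _
        · exact ⟨⟨s, hsN, Or.inr hsZ⟩, hsZ⟩
    show (MulAction.stabilizer U pZ).index = 2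
    rw [MulAction.index_stabilizer, horb, Set.ncard_pair (Ne.symm hneZ)]
  have hcardT : Nat.card (MulAction.stabilizer co2 pZ) = 454164480 := by
    have h := Subgroup.index_mul_card (MulAction.stabilizer co2 pZ)
    rw [co2_index93150, card_co2] at h
    omega
  have h2 : 908328960 ∣ Nat.card N := by
    refine dvd_trans ?_ (Subgroup.card_dvd_of_le (show U ≤ N from fun g hg => hg.1))
    have h := Subgroup.card_mul_index ((MulAction.stabilizer co2 pZ).subgroupOf U)
    rw [Nat.card_congr (Subgroup.subgroupOfEquivOfLe hTU).toEquiv, hcardT] at h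
    change 454164480 * (MulAction.stabilizer co2 pZ).relIndex U = _ at h
    rw [hrel] at h
    rw [← h]
  -- and by 23
  have hidx := Subgroup.index_mul_card N
  rw [card_co2] at hidx
  obtain ⟨H, hH, hHc⟩ := exists_simple_M23_co2
  have hle : H ≤ N := le_of_simple fun hd => by
    rw [hHc] at hd
    have h3 : 10200960 * 898128000 ∣ 42305421312000 := hidx ▸ mul_dvd_mul hd h1
    norm_num at h3
  have h3 : 10200960 ∣ Nat.card N := hHc ▸ Subgroup.card_dvd_of_le hle
  have hall : 42305421312000 ∣ Nat.card N := by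
    have h := Nat.lcm_dvd (Nat.lcm_dvd h1 h2) h3
    have e : Nat.lcm (Nat.lcm 898128000 908328960) 10200960 = 42305421312000 := by decide +kernel
    rwa [e] at h
  exact Subgroup.eq_top_of_le_card N (by rw [card_co2]; exact Nat.le_of_dvd Nat.card_pos hall)

theorem isSimpleGroup_co2 : IsSimpleGroup co2 := by
  have := finite_Co0
  have : Fact (Nat.Prime 23) := ⟨by norm_num⟩
  set M := MulAction.stabilizer co2 pW with hM
  have eM : M ≃* mcl := (stabEquiv co2 pW).trans (MulEquiv.subgroupCongr co2_inf_pW)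
  have hMs : IsSimpleGroup M := eM.isSimpleGroup_congr.mpr isSimpleGroup_mcl
  have : Nontrivial co2 := M.subtype_injective.nontrivial
  refine { eq_bot_or_eq_top_of_normal := fun N hN => ?_ }
  have hnM : (N.subgroupOf M).Normal := inferInstance
  rcases hnM.eq_bot_or_eq_top with h | h
  · left
    have hdisj : N ⊓ M = ⊥ := disjoint_iff.mp (Subgroup.subgroupOf_eq_bot.mp h)
    have hcard : Nat.card N ∣ 2 ^ 11 * 23 := by
      have := card_dvd_index_of_disjoint hdisj
      rw [hM, co2_index] at this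
      exact this
    have h23 : ¬ 23 ∣ Nat.card N := by
      intro h23
      obtain ⟨H, hH, hHc⟩ := exists_simple_M23_co2
      have hidx := Subgroup.index_mul_card N
      rw [card_co2] at hidx
      have hle : H ≤ N := le_of_simple fun hd => by
        rw [hHc] at hd
        have h2 : 10200960 * 23 ∣ 42305421312000 := hidx ▸ mul_dvd_mul hd h23
        norm_num at h2
      have h2 := (Subgroup.card_dvd_of_le hle).trans hcard
      rw [hHc] at h2
      norm_num at h2
    have h2 : Nat.card N ∣ 2 ^ 11 :=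
      (((Nat.Prime.coprime_iff_not_dvd (by norm_num)).mpr h23).symm).dvd_of_dvd_mul_right hcard
    refine (Subgroup.eq_bot_iff_forall N).mpr fun n hn => ?_
    have hW := fix_pW_of_signs n (mem_co2.mp n.2) (signs_of_small h2 n hn)
    have : n ∈ N ⊓ M := Subgroup.mem_inf.mpr ⟨hn, MulAction.mem_stabilizer_iff.mpr hW⟩
    rwa [hdisj, Subgroup.mem_bot] at this
  · right
    exact top_of_stab_le (Subgroup.subgroupOf_eq_top.mp h)

end Cfsg.Agent.Leech
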