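import Cfsg.Prelude.Def_Sporadic
import Cfsg.Agent.Leech.SimpleCo2
import Cfsg.Agent.Leech.TreesData

/-!
Simplicity of `Co0` modulo its centre.
-/

set_option autoImplicit false

namespace Cfsg.Agent.Leech

open Cfsg Cfsg.Agent.Golay

theorem exists_move4600 {v w w' : leechLattice} (hv : sqNorm v.1 = 32) (hw : sqNorm w.1 = 32)
    (hw' : sqNorm w'.1 = 32) (t : ℤ) (ht : t = -16 ∨ t = -8 ∨ t = 0 ∨ t = 8 ∨ t = 16)
    (h : dotInt v.1 w.1 = t) (h' : dotInt v.1 w'.1 = t) : ∃ g : Co0, g • v = v ∧ g • w = w' := by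
  have hneg : ∀ {x : leechLattice}, sqNorm x.1 = 32 → sqNorm (-x).1 = 32 := fun hx => by
    rw [← hx]; simp [sqNorm]
  have hdn : ∀ x : leechLattice, dotInt v.1 (-x).1 = -dotInt v.1 x.1 := fun x => by
    simp [dotInt]
  rcases ht with rfl | rfl | rfl | rfl | rfl
  · exact exists_smul_pair16 hv hw h hv hw' h'
  · exact exists_smul_pair8 hv hw h hv hw' h'
  · exact exists_smul_orth_eq hv hw hw' h h'
  · obtain ⟨g, h1, h2⟩ := exists_smul_pair8 hv (hneg hw) (by rw [hdn, h]) hv (hneg hw')
      (by rw [hdn, h'])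
    rw [co0_neg, neg_inj] at h2
    exact ⟨g, h1, h2⟩
  · obtain ⟨g, h1, h2⟩ := exists_smul_pair16 hv (hneg hw) (by rw [hdn, h]) hv (hneg hw')
      (by rw [hdn, h'])
    rw [co0_neg, neg_inj] at h2
    exact ⟨g, h1, h2⟩

theorem dot_values {v w : leechLattice} (hv : sqNorm v.1 = 32) (hw : sqNorm w.1 = 32) :
    v = w ∨ v = -w ∨ dotInt v.1 w.1 = -16 ∨ dotInt v.1 w.1 = -8 ∨ dotInt v.1 w.1 = 0 ∨
      dotInt v.1 w.1 = 8 ∨ dotInt v.1 w.1 = 16 := by
  by_cases h1 : v = w
  · exact Or.inl h1
  by_cases h2 : v = -w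
  · exact Or.inr (Or.inl h2)
  refine Or.inr (Or.inr ?_)
  have ha : (v - w).1 ≠ 0 := fun h => h1 (sub_eq_zero.mp (Subtype.ext h))
  have hb : (v + w).1 ≠ 0 := fun h => h2 (eq_neg_of_add_eq_zero_left (Subtype.ext h))
  have h3 := sqNorm_ge (v - w).2 ha
  have h4 := sqNorm_ge (v + w).2 hb
  have h5 := sqNorm_mod (v - w).2
  rw [AddSubgroup.coe_sub, sqNorm_sub_eq, hv, hw] at h3 h5
  rw [AddSubgroup.coe_add, sqNorm_add_eq, hv, hw] at h4
  omega

/-- Words with a fixed minimal vector moving `pU` into each class. -/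
def moveWords : List (List ℕ × List ℤ × ℤ) :=
  [([193], [0, 4, 4, 0, 0, 0, 0, 0, 0, 0, 0, 0, 0, 0, 0, 0, 0, 0, 0, 0, 0, 0, 0, 0], -32),
   ([3526, 39, 80, 253, 0, 3004, 1, 3526],
     [0, 0, 0, 0, 0, 0, 0, 0, 0, 0, 0, 0, 0, 0, 0, 0, 0, 0, 0, 0, 0, 0, -4, -4], -16),
   ([3324, 191, 72, 196, 0, 3225, 191, 3324],
     [4, 0, 0, 0, 0, 0, 0, 0, 0, 0, 0, 0, 0, 0, 0, 0, 0, 0, 0, 0, 0, 0, 0, -4], 0),
   ([1506, 46, 72, 196, 0, 3225, 41, 1506],
     [0, 0, 0, 0, 0, 0, 0, 0, 0, 0, 0, 0, 0, 0, 0, -4, 0, 0, 0, 0, 0, 0, 0, 4], 8),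
   ([1607, 30, 190, 197, 0, 3990, 31, 1607],
     [0, 0, 0, 0, 0, 0, 0, 0, 0, 0, 0, 0, 0, 0, 0, 0, 0, 0, 0, 0, 0, 0, -4, -4], 16)]

theorem moveWords_check :
    (moveWords.all fun z => inLeechB (ofList z.2.1) && (dotL (ofList z.2.1) (ofList z.2.1) == 32) &&
      fixesB z.1 (ofList z.2.1) && (dotL (tv 4 4 0) (wordApp2 z.1 (tv 4 4 0)) == z.2.2)) = true ∧
    [(-32 : ℤ), -16, 0, 8, 16].all (fun d => (moveWords.map fun z => z.2.2).contains d) = true := by
  decide +kernel

theorem eq_top_of_co2_le {N : Subgroup Co0} [N.Normal] (hle : co2 ≤ N) : N = ⊤ := by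
  have hstab : ∀ y : leechLattice, sqNorm y.1 = 32 → MulAction.stabilizer Co0 y ≤ N := by
    intro y hy g hg
    obtain ⟨k, hk⟩ := exists_to_pU hy
    have : k * g * k⁻¹ ∈ N := hle (mem_co2.mpr (by
      rw [mul_smul, mul_smul, ← hk, inv_smul_smul, MulAction.mem_stabilizer_iff.mp hg]))
    have h2 := (inferInstance : N.Normal).conj_mem _ this k⁻¹
    simpa [mul_assoc] using h2
  have hU : sqNorm pU.1 = 32 := sqNorm_configs.1
  have hsq : ∀ x : GolayPt → ℤ, dotL x x = sqNorm x := fun x => by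
    rw [dotL_eq]; exact Finset.sum_congr rfl fun p _ => (sq _).symm
  obtain ⟨hchk, hcov⟩ := moveWords_check
  have hclass : ∀ d ∈ [(-32 : ℤ), -16, 0, 8, 16], ∃ n ∈ N, dotInt pU.1 (n • pU).1 = d := by
    intro d hd
    have hmem := List.all_eq_true.mp hcov d hd
    rw [List.contains_iff_mem, List.mem_map] at hmem
    obtain ⟨z, hz, rfl⟩ := hmem
    have h := List.all_eq_true.mp hchk z hz
    simp only [Bool.and_eq_true, beq_iff_eq] at h
    obtain ⟨⟨⟨h1, h2⟩, h3⟩, h4⟩ := h
    refine ⟨wordAut z.1, hstab ⟨_, mem_of_inLeechB h1⟩ ((hsq _).symm.trans h2)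
      (wordAut_mem_stabilizer (x := ⟨_, mem_of_inLeechB h1⟩) h3), ?_⟩
    rw [wordAut_smul, ← dotL_eq]
    exact h4
  have hneg : ∃ n ∈ N, n • pU = -pU := by
    obtain ⟨n, hn, hd⟩ := hclass (-32) (by simp)
    refine ⟨n, hn, ?_⟩
    rcases dot_values hU ((sqNorm_co0 n pU).trans hU) with h | h | h | h | h | h | h
    · rw [← h] at hd
      rw [show dotInt pU.1 pU.1 = 32 by decide +kernel] at hd
      omega
    · rw [eq_comm, neg_eq_iff_eq_neg] at h; exact h
    all_goals omega
  have htrans : ∀ y : leechLattice, sqNorm y.1 = 32 → ∃ n ∈ N, n • pU = y := by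
    have hpos : ∀ y : leechLattice, sqNorm y.1 = 32 → ∀ d ∈ [(-16 : ℤ), 0, 8, 16],
        dotInt pU.1 y.1 = d → ∃ n ∈ N, n • pU = y := by
      intro y hy d hd hdy
      obtain ⟨n, hn, hnd⟩ := hclass d (by simp only [List.mem_cons] at hd ⊢; tauto)
      obtain ⟨g, hg, hgy⟩ := exists_move4600 hU ((sqNorm_co0 n pU).trans hU) hy d
        (by simp only [List.mem_cons, List.not_mem_nil, or_false] at hd; omega) hnd hdy
      exact ⟨g * n, mul_mem (hle (mem_co2.mpr hg)) hn, by rw [mul_smul, hgy]⟩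
    intro y hy
    rcases dot_values hU hy with h | h | h | h | h | h | h
    · exact ⟨1, one_mem _, by rw [one_smul, h]⟩
    · obtain ⟨n, hn, e⟩ := hneg
      exact ⟨n, hn, by rw [e, h, neg_neg]⟩
    · exact hpos y hy _ (by simp) h
    · obtain ⟨n, hn, e⟩ := hneg
      obtain ⟨m, hm, em⟩ := hpos (-y) (by rw [← hy]; simp [sqNorm]) 8 (by simp) (by
        have : dotInt pU.1 (-y).1 = -dotInt pU.1 y.1 := by simp [dotInt]
        rw [this, h]; rfl)
      exact ⟨m * n, mul_mem hm hn, by rw [mul_smul, e, co0_neg, em, neg_neg]⟩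
    · exact hpos y hy _ (by simp) h
    · exact hpos y hy _ (by simp) h
    · exact hpos y hy _ (by simp) h
  refine eq_top_iff.mpr fun g _ => ?_
  obtain ⟨n, hn, e⟩ := htrans (g • pU) ((sqNorm_co0 g pU).trans hU)
  have : n⁻¹ * g ∈ N := hle (mem_co2.mpr (by rw [mul_smul, ← e, inv_smul_smul]))
  have := mul_mem hn this
  rwa [mul_inv_cancel_left] at this

theorem co2_fixed_checks :
    (∃ k ∈ List.range 64, (Golay.enc k).testBit 23 = false ∧ (Golay.enc k).testBit 0 = false ∧
      (Golay.enc k).testBit 1 = true) ∧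
    (Trees.t4600.gens.all fun g => fixesB g.1 (tv 4 4 0)) = true ∧
    (Trees.t4600.gens.any fun g => !fixesB g.1 (tv 4 (-4) 0)) = true := by
  decide +kernel

/-- The minimal vectors fixed by `co2`. -/
theorem fixed_of_co2 {y : leechLattice} (hy : sqNorm y.1 = 32) (h : ∀ g ∈ co2, g • y = y) :
    y = pU ∨ y = -pU := by
  have e := eq_tv_of_fixed (v := y) fun g hg =>
    h g (mem_co2.mpr (mem_mcl.mp (m22G_le_mcl hg)).2)
  obtain ⟨⟨k, -, hk23, hk0, hk1⟩, hfixU, hmove⟩ := co2_fixed_checks
  generalize y.1 none = a at e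
  generalize y.1 (some 0) = b at e
  generalize y.1 (some 1) = c at e
  have hflip := h (wordAut [192 + k]) (mem_co2.mpr (by
    refine Subtype.ext ((wordAut_smul _ pU).trans (funext fun p => ?_))
    show wordApp2 [192 + k] (tv 4 4 0) p = tv 4 4 0 p
    simp only [wordApp2, stepFun2, show ¬ 192 + k < 192 by omega, if_false,
      Nat.add_sub_cancel_left, flipMask]
    rw [tv_apply]
    by_cases hb : (Golay.enc k).testBit (Golay.ptIdx p) = true
    · have hp1 : p ≠ none := fun hp => by subst hp; rw [show Golay.ptIdx none = 23 from rfl] at hb; simp [hk23] at hb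
      have hp2 : p ≠ some 0 := fun hp => by subst hp; rw [show Golay.ptIdx (some 0) = 0 from rfl] at hb; simp [hk0] at hb
      simp [hb, hp1, hp2]
    · simp [hb]))
  have hc := congrArg (fun v : leechLattice => v.1 (some 1)) hflip
  simp only [wordAut_smul] at hc
  simp only [e, wordApp2, stepFun2, show ¬ 192 + k < 192 by omega, if_false,
    Nat.add_sub_cancel_left, flipMask, show Golay.ptIdx (some (1 : ZMod 23)) = 1 from rfl, hk1,
    if_true, tv_apply] at hc
  rw [if_neg (by simp : (some (1 : ZMod 23) : GolayPt) ≠ none),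
    if_neg (by decide : (some (1 : ZMod 23) : GolayPt) ≠ some 0)] at hc
  have hc0 : c = 0 := by omega
  subst hc0
  rw [e, sqNorm_tv] at hy
  have h4 : (a = 4 ∨ a = -4) ∧ (b = 4 ∨ b = -4) := by
    obtain ⟨ha1, ha2⟩ := abs_le_five (a := a) (by nlinarith)
    obtain ⟨hb1, hb2⟩ := abs_le_five (a := b) (by nlinarith)
    interval_cases a <;> interval_cases b <;>
      first
        | (exfalso; norm_num at hy; done)
        | norm_num
  obtain ⟨g, hg, hgZ⟩ := List.any_eq_true.mp hmove
  rw [Bool.not_eq_true'] at hgZ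
  have hgco : wordAut g.1 ∈ co2 :=
    wordAut_mem_stabilizer (x := pU) (List.all_eq_true.mp hfixU g hg)
  have hne : ∀ s : leechLattice, s = pZ ∨ s = -pZ → y ≠ s := by
    intro s hs hys
    have hZ : wordAut g.1 • pZ = pZ := by
      rcases hs with rfl | rfl
      · rw [← hys]; exact h _ hgco
      · have := h _ hgco
        rw [hys, co0_neg, neg_inj] at this
        exact this
    have : wordApp2 g.1 (tv 4 (-4) 0) = tv 4 (-4) 0 :=
      (wordAut_smul g.1 pZ).symm.trans (congrArg Subtype.val hZ)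
    have e2 : fixesB g.1 (tv 4 (-4) 0) = true := by
      unfold fixesB eqB
      rw [this]
      simp
    rw [hgZ] at e2
    exact Bool.false_ne_true e2
  rcases h4 with ⟨rfl | rfl, rfl | rfl⟩
  · exact Or.inl (Subtype.ext e)
  · exact absurd (Subtype.ext e) (hne pZ (Or.inl rfl))
  · refine absurd (Subtype.ext (e.trans ?_)) (hne (-pZ) (Or.inr rfl))
    show tv (-4) 4 0 = -tv 4 (-4) 0
    decide +kernel
  · refine Or.inr (Subtype.ext (e.trans ?_))
    show tv (-4) (-4) 0 = -tv 4 4 0
    decide +kernel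

theorem center_co2 : Subgroup.center co2 = ⊥ := by
  have := finite_Co0
  have hs := isSimpleGroup_co2
  rcases (inferInstance : (Subgroup.center co2).Normal).eq_bot_or_eq_top with h | h
  · exact h
  exfalso
  let cg : CommGroup co2 :=
    { (inferInstance : Group co2) with
      mul_comm := fun a b => Subgroup.mem_center_iff.mp (h ▸ Subgroup.mem_top b) a }
  have hp := @IsSimpleGroup.prime_card _ cg hs
  rw [card_co2] at hp
  norm_num at hp

theorem normal_le_center_or_top (N : Subgroup Co0) [N.Normal] :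
    N ≤ Subgroup.center Co0 ∨ N = ⊤ := by
  have := finite_Co0
  have := isSimpleGroup_co2
  have : Fact (Nat.Prime 23) := ⟨by norm_num⟩
  rcases (inferInstance : (N.subgroupOf co2).Normal).eq_bot_or_eq_top with h | h
  · left
    have hdisj : N ⊓ co2 = ⊥ := disjoint_iff.mp (Subgroup.subgroupOf_eq_bot.mp h)
    have hidx : co2.index = 196560 := by
      have h1 := Subgroup.index_mul_card co2
      rw [card_co2, card_Co0] at h1
      exact Nat.eq_of_mul_eq_mul_right (by norm_num : 0 < 42305421312000) (h1.trans (by norm_num))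
    have hcent := SimpleIndex.le_centralizer_of_disjoint (N := N) (M := co2) (p := 23)
      (by rw [card_co2]; norm_num) hdisj (by rw [hidx]; norm_num) (fun d hd hpp => by
        rw [hidx] at hd
        have key : ∀ q ∈ ([2, 3, 5, 7, 13] : List ℕ), ∀ i ∈ List.range 6,
            ¬ 23 ∣ q ^ i - 1 ∨ i = 0 ∨ ¬ q ^ i ∣ 196560 := by decide +kernel
        obtain ⟨q, i, hq, hi, rfl⟩ := (isPrimePow_nat_iff d).mp hpp
        have hqd : q ∣ 196560 := (dvd_pow_self q (Nat.pos_iff_ne_zero.mp hi)).trans hd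
        have hq' : q = 2 ∨ q = 3 ∨ q = 5 ∨ q = 7 ∨ q = 13 := by
          rw [show (196560 : ℕ) = 2 ^ 4 * (3 ^ 3 * (5 * (7 * 13))) by norm_num] at hqd
          have hp := fun r (hr : r.Prime) (h : q ∣ r) => (Nat.prime_dvd_prime_iff_eq hq hr).mp h
          rcases hq.dvd_mul.mp hqd with h | h
          · exact Or.inl (hp 2 (by norm_num) (hq.dvd_of_dvd_pow h))
          rcases hq.dvd_mul.mp h with h | h
          · exact Or.inr (Or.inl (hp 3 (by norm_num) (hq.dvd_of_dvd_pow h)))
          rcases hq.dvd_mul.mp h with h | h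
          · exact Or.inr (Or.inr (Or.inl (hp 5 (by norm_num) h)))
          rcases hq.dvd_mul.mp h with h | h
          · exact Or.inr (Or.inr (Or.inr (Or.inl (hp 7 (by norm_num) h))))
          · exact Or.inr (Or.inr (Or.inr (Or.inr (hp 13 (by norm_num) h))))
        have hi6 : i < 6 := by
          by_contra hcon
          have h6 : q ^ 6 ∣ 196560 := (pow_dvd_pow q (by omega)).trans hd
          rcases hq' with rfl | rfl | rfl | rfl | rfl <;> norm_num at h6
        rcases key q (by simp only [List.mem_cons, List.not_mem_nil, or_false]; exact hq') i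
          (List.mem_range.mpr hi6) with h1 | h1 | h1
        · exact h1
        · omega
        · exact absurd hd h1)
    intro n hn
    have hcomm := fun m hm => hcent m hm n hn
    have hfix : ∀ g ∈ co2, g • n • pU = n • pU := fun g hg => by
      rw [← mul_smul, hcomm g hg, mul_smul, mem_co2.mp hg]
    rw [center_eq]
    have key : ∀ e : Co0, e ∈ Subgroup.center Co0 → (e * n) • pU = pU → e * n = 1 := by
      intro e he hfixU
      have hm : e * n ∈ co2 := mem_co2.mpr hfixU
      have hz : (⟨e * n, hm⟩ : co2) ∈ Subgroup.center co2 := by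
        rw [Subgroup.mem_center_iff]
        intro g
        apply Subtype.ext
        show g.1 * (e * n) = e * n * g.1
        rw [← mul_assoc, Subgroup.mem_center_iff.mp he g.1, mul_assoc, hcomm g.1 g.2, mul_assoc]
      rw [center_co2, Subgroup.mem_bot] at hz
      exact congrArg Subtype.val hz
    rcases fixed_of_co2 ((sqNorm_co0 n pU).trans sqNorm_configs.1) hfix with h1 | h1
    · left
      have := key 1 (one_mem _) (by rw [one_mul]; exact h1)
      rwa [one_mul] at this
    · right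
      have := key negCo0 ((center_eq _).mpr (Or.inr rfl)) (by
        rw [mul_smul, h1, negCo0_smul, neg_neg])
      rw [eq_inv_of_mul_eq_one_right this]
      exact inv_eq_of_mul_eq_one_left (Subtype.ext (Equiv.ext fun x => Subtype.ext (by
        show ((-(-x) : leechLattice)).1 = x.1
        rw [neg_neg])))
  · exact Or.inr (eq_top_of_co2_le (Subgroup.subgroupOf_eq_top.mp h))

theorem isCo1_quotient : Cfsg.IsCo1 (Co0 ⧸ Subgroup.center Co0) := by
  have := finite_Co0
  have hcard : Nat.card (Co0 ⧸ Subgroup.center Co0) = 4157776806543360000 := by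
    have h := Subgroup.card_eq_card_quotient_mul_card_subgroup (Subgroup.center Co0)
    rw [card_center_Co0, card_Co0] at h
    omega
  refine ⟨?_, hcard⟩
  have : Nontrivial (Co0 ⧸ Subgroup.center Co0) :=
    Finite.one_lt_card_iff_nontrivial.mp (by rw [hcard]; norm_num)
  refine { eq_bot_or_eq_top_of_normal := fun K hK => ?_ }
  have hsurj : Function.Surjective (QuotientGroup.mk' (Subgroup.center Co0)) :=
    QuotientGroup.mk'_surjective _
  rcases normal_le_center_or_top (K.comap (QuotientGroup.mk' _)) with h | h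
  · left
    rw [← Subgroup.map_comap_eq_self_of_surjective hsurj K, eq_bot_iff,
      Subgroup.map_le_iff_le_comap, MonoidHom.comap_bot, QuotientGroup.ker_mk']
    exact h
  · right
    rw [← Subgroup.map_comap_eq_self_of_surjective hsurj K, h,
      Subgroup.map_top_of_surjective _ hsurj]

end Cfsg.Agent.Leech
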