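import Cfsg.Agent.Leech.Keys
import Cfsg.Agent.Leech.ModTwo
import Cfsg.Agent.Leech.SimpleCo1
import Cfsg.Agent.SchurCert.Cert

/-!
Automorphisms of the lattice coded by their matrices modulo 2, acting on keys.
-/

set_option autoImplicit false

namespace Cfsg.Agent.Leech

open Cfsg Cfsg.Agent.Golay

/-- Which generators add up to the vector with a given single key bit. -/
def dualIdx : List (List ℕ) :=
  [[9, 12, 14], [9, 13, 14], [9], [9, 14, 15], [9, 14, 16], [9, 14, 17], [9, 14, 18], [9, 14, 19], [9, 14, 20], [0, 1, 2, 3, 4, 5, 6, 7, 8, 10, 11, 13, 14, 15, 19, 20], [9, 14, 22], [9, 14, 23], [0, 20, 36], [1, 9, 14, 17], [0, 1, 3, 4, 5, 6, 7, 8, 9, 10, 11, 13, 15, 19, 20, 36], [3, 9, 14, 22], [4, 18, 36], [5, 13, 36], [6, 16, 36], [7, 9, 14, 23], [8, 9, 12, 14], [10, 15, 36], [11, 19, 36], [12, 14, 16, 17, 18, 22, 23]]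

/-- Vectors dual to the key basis modulo 2. -/
def dualVecs : List (GolayPt → ℤ) :=
  dualIdx.map fun l => (l.map fun i => genVecs.getD i 0).foldr (· + ·) 0

theorem dualVecs_check : (dualVecs.all fun v => inLeechB v) = true ∧
    dualVecs.map keyOf = (List.range 24).map fun j => 2 ^ j := by
  decide +kernel

/-- The dual vectors in the lattice. -/
def dualL : List leechLattice :=
  dualVecs.pmap Subtype.mk fun v hv => mem_of_inLeechB (List.all_eq_true.mp dualVecs_check.1 v hv)

theorem dualL_keys : dualL.map (fun v => keyOf v.1) = (List.range 24).map fun j => 2 ^ j := by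
  rw [← dualVecs_check.2, dualL, List.map_pmap, List.pmap_eq_map]

theorem keyAux_lt : ∀ (l : List (GolayPt → ℤ)) (x : GolayPt → ℤ), keyAux l x < 2 ^ l.length
  | [], _ => by simp [keyAux]
  | d :: l, x => by
    have := keyAux_lt l x
    rw [keyAux, List.length_cons, pow_succ]
    cases (dotL d x / 8 % 2 == 1) <;> simp only [cond_false, cond_true] <;> omega

theorem keyOf_lt (x : GolayPt → ℤ) : keyOf x < 2 ^ 24 :=
  (keyAux_lt keyBasis x).trans_le (by decide +kernel)

theorem keyOf_add' (x y : leechLattice) : keyOf (x + y).1 = keyOf x.1 ^^^ keyOf y.1 := by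
  rw [AddSubgroup.coe_add, keyOf_add x.2]

theorem keyOf_zero' : keyOf (0 : leechLattice).1 = 0 := keyOf_zero

/-- The sum of the listed vectors selected by the bits. -/
def selVec : List leechLattice → ℕ → leechLattice
  | [], _ => 0
  | v :: l, k => (bif k.testBit 0 then v else 0) + selVec l (k / 2)

theorem keyOf_selVec (f : leechLattice → leechLattice) (hf : ∀ x y, f (x + y) = f x + f y) :
    ∀ (l : List leechLattice) (k : ℕ),
      keyOf (f (selVec l k)).1 = xorSel (l.map fun v => keyOf (f v).1) k
  | [], k => by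
    have h0 : f 0 = 0 := by
      have := hf 0 0
      rwa [add_zero, left_eq_add] at this
    rw [selVec, h0, keyOf_zero']
    rfl
  | v :: l, k => by
    rw [selVec, hf, keyOf_add', keyOf_selVec f hf l, List.map_cons, xorSel]
    cases k.testBit 0
    · have h0 : f 0 = 0 := by
        have := hf 0 0
        rwa [add_zero, left_eq_add] at this
      simp only [cond_false, h0, keyOf_zero']
    · rfl

theorem xorSel_unit : ∀ (n k : ℕ), k < 2 ^ n →
    xorSel ((List.range n).map fun j => 2 ^ j) k = k := by
  have key : ∀ (n i k : ℕ), k < 2 ^ n →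
      xorSel ((List.range n).map fun j => 2 ^ (i + j)) k = 2 ^ i * k := by
    intro n
    induction n with
    | zero => intro i k hk; simp at hk; subst hk; simp [xorSel]
    | succ n ih =>
      intro i k hk
      rw [List.range_succ_eq_map, List.map_cons, List.map_map, xorSel]
      have e : ((fun j => 2 ^ (i + j)) ∘ Nat.succ) = fun j => 2 ^ (i + 1 + j) := by
        funext j; simp [Nat.succ_eq_add_one, add_comm, add_left_comm]
      rw [e, ih (i + 1) (k / 2) (by rw [pow_succ] at hk; omega)]
      apply Nat.eq_of_testBit_eq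
      intro m
      rw [Nat.testBit_xor, Nat.testBit_two_pow_mul, Nat.testBit_two_pow_mul]
      rcases lt_trichotomy m i with h | rfl | h
      · cases k.testBit 0 <;> simp [Nat.testBit_two_pow, show ¬ i ≤ m by omega,
          show ¬ i + 1 ≤ m by omega, show i ≠ m by omega]
      · cases h0 : k.testBit 0 <;> simp [h0]
      · have e1 : m - i = (m - (i + 1)) + 1 := by omega
        rw [e1, Nat.testBit_succ]
        cases k.testBit 0 <;> simp [Nat.testBit_two_pow, show i ≤ m by omega,
          show i + 1 ≤ m by omega, show i ≠ m by omega]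
  intro n k hk
  simpa using key n 0 k hk

/-- A lattice vector with the given key. -/
theorem keyOf_sel {k : ℕ} (hk : k < 2 ^ 24) : keyOf (selVec dualL k).1 = k := by
  rw [show keyOf (selVec dualL k).1 = _ from keyOf_selVec id (fun _ _ => rfl) dualL k]
  rw [show (dualL.map fun v => keyOf (id v).1) = dualL.map (fun v => keyOf v.1) from rfl,
    dualL_keys, xorSel_unit 24 k hk]

theorem keyOf_twice {v : leechLattice} (hv : v ∈ twiceSub) : keyOf v.1 = 0 := by
  obtain ⟨z, hz, e⟩ := mem_twiceSub.mp hv
  rw [← e, two_nsmul, keyOf_add hz, Nat.xor_self]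

/-- The key as a map on classes modulo twice the lattice. -/
noncomputable def keyClass : leechLattice ⧸ twiceSub → Fin (2 ^ 24) := fun c =>
  ⟨keyOf c.out.1, keyOf_lt _⟩

theorem keyOf_out (v : leechLattice) :
    keyOf (QuotientAddGroup.mk v : leechLattice ⧸ twiceSub).out.1 = keyOf v.1 := by
  obtain ⟨h, hh⟩ := QuotientAddGroup.mk_out_eq_add twiceSub v
  rw [hh, keyOf_add', keyOf_twice h.2, Nat.xor_zero]

theorem keyClass_bijective : Function.Bijective keyClass := by
  have hidx : Nat.card (leechLattice ⧸ twiceSub) = 2 ^ 24 := by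
    rw [← AddSubgroup.index_eq_card, twiceSub_index]
  have : Finite (leechLattice ⧸ twiceSub) := Nat.finite_of_card_ne_zero (by rw [hidx]; norm_num)
  refine (Nat.bijective_iff_surjective_and_card _).mpr ⟨fun k => ?_, by rw [hidx, Nat.card_fin]⟩
  refine ⟨QuotientAddGroup.mk (selVec dualL k.1), Fin.ext ?_⟩
  show keyOf _ = k.1
  rw [keyOf_out, keyOf_sel k.2]

/-- Vectors with one key are congruent modulo twice the lattice. -/
theorem mk_eq_of_key {x y : leechLattice} (h : keyOf x.1 = keyOf y.1) :
    (QuotientAddGroup.mk x : leechLattice ⧸ twiceSub) = QuotientAddGroup.mk y :=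
  keyClass_bijective.injective (Fin.ext ((keyOf_out x).trans (h.trans (keyOf_out y).symm)))

theorem keyOf_smul_congr (g : Co0) {x y : leechLattice} (h : keyOf x.1 = keyOf y.1) :
    keyOf (g • x).1 = keyOf (g • y).1 := by
  have h' := mk_eq_of_key h
  rw [QuotientAddGroup.eq, mem_twiceSub] at h'
  obtain ⟨z, hz, e⟩ := h'
  have hy : y = x + (⟨z, hz⟩ + ⟨z, hz⟩) := by
    refine eq_add_of_neg_add_eq ?_
    exact Subtype.ext (e.symm.trans (two_nsmul z))
  rw [hy, co0_add, keyOf_add', co0_add, keyOf_add', Nat.xor_self, Nat.xor_zero]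

/-- The columns of an automorphism. -/
def colsOf (g : Co0) : List ℕ := dualL.map fun v => keyOf (g • v).1

theorem length_colsOf (g : Co0) : (colsOf g).length = 24 := by
  have : dualL.length = 24 := by
    have h := congrArg List.length dualL_keys
    simpa using h
  rw [colsOf, List.length_map, this]

theorem keyOf_smul_eq (g : Co0) (x : leechLattice) :
    keyOf (g • x).1 = xorSel (colsOf g) (keyOf x.1) := by
  rw [keyOf_smul_congr g (y := selVec dualL (keyOf x.1)) (keyOf_sel (keyOf_lt _)).symm,
    keyOf_selVec (fun v => g • v) (co0_add g) dualL]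
  rfl

theorem colsOf_mul (a b : Co0) : colsOf (a * b) = (colsOf b).map (applyCols (colsOf a)) := by
  simp only [colsOf, List.map_map]
  refine List.map_congr_left fun v _ => ?_
  rw [Function.comp_apply, applyCols_eq, mul_smul]
  exact keyOf_smul_eq a (b • v)

theorem xorSel_two_pow : ∀ (l : List ℕ) (j : ℕ) (hj : j < l.length),
    xorSel l (2 ^ j) = l[j]
  | r :: l, 0, _ => by
    rw [pow_zero, xorSel, show (1 : ℕ) / 2 = 0 from rfl, xorSel_zero]
    simp
  | r :: l, j + 1, hj => by
    rw [xorSel, show Nat.testBit (2 ^ (j + 1)) 0 = false by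
        rw [Nat.testBit_two_pow]; simp,
      show (2 : ℕ) ^ (j + 1) / 2 = 2 ^ j by rw [pow_succ]; omega,
      xorSel_two_pow l j (by simpa using hj)]
    simp

theorem colsOf_eq_of_acts {w cols : List ℕ} (h : actsB w cols = true) (hl : cols.length = 24) : colsOf (wordAut w) = cols := by
  refine List.ext_getElem (by rw [length_colsOf, hl]) fun j hj hj' => ?_
  have hd : j < dualL.length := by rw [colsOf, List.length_map] at hj; exact hj
  have hk : keyOf (dualL[j]).1 = 2 ^ j := by
    have := congrArg (fun l : List ℕ => l[j]?) dualL_keys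
    simp only [List.getElem?_map, List.getElem?_eq_getElem hd, Option.map_some] at this
    rw [List.getElem?_eq_getElem (by rw [List.length_range]; omega), Option.map_some,
      List.getElem_range] at this
    exact Option.some.inj this
  simp only [colsOf, List.getElem_map]
  rw [keyOf_word h, hk]
  exact xorSel_two_pow cols j hj'

/-- Columns packed in one number. -/
def packCols : List ℕ → ℕ
  | [] => 0
  | c :: l => Nat.add c (Nat.mul 16777216 (packCols l))

/-- Columns read back. -/
def unpackCols : ℕ → ℕ → List ℕ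
  | 0, _ => []
  | n + 1, q => Nat.mod q 16777216 :: unpackCols n (Nat.div q 16777216)

theorem unpackCols_pack : ∀ {l : List ℕ}, (∀ c ∈ l, c < 2 ^ 24) →
    unpackCols l.length (packCols l) = l
  | [], _ => rfl
  | c :: l, h => by
    have hc : c < 16777216 := h c List.mem_cons_self
    show (c + 16777216 * packCols l) % 16777216 ::
      unpackCols l.length ((c + 16777216 * packCols l) / 16777216) = c :: l
    rw [Nat.add_mul_mod_self_left, Nat.mod_eq_of_lt hc,
      Nat.add_mul_div_left _ _ (by norm_num), Nat.div_eq_of_lt hc, Nat.zero_add,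
      unpackCols_pack fun x hx => h x (List.mem_cons_of_mem _ hx)]

theorem colsOf_lt (g : Co0) : ∀ c ∈ colsOf g, c < 2 ^ 24 := by
  intro c hc
  obtain ⟨v, -, rfl⟩ := List.mem_map.mp hc
  exact keyOf_lt _

/-- The lowest bit of each column. -/
def repMask : ℕ := packCols (List.replicate 24 1)

/-- All columns multiplied at once: the product by each column of the left factor is carry-free. -/
def mulBits : ℕ → ℕ → ℕ → ℕ
  | 0, _, _ => 0
  | n + 1, q, r => Nat.xor (Nat.mul (Nat.mod q 16777216) (Nat.land r repMask))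
      (mulBits n (Nat.div q 16777216) (Nat.div r 2))

theorem testBit_packCols : ∀ {l : List ℕ}, (∀ c ∈ l, c < 2 ^ 24) → ∀ j k, k < 24 →
    (packCols l).testBit (24 * j + k) = (l.getD j 0).testBit k
  | [], _, j, k, _ => by simp [packCols]
  | c :: l, h, j, k, hk => by
    have hc : c < 2 ^ 24 := h c List.mem_cons_self
    have e : packCols (c :: l) = 2 ^ 24 * packCols l + c := by
      show c + 16777216 * packCols l = _
      rw [add_comm]; rfl
    rw [e, Nat.testBit_two_pow_mul_add _ hc]
    cases j with
    | zero => simp [hk]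
    | succ j =>
      rw [if_neg (by omega), show 24 * (j + 1) + k - 24 = 24 * j + k by omega,
        testBit_packCols (fun x hx => h x (List.mem_cons_of_mem _ hx)) j k hk]
      simp

theorem land_repMask {l : List ℕ} (h : ∀ c ∈ l, c < 2 ^ 24) (hl : l.length ≤ 24) {i : ℕ}
    (hi : i < 24) : Nat.land (packCols l / 2 ^ i) repMask =
      packCols (l.map fun c => c / 2 ^ i % 2) := by
  show packCols l / 2 ^ i &&& repMask = _
  apply Nat.eq_of_testBit_eq
  intro n
  obtain ⟨j, k, hk, rfl⟩ : ∃ j k, k < 24 ∧ n = 24 * j + k :=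
    ⟨n / 24, n % 24, Nat.mod_lt _ (by norm_num), (Nat.div_add_mod n 24).symm⟩
  have hsmall : ∀ c ∈ l.map (fun c => c / 2 ^ i % 2), c < 2 ^ 24 := by
    intro c hc
    obtain ⟨x, -, rfl⟩ := List.mem_map.mp hc
    omega
  rw [Nat.testBit_and, repMask, testBit_packCols (by
      intro c hc; rw [List.eq_of_mem_replicate hc]; norm_num) j k hk,
    testBit_packCols hsmall j k hk, Nat.testBit_div_two_pow]
  rcases Nat.lt_or_ge j l.length with hj | hj
  · have hj' : j < 24 := by omega
    simp only [List.getD_eq_getElem?_getD, List.getElem?_map, List.getElem?_replicate, hj',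
      if_true, List.getElem?_eq_getElem hj, Option.map_some, Option.getD_some]
    cases k with
    | zero =>
      rw [Nat.add_zero, testBit_packCols h j i hi,
        List.getD_eq_getElem?_getD, List.getElem?_eq_getElem hj, Option.getD_some]
      simp [Nat.testBit_eq_decide_div_mod_eq]
    | succ k =>
      have h0 : ∀ x, (x / 2 ^ i % 2).testBit (k + 1) = false := fun x => by
        rw [Nat.testBit_succ, show x / 2 ^ i % 2 / 2 = 0 by omega, Nat.zero_testBit]
      simp [h0, Nat.testBit_succ]
  · have hz : (l.map fun c => c / 2 ^ i % 2).getD j 0 = 0 := by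
      simp [List.getD_eq_getElem?_getD, List.getElem?_map, List.getElem?_eq_none hj]
    cases k with
    | zero =>
      rw [hz, Nat.add_zero, testBit_packCols h j i hi]
      simp [List.getD_eq_getElem?_getD, List.getElem?_eq_none hj]
    | succ k =>
      have h1 : ∀ m, ((List.replicate m 1).getD j 0).testBit (k + 1) = false := fun m => by
        by_cases hm : j < m <;>
          simp [List.getD_eq_getElem?_getD, List.getElem?_replicate, hm, Nat.testBit_succ]
      rw [hz, h1 24]
      simp

theorem mul_packCols (a : ℕ) : ∀ l : List ℕ, a * packCols l = packCols (l.map (a * ·))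
  | [] => by simp [packCols]
  | c :: l => by
    show a * (c + 16777216 * packCols l) = a * c + 16777216 * packCols (l.map (a * ·))
    rw [← mul_packCols a l]
    ring

theorem xor_packCols (f g : ℕ → ℕ) {l : List ℕ} (hf : ∀ c ∈ l, f c < 2 ^ 24)
    (hg : ∀ c ∈ l, g c < 2 ^ 24) :
    packCols (l.map f) ^^^ packCols (l.map g) = packCols (l.map fun c => f c ^^^ g c) := by
  apply Nat.eq_of_testBit_eq
  intro n
  obtain ⟨j, k, hk, rfl⟩ : ∃ j k, k < 24 ∧ n = 24 * j + k :=
    ⟨n / 24, n % 24, Nat.mod_lt _ (by norm_num), (Nat.div_add_mod n 24).symm⟩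
  have hm : ∀ {u : ℕ → ℕ}, (∀ c ∈ l, u c < 2 ^ 24) → ∀ x ∈ l.map u, x < 2 ^ 24 := by
    intro u hu x hx
    obtain ⟨c, hc, rfl⟩ := List.mem_map.mp hx
    exact hu c hc
  rw [Nat.testBit_xor, testBit_packCols (hm hf) j k hk, testBit_packCols (hm hg) j k hk,
    testBit_packCols (hm fun c hc => Nat.xor_lt_two_pow (hf c hc) (hg c hc)) j k hk]
  simp only [List.getD_eq_getElem?_getD, List.getElem?_map]
  cases l[j]? <;> simp

theorem applyCols_lt : ∀ {A : List ℕ}, (∀ a ∈ A, a < 2 ^ 24) → ∀ k, applyCols A k < 2 ^ 24
  | [], _, _ => by simp [applyCols]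
  | a :: A, h, k => by
    rw [applyCols]
    refine Nat.xor_lt_two_pow ?_ (applyCols_lt (fun x hx => h x (List.mem_cons_of_mem _ hx)) _)
    cases Nat.beq (Nat.mod k 2) 1
    · exact Nat.two_pow_pos 24
    · exact h a List.mem_cons_self

theorem mulBits_eq : ∀ (A : List ℕ) (i : ℕ) (l : List ℕ), (∀ a ∈ A, a < 2 ^ 24) →
    (∀ c ∈ l, c < 2 ^ 24) → l.length ≤ 24 → i + A.length ≤ 24 →
    mulBits A.length (packCols A) (packCols l / 2 ^ i) =
      packCols (l.map fun c => applyCols A (c / 2 ^ i))
  | [], i, l, _, _, _, _ => by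
    show 0 = _
    clear * -
    induction l with
    | nil => rfl
    | cons c l ih =>
      show 0 = applyCols [] (c / 2 ^ i) + 16777216 * packCols (l.map fun c => applyCols [] (c / 2 ^ i))
      rw [← ih]; rfl
  | a :: A, i, l, hA, hl, hlen, hi => by
    have ha : a < 2 ^ 24 := hA a List.mem_cons_self
    have hA' : ∀ x ∈ A, x < 2 ^ 24 := fun x hx => hA x (List.mem_cons_of_mem _ hx)
    rw [List.length_cons] at hi
    show ((a + 16777216 * packCols A) % 16777216 * Nat.land (packCols l / 2 ^ i) repMask) ^^^
      mulBits A.length ((a + 16777216 * packCols A) / 16777216) (packCols l / 2 ^ i / 2) = _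
    rw [Nat.add_mul_mod_self_left, Nat.mod_eq_of_lt (show a < 16777216 from ha),
      Nat.add_mul_div_left _ _ (by norm_num), Nat.div_eq_of_lt (show a < 16777216 from ha),
      Nat.zero_add, Nat.div_div_eq_div_mul, ← pow_succ,
      mulBits_eq A (i + 1) l hA' hl hlen (by omega), land_repMask hl hlen (by omega), mul_packCols,
      List.map_map, xor_packCols _ _ (fun c _ => by
        show a * (c / 2 ^ i % 2) < 2 ^ 24
        rcases Nat.mod_two_eq_zero_or_one (c / 2 ^ i) with h | h <;> rw [h] <;> omega)
      (fun c _ => applyCols_lt hA' _)]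
    refine congrArg packCols (List.map_congr_left fun c _ => ?_)
    rw [applyCols, pow_succ, ← Nat.div_div_eq_div_mul]
    show a * (c / 2 ^ i % 2) ^^^ _ =
      (bif Nat.beq (c / 2 ^ i % 2) 1 then a else 0) ^^^ applyCols A (c / 2 ^ i / 2)
    rcases Nat.mod_two_eq_zero_or_one (c / 2 ^ i) with h | h <;>
      rw [h] <;> simp [Nat.beq]

/-- Multiplication of codes. -/
def matMul (q r : ℕ) : ℕ := mulBits 24 q r

/-- The code of the identity. -/
def matOne : ℕ := packCols ((List.range 24).map fun j => 2 ^ j)

/-- The code of an automorphism. -/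
def matEnc (g : Co0) : ℕ := packCols (colsOf g)

theorem unpack_matEnc (g : Co0) : unpackCols 24 (matEnc g) = colsOf g := by
  conv_lhs => rw [← length_colsOf g]
  exact unpackCols_pack (colsOf_lt g)

theorem matEnc_one : matEnc 1 = matOne := by
  rw [matEnc, matOne, colsOf, ← dualL_keys]
  refine congrArg packCols (List.map_congr_left fun v _ => ?_)
  rw [one_smul]

theorem matEnc_mul (a b : Co0) : matEnc (a * b) = matMul (matEnc a) (matEnc b) := by
  have h := mulBits_eq (colsOf a) 0 (colsOf b) (colsOf_lt a) (colsOf_lt b)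
    (length_colsOf b).le (by rw [length_colsOf])
  rw [length_colsOf, pow_zero, Nat.div_one] at h
  rw [matMul, matEnc, matEnc, matEnc, h, colsOf_mul]
  simp only [Nat.div_one]

/-- The automorphisms acting trivially on keys. -/
def keyKernel : Subgroup Co0 where
  carrier := {g | ∀ x : leechLattice, keyOf (g • x).1 = keyOf x.1}
  one_mem' x := by rw [one_smul]
  mul_mem' {a b} ha hb x := by rw [mul_smul, ha, hb]
  inv_mem' {a} ha x := by
    have := ha (a⁻¹ • x)
    rw [smul_inv_smul] at this
    exact this.symm

instance keyKernel_normal : keyKernel.Normal where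
  conj_mem k hk g x := by
    rw [mul_smul, mul_smul, keyOf_smul_congr g (hk (g⁻¹ • x)), smul_inv_smul]

theorem moved_key : keyOf (stepFun2 1 (genVecs.getD 0 0)) ≠ keyOf (genVecs.getD 0 0) ∧
    inLeechB (genVecs.getD 0 0) = true := by
  decide +kernel

theorem keyKernel_le : keyKernel ≤ Subgroup.center Co0 := by
  rcases normal_le_center_or_top keyKernel with h | h
  · exact h
  · exfalso
    have hm : wordAut [1] ∈ keyKernel := h ▸ Subgroup.mem_top _
    have := hm ⟨_, mem_of_inLeechB moved_key.2⟩
    rw [wordAut_smul] at this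
    exact moved_key.1 this

theorem eq_or_neg_of_matEnc {a b : Co0} (h : matEnc a = matEnc b) : a = b ∨ a = b * negCo0 := by
  have hc : colsOf a = colsOf b := by rw [← unpack_matEnc, h, unpack_matEnc]
  have hm : b⁻¹ * a ∈ keyKernel := fun x => by
    have e : keyOf (a • x).1 = keyOf (b • x).1 := by rw [keyOf_smul_eq, keyOf_smul_eq, hc]
    rw [mul_smul, keyOf_smul_congr b⁻¹ e, inv_smul_smul]
  rcases (center_eq _).mp (keyKernel_le hm) with e | e
  · exact Or.inl (inv_mul_eq_one.mp e).symm
  · exact Or.inr (eq_mul_of_inv_mul_eq e)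

/-- A subgroup without the negation, coded by matrices modulo 2. -/
noncomputable def matCode (K : Subgroup Co0) (hK : negCo0 ∉ K) : SchurCert.Code K where
  mul := matMul
  one := matOne
  enc g := matEnc g.1
  enc_one := matEnc_one
  enc_mul a b := matEnc_mul a.1 b.1
  enc_inj a b h := by
    rcases eq_or_neg_of_matEnc h with e | e
    · exact Subtype.ext e
    · exact absurd (by
        have : negCo0 = b.1⁻¹ * a.1 := by rw [e, inv_mul_cancel_left]
        rw [this]; exact mul_mem (inv_mem b.2) a.2) hK

end Cfsg.Agent.Leech
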