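import Cfsg.Agent.Leech.Configs

/-!
Suborbits: lower bounds from certificates, separated by inner products with a fixed point and
adding up to the whole set, are exact.
-/

set_option autoImplicit false

namespace Cfsg.Agent.Leech

open Cfsg

/-- The part of `S` with inner product `t` with `x`. -/
def dotClass (S : Set leechLattice) (x : leechLattice) (t : ℤ) : Set leechLattice :=
  {y | y ∈ S ∧ dotInt x.1 y.1 = t}

theorem suborbits_of_certs {ι : Type} [Fintype ι] {conf : List leechLattice} {x : leechLattice}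
    {S : Set leechLattice} (hxS : x ∈ S) (hxN : sqNorm x.1 = 32)
    (hinv : ∀ g ∈ fixConf (conf ++ [x]), ∀ y ∈ S, g • y ∈ S)
    (C : ι → OrbitCert) (r : ι → leechLattice) (t : ι → ℤ) (N : ι → ℕ)
    (ht : Function.Injective t) (ht32 : ∀ i, t i ≠ 32)
    (hr : ∀ i, r i ∈ dotClass S x (t i))
    (hcard : S.ncard = 1 + ∑ i, N i)
    (hg : ∀ i, (C i).gensB ((conf ++ [x]).map fun v => v.1) = true)
    (hn : ∀ i, (C i).sizeB (keyOf (r i).1) (N i) = true) :
    (∀ i, (dotClass S x (t i)).ncard = N i ∧
        ∀ y ∈ dotClass S x (t i), ∃ g ∈ fixConf (conf ++ [x]), g • r i = y) ∧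
      ∀ y ∈ S, y = x ∨ ∃ i, dotInt x.1 y.1 = t i := by
  classical
  have hSfin : S.Finite := Set.finite_of_ncard_pos (by omega)
  set O : ι → Set leechLattice := fun i => {y | ∃ g ∈ fixConf (conf ++ [x]), g • r i = y} with hO
  have hfix : ∀ g ∈ fixConf (conf ++ [x]), g • x = x := fun g hg' =>
    mem_fixConf.mp hg' x (by simp)
  have hsub : ∀ i, O i ⊆ dotClass S x (t i) := by
    rintro i y ⟨g, hg', rfl⟩
    refine ⟨hinv g hg' _ (hr i).1, ?_⟩
    calc dotInt x.1 (g • r i).1 = dotInt (g • x).1 (g • r i).1 := by rw [hfix g hg']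
      _ = dotInt x.1 (r i).1 := co0_dotInt g x (r i)
      _ = t i := (hr i).2
  have hclass : ∀ i, dotClass S x (t i) ⊆ S := fun i y hy => hy.1
  have hge : ∀ i, N i ≤ (O i).ncard := fun i => by
    refine le_ncard_orbit (C i) (fun g hg' => mem_fixConf.mpr
      (le_stabilizer_of_gensB (hg i) g hg')) (fun g hg' => ?_) (hn i)
    have := List.all_eq_true.mp (hg i) g hg'
    rw [Bool.and_eq_true] at this
    exact this.1
  set F : ι → Finset leechLattice := fun i => (hSfin.subset (hclass i)).toFinset with hF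
  have hFc : ∀ i, (F i).card = (dotClass S x (t i)).ncard := fun i =>
    (Set.ncard_eq_toFinset_card _ _).symm
  have hdisj : (↑(Finset.univ : Finset ι) : Set ι).PairwiseDisjoint F := by
    intro i _ j _ hij
    rw [Function.onFun, Finset.disjoint_left]
    intro y hy hy'
    rw [hF, Set.Finite.mem_toFinset] at hy hy'
    exact hij (ht (hy.2.symm.trans hy'.2))
  have hxx : dotInt x.1 x.1 = 32 := by
    rw [← hxN]; exact Finset.sum_congr rfl fun p _ => (sq (x.1 p)).symm
  have hU : insert x (Finset.univ.biUnion F) ⊆ hSfin.toFinset := by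
    intro y hy
    rw [Set.Finite.mem_toFinset]
    rcases Finset.mem_insert.mp hy with rfl | hy
    · exact hxS
    · obtain ⟨i, -, hi⟩ := Finset.mem_biUnion.mp hy
      rw [hF, Set.Finite.mem_toFinset] at hi
      exact hi.1
  have hxnot : x ∉ Finset.univ.biUnion F := by
    intro h
    obtain ⟨i, -, hi⟩ := Finset.mem_biUnion.mp h
    rw [hF, Set.Finite.mem_toFinset] at hi
    exact ht32 i (hi.2.symm.trans hxx)
  have htot := Finset.card_le_card hU
  rw [Finset.card_insert_of_notMem hxnot, Finset.card_biUnion hdisj,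
    ← Set.ncard_eq_toFinset_card S hSfin, hcard] at htot
  have hle : ∀ i ∈ Finset.univ, N i ≤ (F i).card := fun i _ => by
    rw [hFc]
    exact (hge i).trans (Set.ncard_le_ncard (hsub i) (hSfin.subset (hclass i)))
  have hsum := Finset.sum_le_sum hle
  have heach := (Finset.sum_eq_sum_iff_of_le hle).mp (le_antisymm hsum (Nat.le_of_add_le_add_right (b := 1) (htot.trans_eq (Nat.add_comm 1 _))))
  have hall : insert x (Finset.univ.biUnion F) = hSfin.toFinset := by
    refine Finset.eq_of_subset_of_card_le hU ?_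
    rw [Finset.card_insert_of_notMem hxnot, Finset.card_biUnion hdisj,
      ← Set.ncard_eq_toFinset_card S hSfin, hcard]
    have e : ∑ i, N i = ∑ i, (F i).card := Finset.sum_congr rfl heach
    rw [e, Nat.add_comm]
  refine ⟨fun i => ?_, fun y hy => ?_⟩
  · have hN : (dotClass S x (t i)).ncard = N i := by
      rw [← hFc]; exact (heach i (Finset.mem_univ i)).symm
    refine ⟨hN, fun y hy => ?_⟩
    have := Set.eq_of_subset_of_ncard_le (hsub i) (hN.le.trans (hge i))
      (hSfin.subset (hclass i))
    rw [← this] at hy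
    exact hy
  · have hy' : y ∈ insert x (Finset.univ.biUnion F) := by
      rw [hall, Set.Finite.mem_toFinset]; exact hy
    rcases Finset.mem_insert.mp hy' with rfl | h
    · exact Or.inl rfl
    · obtain ⟨i, -, hi⟩ := Finset.mem_biUnion.mp h
      rw [hF, Set.Finite.mem_toFinset] at hi
      exact Or.inr ⟨i, hi.2⟩

/-- Two members of one suborbit, seen through an automorphism to standard position. -/
theorem exists_fix_between {conf : List leechLattice} {g : Co0} {conf₀ : List leechLattice}
    (hconf : conf.map (fun v => g • v) = conf₀) {r y y' : leechLattice}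
    (h : ∃ a ∈ fixConf conf₀, a • r = g • y) (h' : ∃ a ∈ fixConf conf₀, a • r = g • y') :
    ∃ k : Co0, (∀ v ∈ conf, k • v = v) ∧ k • y = y' := by
  obtain ⟨a, ha, hay⟩ := h
  obtain ⟨b, hb, hby⟩ := h'
  refine ⟨g⁻¹ * (b * a⁻¹) * g, fun v hv => ?_, ?_⟩
  · have hm : g • v ∈ conf₀ := by rw [← hconf]; exact List.mem_map_of_mem hv
    have := mem_fixConf.mp (mul_mem hb (inv_mem ha)) (g • v) hm
    rw [mul_smul, mul_smul, this, inv_smul_smul]
  · rw [mul_smul, mul_smul, ← hay, mul_smul, inv_smul_smul, hby, inv_smul_smul]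

end Cfsg.Agent.Leech
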