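import Cfsg.Agent.Leech.Orbit552
import Cfsg.Agent.Leech.Suborbit
import Cfsg.Agent.Leech.SubTreesData

/-!
The stabiliser of two summands on 275 minimal vectors, with its suborbits of lengths 112 and 162.
-/

set_option autoImplicit false

namespace Cfsg.Agent.Leech

open Cfsg

/-- The minimal vectors with inner products 24 with `u` and 16 with `v`. -/
def set275 (u v : leechLattice) : Set leechLattice :=
  {x | sqNorm x.1 = 32 ∧ dotInt u.1 x.1 = 24 ∧ dotInt v.1 x.1 = 16}

theorem pack275 : ofList (threeVals 405 401 1) = pV.1 + 100 • pU.1 := by decide +kernel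

theorem set275_eq :
    set275 pV pU = {x | sqNorm x.1 = 32 ∧ dotInt (ofList (threeVals 405 401 1)) x.1 = 1624} := by
  ext x
  simp only [set275, Set.mem_ofPred_eq]
  refine and_congr_right fun hx => ?_
  rw [show (1624 : ℤ) = 24 + 100 * 16 by norm_num]
  exact (dot_pack pack275 sqNorm_configs.2.1.le (sqNorm_configs.1.trans_le (by norm_num)) hx
    (by norm_num)).symm

theorem count275 : (set275 pV pU).ncard = 275 := by
  rw [set275_eq]
  exact ncard_min_dot_grouped (threeVals 405 401 1) (by decide) 1624 275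
    [[1, 1, 1, 1, 1, 1, 1, 1], [401, 1, 1, 1, 1, 1, 1, 1], [1, 1, 1, 1, 1, 1, 1, 405],
      [401, 1, 1, 1, 1, 1, 1, 405]] (by decide +kernel)

theorem set275_inv {g : Co0} {u v x : leechLattice} (hu : g • u = u) (hv : g • v = v)
    (hx : x ∈ set275 u v) : g • x ∈ set275 u v := by
  refine ⟨(sqNorm_co0 g x).trans hx.1, ?_, ?_⟩
  · calc dotInt u.1 (g • x).1 = dotInt (g • u).1 (g • x).1 := by rw [hu]
      _ = dotInt u.1 x.1 := co0_dotInt g u x
      _ = 24 := hx.2.1
  · calc dotInt v.1 (g • x).1 = dotInt (g • v).1 (g • x).1 := by rw [hv]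
      _ = dotInt v.1 x.1 := co0_dotInt g v x
      _ = 16 := hx.2.2

theorem set275_image {g : Co0} {u v x : leechLattice} :
    g • x ∈ set275 (g • u) (g • v) ↔ x ∈ set275 u v := by
  simp only [set275, Set.mem_ofPred_eq, sqNorm_co0, co0_dotInt]

theorem cert275 : Trees.t275.gensB ([pV, pU].map fun v => v.1) = true ∧
    Trees.t275.sizeB (keyOf pS.1) 275 = true := by
  decide +kernel

theorem pS_mem : pS ∈ set275 pV pU :=
  ⟨sqNorm_configs.2.2.2.2.2.2.2, dot_configs.2.2.2.1, dot_configs.2.2.2.2.1⟩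

theorem transitive275 {x : leechLattice} (hx : x ∈ set275 pV pU) :
    ∃ g : Co0, g • pV = pV ∧ g • pU = pU ∧ g • pS = x := by
  obtain ⟨g, hg, e⟩ := transitive_of_cert Trees.t275 (conf := [pV, pU]) (x₀ := pS)
    (S := set275 pV pU) (N := 275) (by norm_num) count275 pS_mem
    (fun g hg y hy => set275_inv (mem_fixConf.mp hg pV (by simp)) (mem_fixConf.mp hg pU (by simp))
      hy) cert275.1 cert275.2 x hx
  exact ⟨g, mem_fixConf.mp hg pV (by simp), mem_fixConf.mp hg pU (by simp), e⟩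

theorem ncard_set275 {u v : leechLattice} (hu : sqNorm u.1 = 48) (hv : sqNorm v.1 = 32)
    (hd : dotInt u.1 v.1 = 24) : (set275 u v).ncard = 275 := by
  obtain ⟨g, hg, hgv⟩ := exists_to_552 hu hv hd
  refine Eq.trans ?_ ((ncard_smul_setOf g fun x => x ∈ set275 pV pU).trans count275)
  congr 1
  ext x
  rw [Set.mem_ofPred_eq, ← hg, ← hgv]
  exact set275_image.symm

theorem exists_to_275 {u v x : leechLattice} (hu : sqNorm u.1 = 48) (hv : sqNorm v.1 = 32)
    (hd : dotInt u.1 v.1 = 24) (hx : x ∈ set275 u v) :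
    ∃ g : Co0, g • u = pV ∧ g • v = pU ∧ g • x = pS := by
  obtain ⟨g, hg, hgv⟩ := exists_to_552 hu hv hd
  obtain ⟨h, hh, hhv, hhx⟩ := transitive275 (x := g • x)
    (by rw [← hg, ← hgv]; exact set275_image.mpr hx)
  refine ⟨h⁻¹ * g, ?_, ?_, ?_⟩
  · rw [mul_smul, hg, inv_smul_eq_iff, hh]
  · rw [mul_smul, hgv, inv_smul_eq_iff, hhv]
  · rw [mul_smul, inv_smul_eq_iff, hhx]

theorem roots275 : inLeechB (ofList Trees.mclA112Root) = true ∧
    inLeechB (ofList Trees.mclA162Root) = true := by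
  decide +kernel

/-- Root of the suborbit of length 112. -/
def root112 : leechLattice := ⟨_, mem_of_inLeechB roots275.1⟩
/-- Root of the suborbit of length 162. -/
def root162 : leechLattice := ⟨_, mem_of_inLeechB roots275.2⟩

theorem roots275_spec : (sqNorm root112.1 = 32 ∧ dotInt pV.1 root112.1 = 24 ∧
    dotInt pU.1 root112.1 = 16 ∧ dotInt pS.1 root112.1 = 8) ∧
    (sqNorm root162.1 = 32 ∧ dotInt pV.1 root162.1 = 24 ∧
    dotInt pU.1 root162.1 = 16 ∧ dotInt pS.1 root162.1 = 16) := by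
  decide +kernel

theorem subcert275 : ∀ b : Bool,
    (cond b Trees.mclA162 Trees.mclA112).gensB (([pV, pU] ++ [pS]).map fun v => v.1) = true ∧
      (cond b Trees.mclA162 Trees.mclA112).sizeB (keyOf (cond b root162 root112).1)
        (cond b 162 112) = true := by
  decide +kernel

theorem suborbits275 :
    (∀ b : Bool, (dotClass (set275 pV pU) pS (cond b 16 8)).ncard = cond b 162 112 ∧
      ∀ y ∈ dotClass (set275 pV pU) pS (cond b 16 8),
        ∃ g ∈ fixConf ([pV, pU] ++ [pS]), g • cond b root162 root112 = y) ∧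
    ∀ y ∈ set275 pV pU, y = pS ∨ ∃ b : Bool, dotInt pS.1 y.1 = cond b 16 8 :=
  suborbits_of_certs (ι := Bool) pS_mem sqNorm_configs.2.2.2.2.2.2.2
    (fun g hg y hy => set275_inv (mem_fixConf.mp hg pV (by simp)) (mem_fixConf.mp hg pU (by simp))
      hy)
    (fun b => cond b Trees.mclA162 Trees.mclA112) (fun b => cond b root162 root112)
    (fun b => cond b 16 8) (fun b => cond b 162 112)
    (fun a b h => by cases a <;> cases b <;> simp at h ⊢)
    (fun b => by cases b <;> simp)
    (fun b => by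
      cases b
      · exact ⟨⟨roots275_spec.1.1, roots275_spec.1.2.1, roots275_spec.1.2.2.1⟩,
          roots275_spec.1.2.2.2⟩
      · exact ⟨⟨roots275_spec.2.1, roots275_spec.2.2.1, roots275_spec.2.2.2.1⟩,
          roots275_spec.2.2.2.2⟩)
    (by rw [count275]; simp) (fun b => (subcert275 b).1) (fun b => (subcert275 b).2)

theorem ncard_suborbit275 {u v x : leechLattice} (hu : sqNorm u.1 = 48) (hv : sqNorm v.1 = 32)
    (hd : dotInt u.1 v.1 = 24) (hx : x ∈ set275 u v) (b : Bool) :
    (dotClass (set275 u v) x (cond b 16 8)).ncard = cond b 162 112 := by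
  obtain ⟨g, hg, hgv, hgx⟩ := exists_to_275 hu hv hd hx
  refine Eq.trans ?_ ((ncard_smul_setOf g fun y => y ∈ dotClass (set275 pV pU) pS (cond b 16 8)).trans
    (suborbits275.1 b).1)
  congr 1
  ext y
  simp only [Set.mem_ofPred_eq, dotClass]
  rw [← hg, ← hgv, ← hgx, set275_image, co0_dotInt]

theorem transitive_suborbit275 {u v x y y' : leechLattice} (hu : sqNorm u.1 = 48)
    (hv : sqNorm v.1 = 32) (hd : dotInt u.1 v.1 = 24) (hx : x ∈ set275 u v)
    (hy : y ∈ set275 u v) (hy' : y' ∈ set275 u v) (hne : y ≠ x)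
    (he : dotInt x.1 y.1 = dotInt x.1 y'.1) :
    ∃ k : Co0, k • u = u ∧ k • v = v ∧ k • x = x ∧ k • y = y' := by
  obtain ⟨g, hg, hgv, hgx⟩ := exists_to_275 hu hv hd hx
  have hy1 : g • y ∈ set275 pV pU := by rw [← hg, ← hgv]; exact set275_image.mpr hy
  have hy1' : g • y' ∈ set275 pV pU := by rw [← hg, ← hgv]; exact set275_image.mpr hy'
  rcases suborbits275.2 _ hy1 with e | ⟨b, hb⟩
  · exact absurd (MulAction.injective g (e.trans hgx.symm)) hne
  · have hb' : dotInt pS.1 (g • y').1 = cond b 16 8 := by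
      rw [← hb, ← hgx, co0_dotInt, co0_dotInt, he]
    obtain ⟨k, hk, hky⟩ := exists_fix_between (conf := [u, v, x]) (g := g)
      (conf₀ := [pV, pU] ++ [pS]) (by simp [hg, hgv, hgx])
      ((suborbits275.1 b).2 _ ⟨hy1, hb⟩) ((suborbits275.1 b).2 _ ⟨hy1', hb'⟩)
    exact ⟨k, hk u (by simp), hk v (by simp), hk x (by simp), hky⟩

end Cfsg.Agent.Leech
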