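import Cfsg.Agent.Leech.Configs
import Cfsg.Agent.Leech.TreesData

/-!
The stabiliser of a minimal vector on the 4600 minimal vectors of inner product -16 with it.
-/

set_option autoImplicit false

namespace Cfsg.Agent.Leech

open Cfsg

/-- The minimal vectors with inner product -16 with `v`. -/
def set4600 (v : leechLattice) : Set leechLattice :=
  {x | sqNorm x.1 = 32 ∧ dotInt v.1 x.1 = -16}

theorem count4600 : (set4600 pU).ncard = 4600 :=
  ncard_min_dot_grouped (threeVals 4 4 0) (by decide) (-16) 4600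
    [[0, 0, 0, 0, 0, 0, 0, 0], [4, 0, 0, 0, 0, 0, 0, 0], [0, 0, 0, 0, 0, 0, 0, 4],
      [4, 0, 0, 0, 0, 0, 0, 4]] (by decide +kernel)

theorem cert4600 : Trees.t4600.gensB ([pU].map fun v => v.1) = true ∧
    Trees.t4600.sizeB (keyOf pT.1) 4600 = true := by
  decide +kernel

theorem transitive4600 {x : leechLattice} (hx : x ∈ set4600 pU) :
    ∃ g : Co0, g • pU = pU ∧ g • pT = x := by
  obtain ⟨g, hg, e⟩ := transitive_of_cert Trees.t4600 (conf := [pU]) (x₀ := pT)
    (S := set4600 pU) (N := 4600) (by norm_num) count4600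
    ⟨sqNorm_configs.2.2.2.2.2.2.1, dot_configs.2.2.1⟩ (fun g hg y hy => by
      have h : g • pU = pU := mem_fixConf.mp hg pU (List.mem_singleton.mpr rfl)
      refine ⟨(sqNorm_co0 g y).trans hy.1, ?_⟩
      calc dotInt pU.1 (g • y).1 = dotInt (g • pU).1 (g • y).1 := by rw [h]
        _ = dotInt pU.1 y.1 := co0_dotInt g pU y
        _ = -16 := hy.2)
    cert4600.1 cert4600.2 x hx
  exact ⟨g, mem_fixConf.mp hg pU (List.mem_singleton.mpr rfl), e⟩

theorem exists_to_4600 {v w : leechLattice} (hv : sqNorm v.1 = 32) (hw : sqNorm w.1 = 32)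
    (hd : dotInt v.1 w.1 = -16) : ∃ g : Co0, g • v = pU ∧ g • w = pT := by
  obtain ⟨g, hg⟩ := exists_to_pU hv
  obtain ⟨h, hh, hh'⟩ := transitive4600 (x := g • w)
    ⟨(sqNorm_co0 g w).trans hw, by rw [← hg, co0_dotInt]; exact hd⟩
  refine ⟨h⁻¹ * g, ?_, ?_⟩
  · rw [mul_smul, hg, inv_smul_eq_iff, hh]
  · rw [mul_smul, inv_smul_eq_iff, hh']

/-- Pairs of minimal vectors with inner product -16 form one orbit. -/
theorem exists_smul_pair16 {v w v' w' : leechLattice} (hv : sqNorm v.1 = 32)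
    (hw : sqNorm w.1 = 32) (hd : dotInt v.1 w.1 = -16) (hv' : sqNorm v'.1 = 32)
    (hw' : sqNorm w'.1 = 32) (hd' : dotInt v'.1 w'.1 = -16) :
    ∃ g : Co0, g • v = v' ∧ g • w = w' := by
  obtain ⟨g, hg, hgw⟩ := exists_to_4600 hv hw hd
  obtain ⟨h, hh, hhw⟩ := exists_to_4600 hv' hw' hd'
  refine ⟨h⁻¹ * g, ?_, ?_⟩
  · rw [mul_smul, hg, inv_smul_eq_iff, hh]
  · rw [mul_smul, hgw, inv_smul_eq_iff, hhw]

end Cfsg.Agent.Leech
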