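import Cfsg.Agent.Leech.Configs
import Cfsg.Agent.Leech.TreesData

/-!
The stabiliser of a vector of squared length 48 on the 552 minimal summands.
-/

set_option autoImplicit false

namespace Cfsg.Agent.Leech

open Cfsg

/-- The minimal vectors with inner product 24 with `u`. -/
def set552 (u : leechLattice) : Set leechLattice :=
  {x | sqNorm x.1 = 32 ∧ dotInt u.1 x.1 = 24}

theorem count552 : (set552 pV).ncard = 552 :=
  ncard_min_dot_grouped (threeVals 5 1 1) (by decide) 24 552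
    [[1, 1, 1, 1, 1, 1, 1, 1], [1, 1, 1, 1, 1, 1, 1, 5]] (by decide +kernel)

theorem cert552 : Trees.t552.gensB ([pV].map fun v => v.1) = true ∧
    Trees.t552.sizeB (keyOf pU.1) 552 = true := by
  decide +kernel

theorem transitive552 {x : leechLattice} (hx : x ∈ set552 pV) :
    ∃ g : Co0, g • pV = pV ∧ g • pU = x := by
  obtain ⟨g, hg, e⟩ := transitive_of_cert Trees.t552 (conf := [pV]) (x₀ := pU)
    (S := set552 pV) (N := 552) (by norm_num) count552 ⟨sqNorm_configs.1, dot_configs.1⟩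
    (fun g hg y hy => by
      have h : g • pV = pV := mem_fixConf.mp hg pV (List.mem_singleton.mpr rfl)
      refine ⟨(sqNorm_co0 g y).trans hy.1, ?_⟩
      calc dotInt pV.1 (g • y).1 = dotInt (g • pV).1 (g • y).1 := by rw [h]
        _ = dotInt pV.1 y.1 := co0_dotInt g pV y
        _ = 24 := hy.2)
    cert552.1 cert552.2 x hx
  exact ⟨g, mem_fixConf.mp hg pV (List.mem_singleton.mpr rfl), e⟩

theorem exists_to_552 {u v : leechLattice} (hu : sqNorm u.1 = 48) (hv : sqNorm v.1 = 32)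
    (hd : dotInt u.1 v.1 = 24) : ∃ g : Co0, g • u = pV ∧ g • v = pU := by
  obtain ⟨g, hg⟩ := exists_to_pV hu
  obtain ⟨h, hh, hh'⟩ := transitive552 (x := g • v)
    ⟨(sqNorm_co0 g v).trans hv, by rw [← hg, co0_dotInt]; exact hd⟩
  refine ⟨h⁻¹ * g, ?_, ?_⟩
  · rw [mul_smul, hg, inv_smul_eq_iff, hh]
  · rw [mul_smul, inv_smul_eq_iff, hh']

theorem ncard_set552 {u : leechLattice} (hu : sqNorm u.1 = 48) : (set552 u).ncard = 552 := by
  obtain ⟨g, hg⟩ := exists_to_pV hu
  refine Eq.trans ?_ ((ncard_smul_setOf g fun x => x ∈ set552 pV).trans count552)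
  congr 1
  ext x
  simp only [set552, Set.mem_ofPred_eq, sqNorm_co0]
  rw [← hg, co0_dotInt]

theorem summand_iff {u v : GolayPt → ℤ} (hu : sqNorm u = 48) :
    (sqNorm v = 32 ∧ sqNorm (u - v) = 32) ↔ (sqNorm v = 32 ∧ dotInt u v = 24) := by
  rw [sqNorm_sub_eq, hu]
  constructor <;> rintro ⟨h1, h2⟩ <;> exact ⟨h1, by omega⟩

/-- Pairs of minimal vectors with inner product -8 go to a standard pair. -/
theorem exists_to_mcl {v w : leechLattice} (hv : sqNorm v.1 = 32) (hw : sqNorm w.1 = 32)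
    (hd : dotInt v.1 w.1 = -8) : ∃ g : Co0, g • v = pU ∧ g • w = pW := by
  have hu : sqNorm (v + w).1 = 48 := by
    rw [AddSubgroup.coe_add, sqNorm_add_eq, hv, hw, hd]; norm_num
  have hdu : dotInt (v + w).1 v.1 = 24 := by
    have := (summand_iff hu (v := v.1)).mp ⟨hv, by
      rw [AddSubgroup.coe_add, add_sub_cancel_left]; exact hw⟩
    exact this.2
  obtain ⟨g, hg, hgv⟩ := exists_to_552 hu hv hdu
  refine ⟨g, hgv, ?_⟩
  rw [co0_add, hgv] at hg
  rw [pW_eq, ← hg, add_sub_cancel_left]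

/-- Pairs of minimal vectors with inner product -8 form one orbit. -/
theorem exists_smul_pair8 {v w v' w' : leechLattice} (hv : sqNorm v.1 = 32)
    (hw : sqNorm w.1 = 32) (hd : dotInt v.1 w.1 = -8) (hv' : sqNorm v'.1 = 32)
    (hw' : sqNorm w'.1 = 32) (hd' : dotInt v'.1 w'.1 = -8) :
    ∃ g : Co0, g • v = v' ∧ g • w = w' := by
  obtain ⟨g, hg, hgw⟩ := exists_to_mcl hv hw hd
  obtain ⟨h, hh, hhw⟩ := exists_to_mcl hv' hw' hd'
  refine ⟨h⁻¹ * g, ?_, ?_⟩
  · rw [mul_smul, hg, inv_smul_eq_iff, hh]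
  · rw [mul_smul, hgw, inv_smul_eq_iff, hhw]

end Cfsg.Agent.Leech
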