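import Cfsg.Agent.Leech.SimpleMcL
import Cfsg.Agent.Golay.IndexM22Small

/-!
The Higman-Sims group has outer automorphism group of order 2.
-/

set_option autoImplicit false

namespace Cfsg.Agent.Leech

open Cfsg Cfsg.Agent.Golay

attribute [local irreducible] set100

/-- The vector with values at the extra point, at 0, at 1, and elsewhere. -/
def qd (a b c d : ℤ) : GolayPt → ℤ := ofList (b :: c :: List.replicate 21 d ++ [a])

theorem qd_apply (a b c d : ℤ) (p : GolayPt) :
    qd a b c d p = if p = none then a else if p = some 0 then b else if p = some 1 then c else d := by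
  rcases p with _ | z
  · rfl
  · fin_cases z <;> rfl

theorem sqNorm_qd (a b c d : ℤ) : sqNorm (qd a b c d) = a ^ 2 + b ^ 2 + c ^ 2 + 21 * d ^ 2 := by
  rw [sqNorm, sum_ptOf]
  simp only [qd, ofList, List.range, List.range.loop, List.map_cons, List.map_nil, List.sum_cons,
    List.sum_nil]
  simp [ptIdx_ptOf, List.replicate]
  ring

theorem dot_tv_qd (a b c A B C D : ℤ) :
    dotInt (tv a b c) (qd A B C D) = a * A + b * B + c * C + 21 * (c * D) := by
  rw [dotInt, sum_ptOf]
  simp only [qd, tv, ofList, List.range, List.range.loop, List.map_cons, List.map_nil, List.sum_cons,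
    List.sum_nil]
  simp [ptIdx_ptOf, threeVals, List.replicate]
  ring

theorem qb_mem : inLeechB (qd 1 1 (-3) 1) = true := by decide +kernel

/-- The vector `(1, 1, -3, 1²¹)`. -/
def qB : leechLattice := ⟨qd 1 1 (-3) 1, mem_of_inLeechB qb_mem⟩

theorem mem_set100 {x : leechLattice} :
    x ∈ set100 ↔ sqNorm x.1 = 32 ∧ dotInt pV.1 x.1 = 24 ∧ dotInt pY.1 x.1 = -24 := by
  simp only [set100, Set.mem_ofPred_eq]

theorem qB_mem100 : qB ∈ set100 := by
  rw [mem_set100, show qB.1 = qd 1 1 (-3) 1 from rfl, sqNorm_qd,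
    show pV.1 = tv 5 1 1 from rfl, dot_tv_qd, show pY.1 = tv (-1) (-5) (-1) from rfl, dot_tv_qd]
  norm_num

/-- The homomorphism from M22 into the group. -/
def mh : Spor.M22 →* hs := m22Hom.codRestrict hs fun σ => m22G_le_hs ⟨σ, rfl⟩

theorem mh_coe (σ : Spor.M22) : (mh σ : Co0) = m22Hom σ := rfl

theorem mh_injective : Function.Injective mh := fun _ _ h =>
  m22Hom_injective (congrArg Subtype.val h)

theorem range_mh : mh.range = MulAction.stabilizer hs pU := by
  ext g
  constructor
  · rintro ⟨σ, rfl⟩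
    exact m22G_fix_tv 4 4 0 pU rfl _ ⟨σ, rfl⟩
  · intro hg
    obtain ⟨σ, hσ⟩ : (g : Co0) ∈ m22G := hs_inf_pU ▸ ⟨g.2, hg⟩
    exact ⟨σ, Subtype.ext hσ⟩

/-- Fixed vectors of the stabiliser of three points. -/
theorem fixed_three {y : leechLattice} (hy : y ∈ set100)
    (h : ∀ σ : Spor.M22, (σ : Equiv.Perm GolayPt) (some 1) = some 1 → m22Hom σ • y = y) :
    y = pU ∨ y = qB := by
  have e : y.1 = qd (y.1 none) (y.1 (some 0)) (y.1 (some 1)) (y.1 (some 2)) := by
    funext p
    rw [qd_apply]
    split_ifs with h1 h2 h3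
    · rw [h1]
    · rw [h2]
    · rw [h3]
    by_cases h4 : p = some 2
    · rw [h4]
    obtain ⟨g, hg, hgf, hgp⟩ := exists_move_fixing (k := 3) (by norm_num)
      ⟨![none, some 0, some 1], by intro i j; fin_cases i <;> fin_cases j <;> simp +decide⟩
      (a := p) (b := (some 2 : GolayPt))
      (fun i => by fin_cases i; exacts [Ne.symm h1, Ne.symm h2, Ne.symm h3])
      (fun i => by fin_cases i <;> decide)
    have := congrArg (fun w : leechLattice => w.1 (some 2))
      (h ⟨g, mem_M22_iff.mpr ⟨hg, hgf 0, hgf 1⟩⟩ (hgf 2))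
    simp only [m22Hom_smul] at this
    rw [show g⁻¹ (some 2) = p from Equiv.Perm.inv_eq_iff_eq.mpr hgp.symm] at this
    exact this
  obtain ⟨h1, h2, h3⟩ := mem_set100.mp hy
  generalize y.1 none = a at e
  generalize y.1 (some 0) = b at e
  generalize y.1 (some 1) = c at e
  generalize y.1 (some 2) = d at e
  rw [e, sqNorm_qd] at h1
  rw [e, show pV.1 = tv 5 1 1 from rfl, dot_tv_qd] at h2
  rw [e, show pY.1 = tv (-1) (-5) (-1) from rfl, dot_tv_qd] at h3
  have hab : b = a := by linarith
  subst hab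
  have hc : c = 24 - 6 * b - 21 * d := by linarith
  subst hc
  have hd1 : -1 ≤ d := by nlinarith
  have hd2 : d ≤ 1 := by nlinarith
  have ha1 : -4 ≤ b := by nlinarith
  have ha2 : b ≤ 4 := by nlinarith
  interval_cases d <;> interval_cases b <;> norm_num at h1
  · refine Or.inl (Subtype.ext (e.trans ?_))
    funext p
    rw [qd_apply, show pU.1 = tv 4 4 0 from rfl, tv_apply]
    norm_num
  · exact Or.inr (Subtype.ext (e.trans (by norm_num [qB])))

/-- The fixed vectors of the cycles of an element of order 11. -/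
theorem fixed_double {y : leechLattice} (hy : y ∈ set100)
    (h : mh double22 • y = y) : y = pU := by
  have hinv : ∀ p, y.1 (doublePerm p) = y.1 p := by
    intro p
    have := congrArg (fun w : leechLattice => w.1 (doublePerm p)) h
    change (m22Hom double22 • y).1 (doublePerm p) = _ at this
    rw [m22Hom_smul] at this
    simpa [double22] using this.symm
  have hpow : ∀ (i : ℕ) p, y.1 ((doublePerm ^ i) p) = y.1 p := by
    intro i
    induction i with
    | zero => intro p; rfl
    | succ i ih => intro p; rw [pow_succ', Equiv.Perm.mul_apply, hinv, ih]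
  have hcyc : ∀ p : GolayPt, p = none ∨ p = some 0 ∨
      (∃ i ∈ List.range 11, (doublePerm ^ i) (some 1) = p) ∨
      ∃ i ∈ List.range 11, (doublePerm ^ i) (some 5) = p := by decide +kernel
  obtain ⟨h1, h2, h3⟩ := mem_set100.mp hy
  have e : y.1 = ofList ((List.range 23).map (fun k =>
      if k = 0 then y.1 (some 0)
      else if k ∈ [1, 2, 3, 4, 6, 8, 9, 12, 13, 16, 18] then y.1 (some 1)
      else y.1 (some 5)) ++ [y.1 none]) := by
    funext p
    rcases hcyc p with rfl | rfl | ⟨i, hi, rfl⟩ | ⟨i, hi, rfl⟩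
    · rfl
    · rfl
    · rw [hpow]
      rw [List.mem_range] at hi
      interval_cases i <;> rfl
    · rw [hpow]
      rw [List.mem_range] at hi
      interval_cases i <;> rfl
  generalize y.1 none = a at e
  generalize y.1 (some 0) = b at e
  generalize y.1 (some 1) = c at e
  generalize y.1 (some 5) = d at e
  have en : sqNorm y.1 = a ^ 2 + b ^ 2 + 11 * c ^ 2 + 11 * d ^ 2 := by
    rw [e, sqNorm, sum_ptOf]
    simp [ofList, List.range, List.range.loop, ptIdx_ptOf]
    ring
  have ev : dotInt pV.1 y.1 = 5 * a + b + 11 * c + 11 * d := by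
    rw [e, show pV.1 = tv 5 1 1 from rfl, dotInt, sum_ptOf]
    simp [tv, threeVals, ofList, List.range, List.range.loop, ptIdx_ptOf, List.replicate]
    ring
  have ey : dotInt pY.1 y.1 = -a - 5 * b - 11 * c - 11 * d := by
    rw [e, show pY.1 = tv (-1) (-5) (-1) from rfl, dotInt, sum_ptOf]
    simp [tv, threeVals, ofList, List.range, List.range.loop, ptIdx_ptOf, List.replicate]
    ring
  rw [en] at h1
  rw [ev] at h2
  rw [ey] at h3
  have hab : b = a := by linarith
  subst hab
  have hb1 : -4 ≤ b := by nlinarith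
  have hb2 : b ≤ 4 := by nlinarith
  have hc1 : -1 ≤ c := by nlinarith
  have hc2 : c ≤ 1 := by nlinarith
  have hd1 : -1 ≤ d := by nlinarith
  have hd2 : d ≤ 1 := by nlinarith
  interval_cases b <;> interval_cases c <;> interval_cases d <;>
    first | omega | (refine Subtype.ext (e.trans ?_); decide +kernel)

theorem conj_double_mem {G : Type*} [Group G] [Finite G] {p : ℕ} [hp : Fact p.Prime]
    (hp2 : ¬p ^ 2 ∣ Nat.card G) {c c₀ : G} (hc : orderOf c = p) (hc₀ : orderOf c₀ = p) :
    ∃ g : G, g * c₀ * g⁻¹ ∈ Subgroup.zpowers c := by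
  obtain ⟨P, hP⟩ := exists_sylow_zpowers c hc hp2
  obtain ⟨Q, hQ⟩ := exists_sylow_zpowers c₀ hc₀ hp2
  obtain ⟨g, hg⟩ := MulAction.exists_smul_eq G Q P
  refine ⟨g, ?_⟩
  have : (Q : Subgroup G).map (MulAut.conj g).toMonoidHom = (P : Subgroup G) := by
    rw [← hg]; rfl
  rw [← hP, ← this, hQ]
  exact ⟨c₀, Subgroup.mem_zpowers c₀, rfl⟩

/-- A subgroup of the order of M22 fixes one of the hundred points. -/
theorem exists_fixed_hs {H : Subgroup hs} (hH : Nat.card H = 443520) :
    ∃ x ∈ set100, ∀ h ∈ H, h • x = x := by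
  classical
  have := finite_Co0
  have : Fact (Nat.Prime 11) := ⟨by norm_num⟩
  obtain ⟨c, hc⟩ := exists_prime_orderOf_dvd_card' (G := H) 11 (by rw [hH]; norm_num)
  rw [← Subgroup.orderOf_coe] at hc
  have hp2 : ¬11 ^ 2 ∣ Nat.card hs := by rw [card_hs]; norm_num
  have hc₀ : orderOf (mh double22) = 11 := by
    rw [orderOf_injective mh mh_injective, orderOf_double22]
  obtain ⟨g, hg⟩ := conj_double_mem hp2 hc hc₀
  have huniq : ∀ y ∈ set100, (c : hs) • y = y → y = (g : hs) • pU := by
    intro y hy hcy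
    have hz : (g * mh double22 * g⁻¹) • y = y := by
      have hle : Subgroup.zpowers (c : hs) ≤ MulAction.stabilizer hs y :=
        Subgroup.zpowers_le.mpr hcy
      exact hle hg
    rw [mul_smul, mul_smul, ← eq_inv_smul_iff (g := g)] at hz
    have := fixed_double (set100_inv (g⁻¹).2 hy) hz
    have h2 : g • (g⁻¹ • y) = g • pU := congrArg (g • ·) this
    rwa [smul_inv_smul] at h2
  obtain ⟨x, hx⟩ : ∃ x, x = (g : hs) • pU := ⟨_, rfl⟩
  have hx100 : x ∈ set100 := hx ▸ set100_inv g.2 pU_mem100
  rw [← hx] at huniq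
  refine ⟨x, hx100, ?_⟩
  have horb : MulAction.orbit H x ⊆ set100 := by
    rintro _ ⟨h, rfl⟩
    exact set100_inv h.1.2 hx100
  have hfin : (set100).Finite := Set.finite_of_ncard_pos (by rw [count100]; norm_num)
  have : Finite (MulAction.orbit H x) := (hfin.subset horb).to_subtype
  set m := Nat.card (MulAction.orbit H x) with hm
  have hm100 : m ≤ 100 := by
    rw [hm, Nat.card_coe_set_eq, ← count100]
    exact Set.ncard_le_ncard horb hfin
  have hmul : m * Nat.card (MulAction.stabilizer H x) = 443520 := by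
    rw [hm, ← hH, ← Nat.card_prod]
    exact Nat.card_congr (MulAction.orbitProdStabilizerEquivGroup H x)
  have hmod : m % 11 = 1 := by
    have hP : IsPGroup 11 (Subgroup.zpowers c) := IsPGroup.of_card (n := 1) (by
      rw [Nat.card_zpowers, pow_one, ← Subgroup.orderOf_coe, hc])
    have hcong := hP.card_modEq_card_fixedPoints (MulAction.orbit H x)
    have hx' : (c : hs) • x = x := by
      obtain ⟨i, hi⟩ := Subgroup.mem_zpowers_iff.mp hg
      have hcy : (g * mh double22 * g⁻¹) • x = x := by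
        rw [hx, mul_smul, mul_smul, inv_smul_smul]
        congr 1
        exact m22G_fix_tv 4 4 0 pU rfl _ ⟨double22, rfl⟩
      have hle : Subgroup.zpowers (g * mh double22 * g⁻¹) ≤ MulAction.stabilizer hs x :=
        Subgroup.zpowers_le.mpr hcy
      refine hle ?_
      have e11 : orderOf (g * mh double22 * g⁻¹) = 11 := by
        rw [← MulAut.conj_apply, MulEquiv.orderOf_eq, hc₀]
      have heq : Subgroup.zpowers (g * mh double22 * g⁻¹) = Subgroup.zpowers (c : hs) :=
        Subgroup.eq_of_le_of_card_ge (Subgroup.zpowers_le.mpr hg)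
          (by rw [Nat.card_zpowers, Nat.card_zpowers, e11, hc])
      rw [heq]
      exact Subgroup.mem_zpowers _
    have hone : Nat.card (MulAction.fixedPoints (Subgroup.zpowers c) (MulAction.orbit H x)) = 1 := by
      rw [Nat.card_eq_one_iff_unique]
      refine ⟨⟨fun a b => ?_⟩, ⟨⟨⟨x, MulAction.mem_orbit_self x⟩, fun z => ?_⟩⟩⟩
      · have key : ∀ a : MulAction.fixedPoints (Subgroup.zpowers c) (MulAction.orbit H x),
            ((a.1 : MulAction.orbit H x) : leechLattice) = x := fun a =>
          huniq _ (horb a.1.2) (congrArg Subtype.val (a.2 ⟨c, Subgroup.mem_zpowers c⟩))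
        exact Subtype.ext (Subtype.ext ((key a).trans (key b).symm))
      · obtain ⟨z, hz⟩ := z
        obtain ⟨i, rfl⟩ := Subgroup.mem_zpowers_iff.mp hz
        refine Subtype.ext ?_
        show (c ^ i : H) • x = x
        have : c ^ i ∈ MulAction.stabilizer H x := zpow_mem (show c ∈ _ from hx') i
        exact this
    rw [hone] at hcong
    exact hcong
  have hcases : ∀ k < 101, 443520 % k = 0 → k % 11 = 1 → k = 1 ∨ k = 12 ∨ k = 45 ∨ k = 56 := by
    decide +kernel
  have hdiv : 443520 % m = 0 := Nat.mod_eq_zero_of_dvd ⟨_, hmul.symm⟩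
  have hm1 : m = 1 := by
    rcases hcases m (by omega) hdiv hmod with h1 | hrest
    · exact h1
    exfalso
    -- a subgroup of index m of M22
    let f : MulAction.stabilizer H x →* hs :=
      (MulAut.conj g⁻¹).toMonoidHom.comp (H.subtype.comp (MulAction.stabilizer H x).subtype)
    have hf : Function.Injective f :=
      (MulAut.conj g⁻¹).injective.comp (H.subtype_injective.comp (Subgroup.subtype_injective _))
    have hfr : f.range ≤ mh.range := by
      rintro _ ⟨s, rfl⟩
      rw [range_mh, MulAction.mem_stabilizer_iff]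
      show (g⁻¹ * (s.1 : hs) * g⁻¹⁻¹) • pU = pU
      rw [inv_inv, mul_smul, mul_smul, ← hx, show ((s.1 : hs)) • x = x from s.2, hx, inv_smul_smul]
    have hcard : Nat.card (f.range.comap mh) = Nat.card (MulAction.stabilizer H x) := by
      rw [Nat.card_congr (MonoidHom.ofInjective hf).toEquiv,
        ← Subgroup.card_map_of_injective (K := f.range.comap mh) mh_injective,
        Subgroup.map_comap_eq_self hfr]
    have hidx := Subgroup.index_mul_card (f.range.comap mh)
    rw [hcard, card_M22, ← hmul] at hidx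
    have hi : (f.range.comap mh).index = m := Nat.eq_of_mul_eq_mul_right Nat.card_pos hidx
    rcases hrest with h | h | h
    · exact no_M22_subgroup_12 _ (hi.trans h)
    · exact no_M22_subgroup_45 _ (hi.trans h)
    · exact (index_M22_ne _).1 (hi.trans h)
  intro h hh
  have hsub : Subsingleton (MulAction.orbit H x) :=
    (Nat.card_eq_one_iff_unique.mp hm1).1
  exact congrArg Subtype.val
    (Subsingleton.elim (⟨(⟨h, hh⟩ : H) • x, ⟨_, rfl⟩⟩ : MulAction.orbit H x)
      ⟨x, MulAction.mem_orbit_self x⟩)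

/-- The exchange of the extra point and 0, on the lattice. -/
def tEl : Co0 := toCo0 (isAut_comp projInv_mem)

theorem tEl_vals : tv 4 4 0 ∘ projInv = tv 4 4 0 ∧ tv (-4) 4 0 ∘ projInv = -tv (-4) 4 0 ∧
    tv 5 1 1 ∘ projInv = tv 5 1 1 + tv (-4) 4 0 ∧ ∀ p, projInv (projInv p) = p := by
  decide +kernel

theorem tEl_sq : tEl * tEl = 1 := by
  refine Subtype.ext (Equiv.ext fun v => Subtype.ext (funext fun p => ?_))
  show v.1 (projInv (projInv p)) = v.1 p
  rw [tEl_vals.2.2.2]

theorem tEl_fix : tEl • pU = pU ∧ tEl • pX = -pX ∧ tEl • pV = pV + pX :=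
  ⟨Subtype.ext tEl_vals.1, Subtype.ext tEl_vals.2.1, Subtype.ext tEl_vals.2.2.1⟩

theorem tEl_conj {g : Co0} (hg : g ∈ hs) : tEl * g * tEl ∈ hs := by
  obtain ⟨hV, hX⟩ := mem_hs.mp hg
  obtain ⟨-, tX, tV⟩ := tEl_fix
  refine mem_hs.mpr ⟨?_, ?_⟩
  · rw [mul_smul, mul_smul, tV, co0_add, hV, hX, co0_add, tV, tX, add_neg_cancel_right]
  · rw [mul_smul, mul_smul, tX, co0_neg, hX, co0_neg, tX, neg_neg]

/-- The outer automorphism. -/
def tau : MulAut hs where
  toFun g := ⟨tEl * g * tEl, tEl_conj g.2⟩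
  invFun g := ⟨tEl * g * tEl, tEl_conj g.2⟩
  left_inv g := Subtype.ext (by
    show tEl * (tEl * g * tEl) * tEl = _
    rw [show tEl * (tEl * (g : Co0) * tEl) * tEl = (tEl * tEl) * g * (tEl * tEl) by group, tEl_sq,
      one_mul, mul_one])
  right_inv g := Subtype.ext (by
    show tEl * (tEl * g * tEl) * tEl = _
    rw [show tEl * (tEl * (g : Co0) * tEl) * tEl = (tEl * tEl) * g * (tEl * tEl) by group, tEl_sq,
      one_mul, mul_one])
  map_mul' a b := Subtype.ext (by
    show tEl * ((a : Co0) * b) * tEl = tEl * a * tEl * (tEl * b * tEl)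
    rw [show tEl * (a : Co0) * tEl * (tEl * b * tEl) = tEl * a * (tEl * tEl) * b * tEl by group,
      tEl_sq, mul_one]
    group)

theorem tau_mh (σ : Spor.M22) : tau (mh σ) = mh (outer22 σ) := by
  refine Subtype.ext (Subtype.ext (Equiv.ext fun v => Subtype.ext (funext fun p => ?_)))
  show v.1 (projInv ((σ : Equiv.Perm GolayPt)⁻¹ (projInv p))) =
    v.1 ((projInv * (σ : Equiv.Perm GolayPt) * projInv⁻¹)⁻¹ p)
  simp only [mul_inv_rev, inv_inv, Equiv.Perm.mul_apply]
  congr 2

/-- An automorphism fixing the point stabiliser elementwise is trivial. -/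
theorem eq_one_of_fix (ψ : MulAut hs) (hψ : ∀ σ, ψ (mh σ) = mh σ) : ψ = 1 := by
  have := finite_Co0
  have hM : ∀ n : hs, n • pU = pU → ψ n = n := fun n hn => by
    obtain ⟨σ, rfl⟩ : n ∈ mh.range := range_mh ▸ hn
    exact hψ σ
  obtain ⟨g₀', hg₀', hg₀⟩ := transitive100 qB_mem100
  let g₀ : hs := ⟨g₀', hg₀'⟩
  have hg₀U : g₀ • pU = qB := hg₀
  have hne : qB ≠ pU := fun e => by
    have := congrArg (fun v : leechLattice => v.1 none) e
    revert this
    decide +kernel
  have hD : ∀ σ : Spor.M22, (σ : Equiv.Perm GolayPt) (some 1) = some 1 →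
      (g₀⁻¹ * mh σ * g₀) • pU = pU := by
    intro σ hσ
    have hb : mh σ • qB = qB := by
      refine Subtype.ext (funext fun p => ?_)
      show qd 1 1 (-3) 1 ((σ : Equiv.Perm GolayPt)⁻¹ p) = qd 1 1 (-3) 1 p
      obtain ⟨-, h1, h2⟩ := mem_M22_iff.mp σ.2
      rw [qd_apply, qd_apply]
      simp only [Equiv.Perm.inv_eq_iff_eq, h1, h2, hσ]
    rw [mul_smul, mul_smul, hg₀U, hb, inv_smul_eq_iff, hg₀U]
  set y := ψ g₀ • pU with hy
  have hyfix : ∀ σ : Spor.M22, (σ : Equiv.Perm GolayPt) (some 1) = some 1 →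
      m22Hom σ • y = y := by
    intro σ hσ
    have h1 := hM _ (hD σ hσ)
    rw [map_mul, map_mul, map_inv, hψ] at h1
    have h2 := hD σ hσ
    rw [← h1, mul_smul, mul_smul, inv_smul_eq_iff] at h2
    exact h2
  rcases fixed_three (set100_inv (ψ g₀).2 pU_mem100) hyfix with e | e
  · exfalso
    have h1 := hM _ e
    rw [ψ.injective h1] at e
    exact hne (hg₀U.symm.trans e)
  · obtain ⟨ν, hν⟩ : g₀⁻¹ * ψ g₀ ∈ mh.range := by
      rw [range_mh, MulAction.mem_stabilizer_iff, mul_smul, inv_smul_eq_iff, hg₀U]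
      exact e
    let S := MulAction.stabilizer Spor.M22 (some 1 : GolayPt)
    have hDm : ∀ σ : S, g₀⁻¹ * mh σ.1 * g₀ ∈ mh.range := fun σ =>
      range_mh ▸ hD σ.1 σ.2
    let lam : S →* Spor.M22 := (MonoidHom.ofInjective mh_injective).symm.toMonoidHom.comp
      (((MulAut.conj g₀⁻¹).toMonoidHom.comp (mh.comp S.subtype)).codRestrict mh.range
        (fun σ => by simpa [MulAut.conj_apply] using hDm σ))
    have hlam : ∀ σ : S, mh (lam σ) = g₀⁻¹ * mh σ.1 * g₀ := fun σ => by
      rw [← MonoidHom.ofInjective_apply (hf := mh_injective)]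
      simp [lam, MulAut.conj_apply]
    have hinj : Function.Injective lam := fun a b hab => by
      have := congrArg mh hab
      rw [hlam, hlam, mul_left_inj, mul_right_inj] at this
      exact Subtype.ext (mh_injective this)
    have hScard : Nat.card S = 20160 := by
      obtain ⟨hinv, htr, -⟩ := M22_data
      exact card_stabilizer_eq Spor.M22 hinv htr (T := ({none, some 0}ᶜ : Finset GolayPt))
        (by decide +kernel) (by decide +kernel : _ = 22) (by rw [card_M22]) (by norm_num)
    have hν1 : ν = 1 := by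
      refine eq_one_of_commute_stab (H := lam.range) ?_ ?_
      · rw [← Nat.card_congr (MonoidHom.ofInjective hinj).toEquiv, hScard]
      · rintro _ ⟨σ, rfl⟩
        apply mh_injective
        have h1 := hM _ (hD σ.1 σ.2)
        rw [map_mul, map_mul, map_inv, hψ, show ψ g₀ = g₀ * mh ν by rw [hν, mul_inv_cancel_left]]
          at h1
        rw [map_mul, map_mul, hlam]
        calc mh ν * (g₀⁻¹ * mh σ.1 * g₀)
            = mh ν * ((g₀ * mh ν)⁻¹ * mh σ.1 * (g₀ * mh ν)) := by rw [h1]
          _ = g₀⁻¹ * mh σ.1 * g₀ * mh ν := by group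
    have hgfix : ψ g₀ = g₀ := by
      rw [hν1, map_one, eq_comm, inv_mul_eq_one] at hν
      exact hν.symm
    let F : Subgroup hs := ψ.toMonoidHom.eqLocus (MonoidHom.id hs)
    have hFM : ∀ σ, mh σ ∈ F := hψ
    have hstab : MulAction.stabilizer F pU ≃ MulAction.stabilizer hs pU :=
      { toFun := fun n => ⟨n.1.1, n.2⟩
        invFun := fun n => ⟨⟨n.1, by
          obtain ⟨σ, hσ⟩ : n.1 ∈ mh.range := by rw [range_mh]; exact n.2
          rw [← hσ]; exact hFM σ⟩, n.2⟩
        left_inv := fun _ => rfl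
        right_inv := fun _ => rfl }
    have hSc : Nat.card (MulAction.stabilizer hs pU) = 443520 := by
      rw [← range_mh, ← Nat.card_congr (MonoidHom.ofInjective mh_injective).toEquiv, card_M22]
    have hO : MulAction.orbit F pU ⊆ set100 := by
      rintro _ ⟨n, rfl⟩
      exact set100_inv n.1.2 pU_mem100
    have hfin : (set100).Finite := Set.finite_of_ncard_pos (by rw [count100]; norm_num)
    have : Finite (MulAction.orbit F pU) := (hfin.subset hO).to_subtype
    have hmulF : Nat.card (MulAction.orbit F pU) * 443520 = Nat.card F := by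
      rw [← hSc, ← Nat.card_congr hstab, ← Nat.card_prod]
      exact Nat.card_congr (MulAction.orbitProdStabilizerEquivGroup F pU)
    obtain ⟨hinv, htr, -⟩ := M22_data
    have h1T : (some 1 : GolayPt) ∈ ({none, some 0}ᶜ : Finset GolayPt) := by decide +kernel
    have hpts : ∀ k : {k // k ∈ ({none, some 0}ᶜ : Finset GolayPt)}, ∃ z : MulAction.orbit F pU,
        z.1 ≠ pU ∧ ∀ p, (z.1.1 p = -3) ↔ p = k.1 := by
      intro k
      obtain ⟨σ, hσ, hk⟩ := htr _ h1T k.1 k.2
      refine ⟨⟨(mh ⟨σ, hσ⟩ * g₀) • pU,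
        ⟨⟨mh ⟨σ, hσ⟩ * g₀, mul_mem (hFM _) hgfix⟩, rfl⟩⟩, ?_⟩
      have hk3 : ∀ p, ((mh ⟨σ, hσ⟩ * g₀) • pU).1 p = -3 ↔ p = k.1 := by
        intro p
        rw [mul_smul, hg₀U]
        show qd 1 1 (-3) 1 (σ⁻¹ p) = -3 ↔ _
        rw [qd_apply, ← hk]
        constructor
        · intro h3
          split_ifs at h3 with a b c
          rw [Equiv.Perm.inv_eq_iff_eq] at c
          exact c
        · rintro rfl
          have e1 : σ⁻¹ (σ (some 1)) = (some 1 : GolayPt) := by simp
          rw [e1, if_neg (by decide), if_neg (by decide), if_pos rfl]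
      refine ⟨fun e => ?_, hk3⟩
      have := (hk3 k.1).mpr rfl
      replace e : (mh ⟨σ, hσ⟩ * g₀) • pU = pU := e
      rw [e, show pU.1 = tv 4 4 0 from rfl, tv_apply] at this
      split_ifs at this <;> omega
    choose z hz using hpts
    have h23 : 23 ≤ Nat.card (MulAction.orbit F pU) := by
      let f : Option {k // k ∈ ({none, some 0}ᶜ : Finset GolayPt)} → MulAction.orbit F pU :=
        fun o => o.elim ⟨pU, MulAction.mem_orbit_self _⟩ z
      have hf : Function.Injective f := by
        rintro (_ | a) (_ | b) hab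
        · rfl
        · exact absurd (congrArg Subtype.val hab).symm (hz b).1
        · exact absurd (congrArg Subtype.val hab) (hz a).1
        · have hab' : z a = z b := hab
          exact congrArg some (Subtype.ext (((hz b).2 a.1).mp (hab' ▸ ((hz a).2 a.1).mpr rfl)))
      have := Nat.card_le_card_of_injective f hf
      rw [Finite.card_option, Nat.card_eq_fintype_card, Fintype.card_coe,
        show ({none, some 0}ᶜ : Finset GolayPt).card = 22 by decide +kernel] at this
      exact this
    have hidx := Subgroup.index_mul_card F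
    rw [← hmulF, card_hs, ← mul_assoc] at hidx
    have hidx' : F.index * Nat.card (MulAction.orbit F pU) = 100 := by omega
    have htop : F = ⊤ := by
      by_contra hFne
      have := isSimpleGroup_hs
      have hinj : Function.Injective (MulAction.toPermHom hs (hs ⧸ F)) := by
        rw [← MonoidHom.ker_eq_bot_iff, ← Subgroup.normalCore_eq_ker]
        refine (IsSimpleGroup.eq_bot_or_eq_top_of_normal F.normalCore inferInstance).resolve_right
          fun e => hFne (top_le_iff.mp (e ▸ F.normalCore_le))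
      have hle := Nat.card_le_card_of_injective _ hinj
      rw [card_hs, Nat.card_perm, ← Subgroup.index_eq_card] at hle
      have : F.index ≤ 4 := by
        have h4 : F.index * 23 ≤ 100 := hidx' ▸ Nat.mul_le_mul_left _ h23
        omega
      have := Nat.factorial_le this
      norm_num [Nat.factorial] at this
      omega
    refine MulEquiv.ext fun n => ?_
    exact (htop ▸ Subgroup.mem_top n : n ∈ F)

theorem aut_hs_cases (φ : MulAut hs) : ∃ c, φ = MulAut.conj c ∨ φ = tau * MulAut.conj c := by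
  have := finite_Co0
  have hMc : Nat.card mh.range = 443520 := by
    rw [← Nat.card_congr (MonoidHom.ofInjective mh_injective).toEquiv, card_M22]
  obtain ⟨x, hx, hfix⟩ := exists_fixed_hs (H := mh.range.map φ.toMonoidHom)
    (by rw [Subgroup.card_map_of_injective φ.injective, hMc])
  obtain ⟨g', hg', hgx⟩ := transitive100 hx
  let g : hs := ⟨g', hg'⟩
  let φ' : MulAut hs := MulAut.conj g⁻¹ * φ
  have hmem : ∀ σ, φ' (mh σ) ∈ mh.range := fun σ => by
    rw [range_mh, MulAction.mem_stabilizer_iff]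
    show (g⁻¹ * φ (mh σ) * g⁻¹⁻¹) • pU = pU
    have e1 : φ (mh σ) • x = x := hfix _ ⟨mh σ, ⟨σ, rfl⟩, rfl⟩
    rw [inv_inv, mul_smul, mul_smul, show g • pU = x from hgx, e1, inv_smul_eq_iff]
    exact hgx.symm
  let a0 : Spor.M22 →* Spor.M22 := (MonoidHom.ofInjective mh_injective).symm.toMonoidHom.comp
    ((φ'.toMonoidHom.comp mh).codRestrict mh.range hmem)
  have ha0 : ∀ σ, mh (a0 σ) = φ' (mh σ) := fun σ => by
    rw [← MonoidHom.ofInjective_apply (hf := mh_injective)]
    simp [a0]
  have hbij : Function.Bijective a0 := by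
    rw [Finite.injective_iff_bijective.symm]
    exact fun a b hab => mh_injective (φ'.injective (by rw [← ha0, ← ha0, hab]))
  obtain ⟨c, hc⟩ := aut_M22_cases (MulEquiv.ofBijective a0 hbij)
  have key : ∀ B : MulAut hs, (∀ σ, B (mh σ) = φ' (mh σ)) → φ = MulAut.conj g * B := by
    intro B hB
    have h1 := eq_one_of_fix (B⁻¹ * φ') fun σ => by
      rw [MulAut.mul_apply, ← hB, MulAut.inv_apply_self]
    rw [inv_mul_eq_one] at h1
    rw [h1]
    simp only [φ', map_inv, mul_inv_cancel_left]
  rcases hc with hc | hc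
  · refine ⟨g * mh c, Or.inl ?_⟩
    rw [key (MulAut.conj (mh c)) fun σ => ?_, map_mul]
    rw [← ha0, show a0 σ = MulAut.conj c σ from DFunLike.congr_fun hc σ]
    simp [MulAut.conj_apply]
  · refine ⟨tau⁻¹ g * mh c, Or.inr ?_⟩
    rw [key (tau * MulAut.conj (mh c)) fun σ => ?_]
    · ext1 n
      simp [MulAut.mul_apply, MulAut.conj_apply, mul_assoc]
    · rw [← ha0, show a0 σ = (outer22 * MulAut.conj c) σ from DFunLike.congr_fun hc σ,
        MulAut.mul_apply, MulAut.mul_apply, ← tau_mh]
      simp [MulAut.conj_apply]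

theorem tau_not_inner (c : hs) : tau ≠ MulAut.conj c := by
  intro h
  have hcU : c • pU = pU := by
    have hfix : ∀ g ∈ m22G, g • ((c⁻¹ : hs) • pU) = (c⁻¹ : hs) • pU := by
      rintro _ ⟨σ, rfl⟩
      show mh σ • c⁻¹ • pU = c⁻¹ • pU
      have h1 : (c * mh σ * c⁻¹) • pU = pU := by
        have := DFunLike.congr_fun h (mh σ)
        rw [tau_mh, MulAut.conj_apply] at this
        rw [← this]
        exact m22G_fix_tv 4 4 0 pU rfl _ ⟨_, rfl⟩
      rw [mul_smul, mul_smul, ← eq_inv_smul_iff] at h1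
      exact h1
    have hy := set100_inv (c⁻¹).2 pU_mem100
    have e := eq_tv_of_fixed hfix
    set y := ((c⁻¹ : hs) : Co0) • pU with hydef
    have he : ((c⁻¹ : hs) • pU) = y := rfl
    rw [he] at e
    obtain ⟨h1, h2, h3⟩ := mem_set100.mp hy
    generalize y.1 none = a at e
    generalize y.1 (some 0) = b at e
    generalize y.1 (some 1) = d at e
    rw [e, sqNorm_tv] at h1
    rw [e, show pV.1 = tv 5 1 1 from rfl, dot_tv] at h2
    rw [e, show pY.1 = tv (-1) (-5) (-1) from rfl, dot_tv] at h3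
    obtain ⟨-, -⟩ := abs_le_five (a := a) (by nlinarith)
    obtain ⟨hd1, hd2⟩ := abs_le_one (c := d) (by nlinarith)
    have hab : b = a := by linarith
    subst hab
    have : b = 4 ∧ d = 0 := by interval_cases d <;> constructor <;> omega
    obtain ⟨rfl, rfl⟩ := this
    have : (c⁻¹ : hs) • pU = pU := Subtype.ext e
    rwa [inv_smul_eq_iff, eq_comm] at this
  obtain ⟨ν, rfl⟩ : c ∈ mh.range := range_mh ▸ hcU
  refine outer22_not_inner ν (MulEquiv.ext fun σ => mh_injective ?_)
  rw [← tau_mh, h]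
  simp [MulAut.conj_apply]

theorem card_out_hs : Nat.card (Out hs) = 2 :=
  card_out_eq_two tau tau_not_inner aut_hs_cases

theorem mem_spor_hs {g : Equiv.Perm leechLattice} (hg : g ∈ Co0) :
    g ∈ Spor.HS ↔ (⟨g, hg⟩ : Co0) ∈ hs := by
  have e1 : Spor.leechV = -pV := Subtype.ext (by
    show Spor.vecV = -tv 5 1 1
    decide +kernel)
  have e2 : Spor.leechU' = -pX := Subtype.ext (by
    show Spor.vecU' = -tv (-4) 4 0
    decide +kernel)
  simp only [Spor.HS, Spor.Co3, Subgroup.mem_inf, MulAction.mem_stabilizer_iff, e1, e2, mem_hs]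
  show (g ∈ Co0 ∧ (⟨g, hg⟩ : Co0) • (-pV) = -pV) ∧ (⟨g, hg⟩ : Co0) • (-pX) = -pX ↔ _
  rw [co0_neg, co0_neg, neg_inj, neg_inj]
  simp [hg]

/-- The group is the one of the prelude. -/
def sporEquiv : hs ≃* Spor.HS where
  toFun g := ⟨g.1.1, (mem_spor_hs g.1.2).mpr g.2⟩
  invFun g := ⟨⟨g.1, g.2.1.1⟩, (mem_spor_hs g.2.1.1).mp g.2⟩
  left_inv _ := rfl
  right_inv _ := rfl
  map_mul' _ _ := rfl

theorem card_out_congr {G H : Type*} [Group G] [Group H] (e : G ≃* H) :
    Nat.card (Out G) = Nat.card (Out H) := by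
  let E : MulAut G ≃* MulAut H := MulAut.congr e
  have hE : (Inn G).map E.toMonoidHom = Inn H := by
    ext φ
    constructor
    · rintro ⟨_, ⟨g, rfl⟩, rfl⟩
      exact ⟨e g, MulEquiv.ext fun x => by simp [E, MulAut.congr]⟩
    · rintro ⟨h, rfl⟩
      exact ⟨_, ⟨e.symm h, rfl⟩, MulEquiv.ext fun x => by simp [E, MulAut.congr]⟩
  rw [← Subgroup.index_eq_card, ← Subgroup.index_eq_card, ← hE]
  exact (Subgroup.index_map_of_bijective E.bijective _).symm

end Cfsg.Agent.Leech
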