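import Cfsg.Agent.Leech.SimpleMcL
import Cfsg.Agent.Leech.Orbit275

/-!
Simplicity of the stabiliser of a vector of squared length 48.
-/

set_option autoImplicit false

namespace Cfsg.Agent.Leech

open Cfsg Cfsg.Agent.Golay

theorem co3_index : (MulAction.stabilizer co3 pU).index = 552 :=
  (index_stab (K := co3) (x := pU) (S := set552 pV)
    (fun g hg => co3_smul_552 hg ⟨sqNorm_configs.1, dot_configs.1⟩)
    (fun y hy => by
      obtain ⟨g, hg, hgy⟩ := transitive552 hy
      exact ⟨g, hg, hgy⟩)).trans count552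

/-- The pair vector `4e∞ + 4e_j`, by position. -/
def pairVec (j : ℕ) : GolayPt → ℤ := posVec 23 4 + posVec j 4

/-- The positions in an octad through the extra point, other than that. -/
def octPos : List ℕ := [0, 12, 14, 16, 17, 18, 22]

/-- The octad vector. -/
def octVec : GolayPt → ℤ := fun p => if (23 :: octPos).contains (ptIdx p) then 2 else 0

/-- The eight vectors of the linear relation. -/
def relVecs : List (GolayPt → ℤ) := octVec :: octPos.map pairVec

theorem rel_checks :
    (relVecs.all fun x => inLeechB x && (dotL x x == 32) && (dotL (tv 5 1 1) x == 24)) = true ∧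
    inLeechB (posVec 23 4 + posVec 12 (-4)) = true ∧
    (((octPos.map fun j => dotL (tv 4 4 0) (pairVec j)).drop 1).all fun d => d == 16) = true ∧
    dotL (tv 4 4 0) octVec = 16 ∧ pairVec 0 = tv 4 4 0 ∧
    (6 : ℤ) • (posVec 23 4 + posVec 12 (-4)) + (4 : ℤ) • octVec + (6 : ℤ) • pairVec 12 =
      (2 : ℤ) • (octPos.map pairVec).sum := by
  decide +kernel

theorem mcl_fixed_552 {y : leechLattice} (hy : ∀ g ∈ m22G, g • y = y) (hm : y ∈ set552 pV) :
    y = pU ∨ y = pW := by
  obtain ⟨h1, h2⟩ := hm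
  have e := eq_tv_of_fixed hy
  generalize y.1 none = a at e
  generalize y.1 (some 0) = b at e
  generalize y.1 (some 1) = c at e
  rw [e, sqNorm_tv] at h1
  rw [e, show pV.1 = tv 5 1 1 from rfl, dot_tv] at h2
  obtain ⟨hc1, hc2⟩ := abs_le_one (c := c) (by nlinarith)
  have hb : b = 24 - 5 * a - 22 * c := by linarith
  subst hb
  obtain ⟨ha1, ha2⟩ := abs_le_five (a := a) (by nlinarith)
  interval_cases c
  · exfalso; interval_cases a <;> norm_num at h1
  · interval_cases a <;> norm_num at h1
    exact Or.inl (Subtype.ext (e.trans (by norm_num [pU])))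
  · interval_cases a <;> norm_num at h1
    exact Or.inr (Subtype.ext (e.trans (by norm_num [pW])))

theorem phi_mem {g : Co0} (hgV : g • pV = pV) (hgU : g • pU = pW) {y : leechLattice}
    (hy : y ∈ set275 pV pU) : pV - g • y ∈ set275 pV pU := by
  obtain ⟨hy1, hy2, hy3⟩ := hy
  have h1 : dotInt pV.1 (g • y).1 = 24 := by
    have h := co0_dotInt g pV y
    rw [hgV] at h; rw [h]; exact hy2
  have h2 : dotInt pV.1 (g • y).1 - dotInt pU.1 (g • y).1 = 16 := by
    have h := co0_dotInt g pU y
    rw [hgU, pW_eq] at h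
    have e : ∀ a b z : GolayPt → ℤ, dotInt (a - b) z = dotInt a z - dotInt b z := fun a b z => by
      simp only [dotInt, Pi.sub_apply, sub_mul, Finset.sum_sub_distrib]
    rw [AddSubgroup.coe_sub, e] at h
    rw [h]; exact hy3
  have e' : ∀ a b z : GolayPt → ℤ, dotInt z (a - b) = dotInt z a - dotInt z b := fun a b z => by
    simp only [dotInt, Pi.sub_apply, mul_sub, Finset.sum_sub_distrib]
  have hVV : dotInt pV.1 pV.1 = 48 := by decide +kernel
  refine ⟨?_, ?_, ?_⟩
  · rw [AddSubgroup.coe_sub, sqNorm_sub_eq, sqNorm_configs.2.1, sqNorm_co0, hy1, h1]; norm_num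
  · rw [AddSubgroup.coe_sub, e', hVV, h1]; norm_num
  · have hUV : dotInt pU.1 pV.1 = 24 := (dotInt_comm' _ _).trans dot_configs.1
    rw [AddSubgroup.coe_sub, e', hUV]; omega

theorem co3_cent (g : co3) (hg : ∀ m ∈ MulAction.stabilizer co3 pU, m * g = g * m) :
    g ∈ MulAction.stabilizer co3 pU := by
  rw [MulAction.mem_stabilizer_iff]
  have hcomm : ∀ m ∈ mcl, ∀ y : leechLattice, m • g.1 • y = g.1 • m • y := by
    intro m hm y
    have h := congrArg (fun z : co3 => (z : Co0) • y)
      (hg ⟨m, hm.1⟩ (MulAction.mem_stabilizer_iff.mpr hm.2))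
    simpa [mul_smul] using h
  have hfix : ∀ m ∈ m22G, m • g.1 • pU = g.1 • pU := fun m hm => by
    rw [hcomm m (m22G_le_mcl hm), (mem_mcl.mp (m22G_le_mcl hm)).2]
  rcases mcl_fixed_552 hfix (co3_smul_552 g.2 ⟨sqNorm_configs.1, dot_configs.1⟩) with h | h
  · exact h
  exfalso
  have hgV : g.1 • pV = pV := mem_co3.mp g.2
  set z := pV - g.1 • pS with hz
  have hzm := phi_mem hgV h pS_mem
  have hzfix : ∀ k ∈ fixConf ([pV, pU] ++ [pS]), k • z = z := by
    intro k hk
    have hkV := mem_fixConf.mp hk pV (by simp)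
    have hkm : k ∈ mcl := mem_mcl.mpr ⟨hkV, mem_fixConf.mp hk pU (by simp)⟩
    rw [hz, co0_sub, hkV, hcomm k hkm, mem_fixConf.mp hk pS (by simp)]
  have hzS : z = pS := by
    rcases suborbits275.2 z hzm with e | ⟨b, hb⟩
    · exact e
    exfalso
    obtain ⟨hcard, htr⟩ := suborbits275.1 b
    obtain ⟨k0, hk0, e0⟩ := htr z ⟨hzm, hb⟩
    have hall : dotClass (set275 pV pU) pS (cond b 16 8) ⊆ {z} := by
      intro y hy
      obtain ⟨k, hk, ek⟩ := htr y hy
      have : k • k0⁻¹ • z = y := by rw [← e0, inv_smul_smul]; exact ek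
      rw [hzfix k0⁻¹ (inv_mem hk0), hzfix k hk] at this
      exact this.symm
    have := Set.ncard_le_ncard hall (Set.finite_singleton z)
    rw [hcard, Set.ncard_singleton] at this
    cases b <;> norm_num at this
  have hpsi : ∀ y ∈ set275 pV pU, g.1 • y + y = pV := by
    intro y hy
    obtain ⟨m, hmV, hmU, rfl⟩ := transitive275 hy
    rw [← hcomm m (mem_mcl.mpr ⟨hmV, hmU⟩), ← co0_add]
    have : g.1 • pS + pS = pV := by
      rw [hz] at hzS
      rw [eq_comm, ← sub_eq_iff_eq_add']
      exact hzS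
    rw [this, hmV]
  have hpsiU : g.1 • pU + pU = pV := by rw [h, pW_eq, sub_add_cancel]
  let ψ : leechLattice →+ leechLattice :=
    AddMonoidHom.mk' (fun y => g.1 • y + y) fun a b => by rw [co0_add]; abel
  obtain ⟨hc1, hc2, hc3, hc4, hc5, hrel⟩ := rel_checks
  simp only [relVecs, List.all_eq_true, Bool.and_eq_true, beq_iff_eq, List.forall_mem_cons,
    List.forall_mem_map] at hc1
  obtain ⟨⟨⟨ho1, ho2⟩, ho3⟩, hP⟩ := hc1
  set O : leechLattice := ⟨octVec, mem_of_inLeechB ho1⟩ with hO
  have hsq : ∀ x : GolayPt → ℤ, dotL x x = sqNorm x := fun x => by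
    rw [dotL_eq]; exact Finset.sum_congr rfl fun p _ => (sq _).symm
  have hOψ : ψ O = pV := hpsi O ⟨(hsq _).symm.trans ho2, (dotL_eq _ _).symm.trans ho3,
    (dotL_eq _ _).symm.trans hc4⟩
  let P : ℕ → leechLattice := fun j => if hj : j ∈ octPos then
    ⟨pairVec j, mem_of_inLeechB (hP j hj).1.1⟩ else 0
  have hPψ : ∀ j ∈ octPos, ψ (P j) = pV := by
    intro j hj
    simp only [P, dif_pos hj]
    by_cases h0 : j = 0
    · subst h0
      refine Eq.trans ?_ hpsiU
      show ψ _ = ψ pU
      exact congrArg ψ (Subtype.ext hc5)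
    · refine hpsi _ ⟨(hsq _).symm.trans (hP j hj).1.2, (dotL_eq _ _).symm.trans (hP j hj).2, ?_⟩
      have h16 : ∀ j ∈ octPos, j ≠ 0 → dotL (tv 4 4 0) (pairVec j) = 16 := by
        intro i hi hi0
        simp only [octPos, List.map_cons, List.map_nil, List.drop_succ_cons, List.drop_zero,
          List.all_cons, List.all_nil, Bool.and_true, Bool.and_eq_true, beq_iff_eq] at hc3
        simp only [octPos, List.mem_cons, List.not_mem_nil, or_false] at hi
        rcases hi with rfl | rfl | rfl | rfl | rfl | rfl | rfl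
        · exact absurd rfl hi0
        · exact hc3.1
        · exact hc3.2.1
        · exact hc3.2.2.1
        · exact hc3.2.2.2.1
        · exact hc3.2.2.2.2.1
        · exact hc3.2.2.2.2.2
      exact (dotL_eq _ _).symm.trans (h16 j hj h0)
  set w : leechLattice := ⟨_, mem_of_inLeechB hc2⟩ with hw
  have hrelL : (6 : ℤ) • w + (4 : ℤ) • O + (6 : ℤ) • P 12 =
      (2 : ℤ) • (P 0 + (P 12 + (P 14 + (P 16 + (P 17 + (P 18 + (P 22 + 0))))))) := by
    apply Subtype.ext
    simp only [P, dif_pos (show 0 ∈ octPos by decide), dif_pos (show 12 ∈ octPos by decide),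
      dif_pos (show 14 ∈ octPos by decide), dif_pos (show 16 ∈ octPos by decide),
      dif_pos (show 17 ∈ octPos by decide), dif_pos (show 18 ∈ octPos by decide),
      dif_pos (show 22 ∈ octPos by decide), AddSubgroup.coe_add, AddSubgroup.coe_zsmul,
      AddSubgroup.coe_zero, hw, hO]
    exact hrel
  have hψ := congrArg (fun y : leechLattice => (ψ y).1 (some 0)) hrelL
  simp only [map_add, map_zsmul, map_zero, hOψ, hPψ 0 (by decide), hPψ 12 (by decide),
    hPψ 14 (by decide), hPψ 16 (by decide), hPψ 17 (by decide), hPψ 18 (by decide),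
    hPψ 22 (by decide), AddSubgroup.coe_add, AddSubgroup.coe_zsmul, AddSubgroup.coe_zero,
    Pi.add_apply, Pi.smul_apply, Pi.zero_apply, smul_eq_mul] at hψ
  have hV0 : pV.1 (some 0) = 1 := by decide +kernel
  rw [hV0] at hψ
  omega

theorem certs552b : Trees.t552b.gensB ([pV].map fun v => v.1) = true ∧
    Trees.t552b.sizeB (keyOf pU.1) 552 = true ∧
    fixedB Trees.t552b (threeVals 5 1 1) 24 Trees.t552bFixed = true := by
  decide +kernel

theorem isSimpleGroup_co3 : IsSimpleGroup co3 := by
  have := finite_Co0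
  have : Fact (Nat.Prime 5) := ⟨by norm_num⟩
  have e : MulAction.stabilizer co3 pU ≃* mcl := stabEquiv co3 pU
  have : IsSimpleGroup (MulAction.stabilizer co3 pU) :=
    e.isSimpleGroup_congr.mpr isSimpleGroup_mcl
  refine SimpleIndex.isSimpleGroup_of_index (MulAction.stabilizer co3 pU) 5 ?_ ?_ ?_ co3_cent ?_
  · rw [Nat.card_congr e.toEquiv, card_mcl]; norm_num
  · rw [co3_index]; norm_num
  · intro d hd hpp
    rw [co3_index] at hd
    have : ∀ d ∈ (552 : ℕ).divisors, IsPrimePow d → ¬ 5 ∣ d - 1 := by decide +kernel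
    exact this d (Nat.mem_divisors.mpr ⟨hd, by norm_num⟩) hpp
  · intro N hN hM
    exact normal_eq_top_of_cert Trees.t552b [pV] (fun g hg => mem_fixConf.mp hg pV (by simp))
      (n := 552) (by norm_num) count552
      (fun g hg => co3_smul_552 hg ⟨sqNorm_configs.1, dot_configs.1⟩)
      (fun y hy => by
        obtain ⟨g, hg, hgy⟩ := transitive552 hy
        exact ⟨g, hg, hgy⟩)
      certs552b.1 certs552b.2.1
      (fun g hg => by
        obtain ⟨y, hy, hwy⟩ := exists_fixed_of_fixedB certs552b.2.2 g hg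
        exact ⟨y, hy, hwy⟩) N hN hM

end Cfsg.Agent.Leech
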