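import Cfsg.Agent.Leech.OutCo3Data
import Cfsg.Agent.Leech.SimpleCo2
import Cfsg.Agent.Leech.SimpleCo3
import Cfsg.Agent.AutCert.NormalForm
import Cfsg.Agent.Leech.OutHS

/-!
The third Conway group has no outer automorphisms.
-/

set_option autoImplicit false

namespace Cfsg.Agent.Leech.Co3Out

open Cfsg Cfsg.Agent.Golay Cfsg.Agent.SchurCert Cfsg.Agent.AutCert

attribute [local irreducible] keyOf

/-! ### Elements of M23 -/

/-- The element of order 23 in M23. -/
noncomputable def c23 : Spor.M23 := elemAt Spor.M23 m23Gens 0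
/-- The element of order 11 in M23. -/
noncomputable def d23 : Spor.M23 := elemAt Spor.M23 m23Gens 1
/-- The element of M23 normalising the subgroup generated by it. -/
noncomputable def r23 : Spor.M23 := elemAt Spor.M23 m23Gens 2

theorem enc23 : encPerm c23.1 = m23AutCert.c ∧ encPerm d23.1 = m23AutCert.d ∧
    encPerm r23.1 = m23AutCert.e := by
  have henc : ∀ i, encPerm (elemAt Spor.M23 m23Gens i).1 = (m23Gens.map Prod.fst).getD i permOne :=
    enc_elemAt m23Gens_tested.1 m23Gens_mem
  exact ⟨(henc 0).trans (by decide +kernel), (henc 1).trans (by decide +kernel),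
    (henc 2).trans (by decide +kernel)⟩

theorem val23 : (c23 : Equiv.Perm GolayPt) = permOfPair qC ∧
    (d23 : Equiv.Perm GolayPt) = permOfPair qD ∧ (r23 : Equiv.Perm GolayPt) = permOfPair qR := by
  have h : validPair qC = true ∧ validPair qD = true ∧ validPair qR = true ∧
      qC.1 = m23AutCert.c ∧ qD.1 = m23AutCert.d ∧ qR.1 = m23AutCert.e := by decide +kernel
  obtain ⟨v1, v2, v3, e1, e2, e3⟩ := h
  obtain ⟨h1, h2, h3⟩ := enc23
  exact ⟨encPerm_injective (by rw [h1, encPerm_permOfPair v1, e1]),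
    encPerm_injective (by rw [h2, encPerm_permOfPair v2, e2]),
    encPerm_injective (by rw [h3, encPerm_permOfPair v3, e3])⟩

theorem gen23 : Subgroup.closure ({c23, d23, r23} : Set Spor.M23) = ⊤ := by
  have hchk : m23AutCert.genC.check = true ∧ m23AutCert.genC.start = 3 ∧
      m23AutCert.genC.vals.take 3 = [m23AutCert.c, m23AutCert.d, m23AutCert.e] ∧
      m23AutCert.genC.bound = 10200960 := by
    decide +kernel
  obtain ⟨hD, hs, ht, hb⟩ := hchk
  exact closure_eq_top_of_genCert hD hs (by rw [enc23.1, enc23.2.1, enc23.2.2]; exact ht)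
    (m23_card.trans hb.symm)

theorem cent23_c (σ : Spor.M23) (h : σ * c23 = c23 * σ) : ∃ i < 23, σ = c23 ^ i := by
  have hchk : m23AutCert.genC.check = true ∧ m23AutCert.genC.start = 3 ∧
      m23AutCert.genC.vals.take 3 = [m23AutCert.c, m23AutCert.d, m23AutCert.e] ∧
      m23AutCert.genC.bound = 10200960 ∧
      m23AutCert.genC.centOK m23AutCert.c (m23AutCert.centC.map (pw m23AutCert.c)) = true ∧
      m23AutCert.centC.all (fun i => Nat.blt i 23) = true := by
    decide +kernel
  obtain ⟨hD, hs, ht, hb, hcent, hlt⟩ := hchk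
  rw [← enc23.1] at hcent
  have := centOK_sound _ hD (start_mem (c := c23) (d := d23) (e := r23) hs
    (by rw [enc23.1, enc23.2.1, enc23.2.2]; exact ht)) (m23_card.trans hb.symm) hcent σ.2
    (congrArg Subtype.val h)
  obtain ⟨i, hi, hi'⟩ := List.mem_map.1 this
  refine ⟨i, Nat.blt_eq.mp (List.all_eq_true.mp hlt i hi), Subtype.ext (encPerm_injective ?_)⟩
  rw [SubmonoidClass.coe_pow, enc_pow', ← hi']

theorem cent23_d (σ : Spor.M23) (h : σ * d23 = d23 * σ) : ∃ i < 11, σ = d23 ^ i := by
  have hchk : m23AutCert.genD.check = true ∧ m23AutCert.genD.start = 3 ∧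
      m23AutCert.genD.vals.take 3 = [m23AutCert.c, m23AutCert.d, m23AutCert.e] ∧
      m23AutCert.genD.bound = 10200960 ∧
      m23AutCert.genD.centOK m23AutCert.d m23AutCert.centD = true ∧
      (m23AutCert.centD.all fun x => (List.range 11).any fun i => x == pw m23AutCert.d i) = true := by
    decide +kernel
  obtain ⟨hD, hs, ht, hb, hcent, hpw⟩ := hchk
  rw [← enc23.2.1] at hcent
  have := centOK_sound _ hD (start_mem (c := c23) (d := d23) (e := r23) hs
    (by rw [enc23.1, enc23.2.1, enc23.2.2]; exact ht)) (m23_card.trans hb.symm) hcent σ.2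
    (congrArg Subtype.val h)
  simp only [List.all_eq_true, List.any_eq_true, List.mem_range, beq_iff_eq] at hpw
  obtain ⟨i, hi, hi'⟩ := hpw _ this
  refine ⟨i, hi, Subtype.ext (encPerm_injective ?_)⟩
  rw [SubmonoidClass.coe_pow, enc_pow', hi', enc23.2.1]

theorem m23_relations :
    permMul m23AutCert.d m23AutCert.c = permMul (pw m23AutCert.c 2) m23AutCert.d ∧
    (∀ k < 23, k = 0 ∨ ∃ k₀ ∈ ([1, 5] : List ℕ), ∃ i < 11,
      permMul (pw m23AutCert.d i) (pw m23AutCert.c k) =
        permMul (pw m23AutCert.c k₀) (pw m23AutCert.d i)) ∧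
    (∀ i < 23, ∃ j < 23, permMul (pw m23AutCert.c j) (permMul m23AutCert.d (pw m23AutCert.c i)) =
      permMul m23AutCert.d (pw m23AutCert.c j)) ∧
    pw m23AutCert.c 23 = permOne ∧ m23AutCert.c ≠ permOne := by
  decide +kernel

theorem opEl_perm_m23 {q : ℕ × ℕ} (h : opOK (.perm q) = true) (σ : Spor.M23)
    (e : (σ : Equiv.Perm GolayPt) = permOfPair q) : opEl (.perm q) = m23Hom σ := by
  refine Subtype.ext (Equiv.ext fun x => Subtype.ext (funext fun p => ?_))
  show (opEl (.perm q) • x).1 p = (m23Hom σ • x).1 p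
  rw [opEl_smul h]
  simp only [opOK, Bool.and_eq_true] at h
  show x.1 (codeFun q.2 p) = x.1 ((σ : Equiv.Perm GolayPt)⁻¹ p)
  refine congrArg x.1 (Equiv.Perm.inv_eq_iff_eq.mpr ?_).symm
  rw [e, permOfPair_apply h.1, (validPair_inv h.1 p).2]

theorem m23Hom_none (σ : Spor.M23) : (σ : Equiv.Perm GolayPt) none = none ∧
    m23Hom σ • pV = pV ∧ m23Hom σ • crossL none = crossL none := by
  have h := (mem_M23' σ.2).2
  refine ⟨h, Subtype.ext (funext fun p => ?_), Subtype.ext (funext fun p => ?_)⟩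
  · show tv 5 1 1 ((σ : Equiv.Perm GolayPt)⁻¹ p) = tv 5 1 1 p
    rw [tv_apply, tv_apply]
    simp only [Equiv.Perm.inv_eq_iff_eq, h]
    split_ifs <;> rfl
  · show cross none ((σ : Equiv.Perm GolayPt)⁻¹ p) = cross none p
    simp only [cross, Equiv.Perm.inv_eq_iff_eq, h]

/-! ### The three generators -/

theorem ops_ok : opsC.all opOK = true ∧ opsD.all opOK = true ∧ opsR.all opOK = true ∧
    opsZ.all opOK = true := by
  have h := ok_all
  simp only [List.all_append, Bool.and_eq_true] at h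
  exact ⟨h.1.1.1, h.1.1.2, h.1.2, h.2⟩

theorem opsEl_one_op (o : LOp) : opsEl [o] = opEl o := one_mul _

theorem hom_ops : m23Hom c23 = opsEl opsC ∧ m23Hom d23 = opsEl opsD ∧
    m23Hom r23 = opsEl opsR := by
  obtain ⟨o1, o2, o3, -⟩ := ops_ok
  simp only [opsC, opsD, opsR, List.all_cons, List.all_nil, Bool.and_true] at o1 o2 o3
  obtain ⟨h1, h2, h3⟩ := val23
  exact ⟨((opsEl_one_op _).trans (opEl_perm_m23 o1 _ h1)).symm,
    ((opsEl_one_op _).trans (opEl_perm_m23 o2 _ h2)).symm,
    ((opsEl_one_op _).trans (opEl_perm_m23 o3 _ h3)).symm⟩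

/-- The homomorphism from M23 into the group. -/
def cm : Spor.M23 →* co3 := m23Hom.codRestrict co3 fun σ => mem_co3.mpr (m23Hom_none σ).2.1

theorem cm_coe (σ : Spor.M23) : (cm σ : Co0) = m23Hom σ := rfl

theorem cm_injective : Function.Injective cm := fun _ _ h =>
  m23Hom_injective (congrArg Subtype.val h)

/-- The element of order 23. -/
noncomputable def gc : co3 := cm c23
/-- The element of order 11. -/
noncomputable def gd : co3 := cm d23
/-- The element of M23. -/
noncomputable def gr : co3 := cm r23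
/-- The involution centralising the second generator. -/
noncomputable def gz : co3 := ⟨opsEl opsZ, mem_co3.mpr (opsEl_fix ops_ok.2.2.2 fix_z)⟩
/-- The third generator. -/
noncomputable def ge : co3 := gr * gz

theorem hasMat_gc : HasMat (gc : Co0) matC := by
  rw [gc, cm_coe, hom_ops.1]; exact hasMat_ops ops_ok.1 rows_ok.1

theorem hasMat_gd : HasMat (gd : Co0) matD := by
  rw [gd, cm_coe, hom_ops.2.1]; exact hasMat_ops ops_ok.2.1 rows_ok.2.1

theorem hasMat_gr : HasMat (gr : Co0) matR := by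
  rw [gr, cm_coe, hom_ops.2.2]; exact hasMat_ops ops_ok.2.2.1 rows_ok.2.2.1

theorem hasMat_gz : HasMat (gz : Co0) matZ := hasMat_ops ops_ok.2.2.2 rows_ok.2.2.2

theorem hasMat_ge : HasMat (ge : Co0) matE := by
  have hlen : matE.length = 24 := by decide +kernel
  have hA : Acts (ge : Co0) (appI matR ∘ appI matZ) := by
    rw [ge, Subgroup.coe_mul]
    exact hasMat_gr.acts.mul hasMat_gz.acts
  refine ⟨hlen, fun i hi => ?_⟩
  have h1 : sqNorm (crossL (ptOf i)).1 ≤ 1000000 := by
    rw [show (crossL (ptOf i)).1 = cross (ptOf i) from rfl, sqNorm_cross]; norm_num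
  rw [hA _ h1]
  have h := List.all_eq_true.mp matE_eq i (List.mem_range.mpr hi)
  rw [beq_iff_eq] at h
  rw [show (crossL (ptOf i)).1 = cross (ptOf i) from rfl, ← h]
  have hd : ∀ i < 24, appI matE (encI (cross (ptOf i))) = matE.getD i 0 := by decide +kernel
  exact (hd i hi).symm

theorem rel_dc : gd * gc = gc ^ 2 * gd := by
  rw [gc, gd, ← map_pow, ← map_mul, ← map_mul]
  refine congrArg cm (Subtype.ext (encPerm_injective ?_))
  rw [Subgroup.coe_mul, Subgroup.coe_mul, SubmonoidClass.coe_pow, encPerm_mul, encPerm_mul,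
    enc_pow', enc23.1, enc23.2.1]
  exact m23_relations.1

theorem rel_ed : ge * gd = gd ^ 3 * ge := by
  refine Subtype.ext ?_
  simp only [Subgroup.coe_mul, Subgroup.coe_pow]
  exact (hasMat_ge.acts.mul hasMat_gd.acts).eq ((hasMat_gd.acts_pow 3).mul hasMat_ge.acts) rel_e

theorem rel_zd : gz * gd = gd * gz := by
  refine Subtype.ext ?_
  simp only [Subgroup.coe_mul]
  exact (hasMat_gz.acts.mul hasMat_gd.acts).eq (hasMat_gd.acts.mul hasMat_gz.acts) rel_z

/-! ### Centralisers -/

theorem exists_cm_of_fix {g : co3} (h : (g : Co0) • crossL none = crossL none) :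
    ∃ σ, g = cm σ := by
  obtain ⟨σ, hσ, s, hs, hg, hn, -⟩ := exists_monomial_of_fix g h
  have hfix : (monomial hσ hs • pV).1 = pV.1 := by rw [← hg, mem_co3.mp g.2]
  rw [monomial_smul] at hfix
  have hempty : ∀ p, p ∉ s := by
    intro p hp
    have := congrFun hfix p
    simp only [flipOn, if_pos hp, Function.comp_apply, show pV.1 = tv 5 1 1 from rfl,
      tv_apply] at this
    split_ifs at this <;> omega
  have hn' : σ⁻¹ none = none := Equiv.Perm.inv_eq_iff_eq.mpr hn.symm
  have hσ' : σ⁻¹ ∈ M24 := inv_mem hσ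
  refine ⟨⟨σ⁻¹, ⟨hσ', hn'⟩⟩, Subtype.ext ?_⟩
  rw [cm_coe, hg]
  refine Subtype.ext (Equiv.ext fun x => Subtype.ext (funext fun p => ?_))
  show flipOn s (x.1 ∘ σ) p = x.1 ((σ⁻¹)⁻¹ p)
  rw [inv_inv, flipOn, if_neg (hempty p)]
  rfl

/-- A fixed vector is constant on the orbits. -/
theorem eq_vecOrb {q : ℕ} {os : List (List ℕ)} (hos : orbsB q os = true) {x : GolayPt → ℤ}
    (hinv : ∀ p, x (codeFun q p) = x p) :
    x = vecOrb os (os.map fun o => x (ptOf (o.getD 0 0))) ∧
    ∀ g : ℕ → ℤ → ℤ, ((List.range 24).map fun i => g i (x (ptOf i))).sum =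
      (os.map fun o => (o.map fun i => g i (x (ptOf (o.getD 0 0)))).sum).sum := by
  simp only [orbsB, Bool.and_eq_true, decide_eq_true_eq, List.all_eq_true, Bool.not_eq_true',
    List.mem_range] at hos
  obtain ⟨hperm, hcyc⟩ := hos
  have hlt : ∀ o ∈ os, ∀ i ∈ o, i < 24 := fun o ho i hi =>
    List.mem_range.mp (hperm.mem_iff.mp (List.mem_flatten.mpr ⟨o, ho, hi⟩))
  set f : List ℕ → ℤ := fun o => x (ptOf (o.getD 0 0)) with hf
  have hconst : ∀ o ∈ os, ∀ i ∈ o, x (ptOf i) = f o := by
    intro o ho i hi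
    obtain ⟨k, hk, rfl⟩ := List.getElem_of_mem hi
    induction k with
    | zero => rw [hf]; simp only; rw [List.getD_eq_getElem _ _ hk]
    | succ k ih =>
      have h' := Nat.eq_of_beq_eq_true ((hcyc o ho).2 k (by omega))
      rw [List.getD_eq_getElem _ _ hk, List.getD_eq_getElem _ _ (by omega : k < o.length)] at h'
      rw [← ih (by omega) (List.getElem_mem _), ← hinv (ptOf o[k]), codeFun,
        ptIdx_ptOf _ (hlt o ho _ (List.getElem_mem _)), h']
  refine ⟨funext fun p => (vecOrb_of_const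
    (List.mem_flatten.mp (hperm.mem_iff.mpr (List.mem_range.mpr (ptIdx_lt p)))) hconst).symm,
    fun g => ?_⟩
  rw [← (hperm.map _).sum_eq, List.map_flatten, List.sum_flatten, List.map_map]
  refine congrArg List.sum (List.map_congr_left fun o ho => ?_)
  exact congrArg List.sum (List.map_congr_left fun i hi => by rw [hconst o ho i hi])

theorem fixed_cross {q : ℕ × ℕ} {σ : Spor.M23} (hv : validPair q = true)
    (hσ : (σ : Equiv.Perm GolayPt) = permOfPair q) {g : co3} (hg : g * cm σ = cm σ * g) (p : GolayPt) :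
    ((g : Co0) • crossL none).1 (codeFun q.1 p) = ((g : Co0) • crossL none).1 p := by
  have hfix : m23Hom σ • ((g : Co0) • crossL none) = (g : Co0) • crossL none := by
    have e := congrArg (fun z : co3 => (z : Co0) • crossL none) hg
    simp only [Subgroup.coe_mul, cm_coe, mul_smul] at e
    rw [← e, (m23Hom_none σ).2.2]
  have := congrArg (fun v : leechLattice => v.1 (codeFun q.1 p)) hfix
  change ((g : Co0) • crossL none).1 ((σ : Equiv.Perm GolayPt)⁻¹ (codeFun q.1 p)) = _ at this
  rw [hσ, show (permOfPair q)⁻¹ (codeFun q.1 p) = p from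
    Equiv.Perm.inv_eq_iff_eq.mpr (permOfPair_apply hv p).symm] at this
  exact this.symm

theorem cross_sums (g : co3) :
    sqNorm ((g : Co0) • crossL none).1 = 64 ∧
      dotInt pV.1 ((g : Co0) • crossL none).1 = 40 := by
  refine ⟨(g : Co0).2.2 _ |>.trans ?_, ?_⟩
  · exact sqNorm_cross none
  · have h := co0_dotInt (g : Co0) pV (crossL none)
    rw [mem_co3.mp g.2] at h
    rw [h]
    decide +kernel

theorem cent_c (g : co3) (hg : g * gc = gc * g) : ∃ i < 23, g = gc ^ i := by
  have hv : validPair qC = true := by decide +kernel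
  set y := ((g : Co0) • crossL none).1 with hy
  obtain ⟨e, key⟩ := eq_vecOrb orbs_ok.1 (fixed_cross hv val23.1 hg)
  obtain ⟨h64, h40⟩ := cross_sums g
  rw [sqNorm, sum_ptOf, key fun _ v => v ^ 2] at h64
  rw [dotInt, sum_ptOf, key fun i v => pV.1 (ptOf i) * v] at h40
  rw [← hy] at h64 h40 e
  simp only [orbsC, List.map_cons, List.map_nil, List.getD_cons_zero, List.sum_cons, List.sum_nil,
    show pV.1 = tv 5 1 1 from rfl, tv_apply] at h64 h40 e
  generalize y (ptOf 23) = a at h64 h40 e
  generalize y (ptOf 0) = b at h64 h40 e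
  norm_num [ptOf] at h64 h40
  simp +decide at h40
  have ha1 : -8 ≤ a := by nlinarith
  have ha2 : a ≤ 8 := by nlinarith
  have hb1 : -2 ≤ b := by nlinarith
  have hb2 : b ≤ 2 := by nlinarith
  have hp := pairC_ok
  simp only [pairC, List.all_eq_true, List.mem_range] at hp
  have hp' := hp (a + 8).toNat (by omega) (b + 2).toNat (by omega)
  rw [Int.toNat_of_nonneg (by omega), Int.toNat_of_nonneg (by omega), add_sub_cancel_right,
    add_sub_cancel_right] at hp'
  simp only [Bool.or_eq_true, Bool.not_eq_true', Bool.and_eq_false_iff, beq_eq_false_iff_ne,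
    Bool.and_eq_true, beq_iff_eq] at hp'
  obtain ⟨ha, hb⟩ : a = 8 ∧ b = 0 := by
    rcases hp' with (h | h) | h
    · exact absurd (by linarith) h
    · exact absurd (by linarith) h
    · exact h
  subst ha hb
  have hx : vecOrb orbsC [8, 0] = cross none := by decide +kernel
  simp only [orbsC] at hx
  obtain ⟨σ, rfl⟩ := exists_cm_of_fix (g := g) (Subtype.ext (e.trans hx))
  have hcomm : σ * c23 = c23 * σ := cm_injective (by rw [map_mul, map_mul]; exact hg)
  obtain ⟨i, hi, rfl⟩ := cent23_c σ hcomm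
  exact ⟨i, hi, map_pow _ _ _⟩

theorem cent_d (g : co3) (hg : g * gd = gd * g) :
    ∃ a < 2, ∃ b < 11, g = gz ^ a * gd ^ b := by
  have hv : validPair qD = true := by decide +kernel
  set y := ((g : Co0) • crossL none).1 with hy
  obtain ⟨e, key⟩ := eq_vecOrb orbs_ok.2 (fixed_cross hv val23.2.1 hg)
  obtain ⟨h64, h40⟩ := cross_sums g
  rw [sqNorm, sum_ptOf, key fun _ v => v ^ 2] at h64
  rw [dotInt, sum_ptOf, key fun i v => pV.1 (ptOf i) * v] at h40
  rw [← hy] at h64 h40 e
  have hdiv : ∀ d ∈ keyBasis, dotL d y % 8 = 0 := fun d hd =>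
    Int.emod_eq_zero_of_dvd (eight_dvd_dotL hd ((g : Co0) • crossL none).2)
  simp only [orbsD, List.map_cons, List.map_nil, List.getD_cons_zero, List.sum_cons, List.sum_nil,
    show pV.1 = tv 5 1 1 from rfl, tv_apply] at h64 h40 e
  generalize y (ptOf 23) = a at h64 h40 e
  generalize y (ptOf 0) = b at h64 h40 e
  generalize y (ptOf 1) = v at h64 h40 e
  generalize y (ptOf 4) = w at h64 h40 e
  norm_num [ptOf] at h64 h40
  simp +decide at h40
  have ha1 : -8 ≤ a := by nlinarith
  have ha2 : a ≤ 8 := by nlinarith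
  have hb1 : -8 ≤ b := by nlinarith
  have hb2 : b ≤ 8 := by nlinarith
  have hv1 : -2 ≤ v := by nlinarith
  have hv2 : v ≤ 2 := by nlinarith
  have hw1 : -2 ≤ w := by nlinarith
  have hw2 : w ≤ 2 := by nlinarith
  have hq := quadD_ok
  simp only [quadD, List.all_eq_true, List.mem_range] at hq
  have hq' := hq (v + 2).toNat (by omega) (w + 2).toNat (by omega) (a + 8).toNat (by omega)
    (b + 8).toNat (by omega)
  simp only [Int.toNat_of_nonneg (show 0 ≤ a + 8 by omega),
    Int.toNat_of_nonneg (show 0 ≤ b + 8 by omega), Int.toNat_of_nonneg (show 0 ≤ v + 2 by omega),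
    Int.toNat_of_nonneg (show 0 ≤ w + 2 by omega), add_sub_cancel_right] at hq'
  have he : y = vecOrb orbsD [a, b, v, w] := e
  simp only [Bool.or_eq_true, Bool.not_eq_true', Bool.and_eq_false_iff, beq_eq_false_iff_ne,
    List.any_eq_true] at hq'
  rcases hq' with ((h | h) | h) | ⟨z, hz, hzy⟩
  · exact absurd (by linarith) h
  · exact absurd (by linarith) h
  · rw [← he] at h
    have : (keyBasis.all fun d => dotL d y % 8 == 0) = true :=
      List.all_eq_true.mpr fun d hd => beq_iff_eq.mpr (hdiv d hd)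
    rw [this] at h
    exact absurd h (by simp)
  · rw [← he] at hzy
    have hyz : y = z := eq_of_eqB hzy
    obtain ⟨i, hi, rfl⟩ := List.getElem_of_mem hz
    have hi2 : i < 2 := hi
    have hza : ((gz ^ i : co3) : Co0) • crossL none = (g : Co0) • crossL none := by
      have h64' : sqNorm (crossL none).1 ≤ 1000000 := by
        rw [show (crossL none).1 = cross none from rfl, sqNorm_cross]; norm_num
      refine Subtype.ext (encI_inj (sqNorm_cross_smul _ _) (sqNorm_cross_smul _ _) ?_)
      rw [Subgroup.coe_pow, hasMat_gz.pow_apply _ h64', ← hy, hyz]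
      interval_cases i
      · rfl
      · exact z_cross.symm
    obtain ⟨σ, hσ⟩ := exists_cm_of_fix (g := (gz ^ i)⁻¹ * g) (by
      rw [Subgroup.coe_mul, Subgroup.coe_inv, mul_smul, ← hza, inv_smul_smul])
    have hcomm : σ * d23 = d23 * σ := cm_injective (by
      rw [map_mul, map_mul, ← hσ]
      show (gz ^ i)⁻¹ * g * gd = gd * ((gz ^ i)⁻¹ * g)
      have hza' : Commute (gz ^ i)⁻¹ gd := ((show Commute gz gd from rel_zd).pow_left i).inv_left
      rw [mul_assoc, hg, ← mul_assoc, hza'.eq, mul_assoc])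
    obtain ⟨b', hb', rfl⟩ := cent23_d σ hcomm
    refine ⟨i, hi2, b', hb', ?_⟩
    rw [map_pow] at hσ
    rw [show gd = cm d23 from rfl, ← hσ, mul_inv_cancel_left]

/-! ### Generation -/

theorem opsEl_steps' : ∀ (w : List ℕ), opsEl (w.map LOp.step) = wordAut w := by
  intro w
  refine co0_ext fun j => Subtype.ext ?_
  rw [opsEl_smul (by simp [opOK]), wordAut_smul]
  generalize (crossL j).1 = x
  induction w generalizing x with
  | nil => rfl
  | cons i w ih => simp only [List.map_cons, opsVec, opVec, wordApp2]; exact ih _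

theorem perm_mem_m23 {q : ℕ × ℕ} (hv : validPair q = true) (ho : opOK (.perm q) = true)
    (hr : PreservesRows (codeFun q.1) ∧ codeFun q.1 none = none) :
    opEl (.perm q) ∈ m23Hom.range :=
  ⟨⟨permOfPair q, ⟨permOfPair_mem_M24 hv hr.1,
    MulAction.mem_stabilizer_iff.2 ((permOfPair_apply hv _).trans hr.2)⟩⟩,
    (opEl_perm_m23 ho _ rfl).symm⟩

theorem mem_of_decomp {K : Subgroup Co0} (hM : m23Hom.range ≤ K) (hz : (gz : Co0) ∈ K)
    {w : List ℕ} {q1 q2 q3 : ℕ × ℕ}
    (hq : ∀ q ∈ [q1, q2, q3], validPair q = true ∧ opOK (.perm q) = true ∧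
      PreservesRows (codeFun q.1) ∧ codeFun q.1 none = none)
    (h : sameI (appI (rowsOf (w.map LOp.step)))
      (appI (rowsOf [.perm q1]) ∘ (appI matZ ∘ (appI (rowsOf [.perm q2]) ∘
        (appI matZ ∘ appI (rowsOf [.perm q3]))))) = true) : wordAut w ∈ K := by
  have hw : (w.map LOp.step).all opOK = true := by simp [opOK]
  have ho : ∀ q ∈ [q1, q2, q3], Acts (opEl (.perm q)) (appI (rowsOf [.perm q])) ∧
      opEl (.perm q) ∈ K := fun q hmem => by
    obtain ⟨v, o, r⟩ := hq q hmem
    refine ⟨?_, hM (perm_mem_m23 v o r)⟩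
    have := (hasMat_ops (l := [.perm q]) (by simp [o]) rfl).acts
    rwa [opsEl_one_op] at this
  obtain ⟨a1, m1⟩ := ho q1 (by simp)
  obtain ⟨a2, m2⟩ := ho q2 (by simp)
  obtain ⟨a3, m3⟩ := ho q3 (by simp)
  have e := (hasMat_ops hw rfl).acts.eq
    (a1.mul (hasMat_gz.acts.mul (a2.mul (hasMat_gz.acts.mul a3)))) h
  rw [opsEl_steps'] at e
  rw [e]
  exact mul_mem m1 (mul_mem hz (mul_mem m2 (mul_mem hz m3)))

theorem closure_gens : Subgroup.closure ({gc, gd, ge} : Set co3) = ⊤ := by
  have := finite_Co0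
  set S := Subgroup.closure ({gc, gd, ge} : Set co3) with hS
  have hc : gc ∈ S := Subgroup.subset_closure (by simp)
  have hd : gd ∈ S := Subgroup.subset_closure (by simp)
  have he : ge ∈ S := Subgroup.subset_closure (by simp)
  have hr : gr ∈ S := by
    have e : ge ^ 6 = gr := Subtype.ext (by
      rw [Subgroup.coe_pow]; exact (hasMat_ge.acts_pow 6).eq hasMat_gr.acts pow_e.1)
    exact e ▸ pow_mem he 6
  have hz : gz ∈ S := by
    have e : ge ^ 5 = gz := Subtype.ext (by
      rw [Subgroup.coe_pow]; exact (hasMat_ge.acts_pow 5).eq hasMat_gz.acts pow_e.2)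
    exact e ▸ pow_mem he 5
  let K : Subgroup Co0 := S.map co3.subtype
  have hM : m23Hom.range ≤ K := by
    rintro _ ⟨σ, rfl⟩
    have hle : Subgroup.closure ({c23, d23, r23} : Set Spor.M23) ≤ S.comap cm := by
      rw [Subgroup.closure_le]
      rintro x (rfl | rfl | rfl)
      exacts [hc, hd, hr]
    exact ⟨cm σ, hle (gen23 ▸ Subgroup.mem_top σ), rfl⟩
  have hKle : K ≤ co3 := Subgroup.map_subtype_le S
  have hzK : (gz : Co0) ∈ K := ⟨gz, hz, rfl⟩
  obtain ⟨hf1, hf2, hx1, hx2, hx3, hx4⟩ := gens_fix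
  have hqB : ∀ q ∈ [qB1, qB2, qB3], validPair q = true ∧ opOK (.perm q) = true ∧
      PreservesRows (codeFun q.1) ∧ codeFun q.1 none = none :=
    fun q hq => qP_checks q (by simp at hq ⊢; tauto)
  have hqM : ∀ q ∈ [qM1, qM2, qM3], validPair q = true ∧ opOK (.perm q) = true ∧
      PreservesRows (codeFun q.1) ∧ codeFun q.1 none = none :=
    fun q hq => qP_checks q (by simp at hq ⊢; tauto)
  have hin : ∀ g : Co0, g • pV = pV → g • crossL none = crossL none → g ∈ K := by
    intro g h1 h2
    obtain ⟨σ, hσ⟩ := exists_cm_of_fix (g := ⟨g, mem_co3.mpr h1⟩) h2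
    exact hM ⟨σ, (congrArg Subtype.val hσ).symm⟩
  have hfix552 := le_stabilizer_of_gensB (conf := [pV]) (C := Trees.t552b) certs552b.1
  have hfix2025 := le_stabilizer_of_gensB certs2025.1
  have hgens552 : ∀ g ∈ Trees.t552b.gens, wordAut g.1 ∈ K := by
    intro g hg
    have hmem : g.1 ∈ [[154], [168], stepsT] := hf1 ▸ List.mem_map_of_mem hg
    simp only [List.mem_cons, List.not_mem_nil, or_false] at hmem
    rcases hmem with h | h | h
    · exact hin _ (hfix552 g hg pV (by simp))
        (h ▸ MulAction.mem_stabilizer_iff.mp (wordAut_mem_stabilizer (x := crossL none) hx1))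
    · exact hin _ (hfix552 g hg pV (by simp))
        (h ▸ MulAction.mem_stabilizer_iff.mp (wordAut_mem_stabilizer (x := crossL none) hx2))
    · rw [h]; exact mem_of_decomp hM hzK hqB decomp_T
  have hgens2025 : ∀ g ∈ Trees.t2025.gens, wordAut g.1 ∈ K ⊓ MulAction.stabilizer Co0 pU := by
    intro g hg
    refine ⟨?_, MulAction.mem_stabilizer_iff.mpr (hfix2025 g hg pU (by simp))⟩
    have hmem : g.1 ∈ [[156], [162], stepsM] := hf2 ▸ List.mem_map_of_mem hg
    simp only [List.mem_cons, List.not_mem_nil, or_false] at hmem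
    rcases hmem with h | h | h
    · exact hin _ (hfix2025 g hg pV (by simp))
        (h ▸ MulAction.mem_stabilizer_iff.mp (wordAut_mem_stabilizer (x := crossL none) hx3))
    · exact hin _ (hfix2025 g hg pV (by simp))
        (h ▸ MulAction.mem_stabilizer_iff.mp (wordAut_mem_stabilizer (x := crossL none) hx4))
    · rw [h]; exact mem_of_decomp hM hzK hqM decomp_M
  set L := K ⊓ MulAction.stabilizer Co0 pU with hL
  have horb : 2025 ≤ {x | ∃ g ∈ L, g • pZ = x}.ncard :=
    le_ncard_orbit Trees.t2025 hgens2025 (fun g hg => by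
      have := List.all_eq_true.mp certs2025.1 g hg
      rw [Bool.and_eq_true] at this
      exact this.1) certs2025.2.1
  have hM22 : m22G ≤ L ⊓ MulAction.stabilizer Co0 pZ := by
    intro g hg
    refine ⟨⟨hin g (mem_mcl.mp (m22G_le_mcl hg)).1 ?_, (mem_mcl.mp (m22G_le_mcl hg)).2⟩,
      m22G_fix_tv 4 (-4) 0 pZ rfl g hg⟩
    exact m22G_fix_tv 8 0 0 (crossL none) (by decide +kernel) g hg
  have hst : 443520 ≤ Nat.card ↥(L ⊓ MulAction.stabilizer Co0 pZ) := by
    rw [← card_m22G]
    exact Nat.le_of_dvd Nat.card_pos (Subgroup.card_dvd_of_le hM22)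
  have hLcard : 898128000 ≤ Nat.card L := by
    rw [← card_mul_stab (K := L) (x := pZ) (S := {x | ∃ g ∈ L, g • pZ = x})
      (fun g hg => ⟨g, hg, rfl⟩) (fun y hy => hy)]
    exact le_trans (by norm_num) (Nat.mul_le_mul horb hst)
  have horb' : 552 ≤ {x | ∃ g ∈ K, g • pU = x}.ncard :=
    le_ncard_orbit Trees.t552b hgens552 (fun g hg => by
      have := List.all_eq_true.mp certs552b.1 g hg
      rw [Bool.and_eq_true] at this
      exact this.1) certs552b.2.1
  have hcard : Nat.card co3 ≤ Nat.card K := by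
    rw [card_co3, ← card_mul_stab (K := K) (x := pU) (S := {x | ∃ g ∈ K, g • pU = x})
      (fun g hg => ⟨g, hg, rfl⟩) (fun y hy => hy)]
    exact le_trans (by norm_num) (Nat.mul_le_mul horb' hLcard)
  have hKS : Nat.card K = Nat.card S :=
    Subgroup.card_map_of_injective (Subgroup.subtype_injective _)
  exact Subgroup.eq_top_of_le_card S (hKS ▸ hcard)

/-! ### The automorphisms -/

theorem orderOf_gc : orderOf gc = 23 := by
  have : Fact (Nat.Prime 23) := ⟨by norm_num⟩
  rw [gc, orderOf_injective cm cm_injective]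
  refine orderOf_eq_prime (Subtype.ext (encPerm_injective ?_)) fun h => ?_
  · rw [SubmonoidClass.coe_pow, enc_pow', enc23.1, OneMemClass.coe_one, encPerm_one]
    exact m23_relations.2.2.2.1
  · refine m23_relations.2.2.2.2 ?_
    rw [← enc23.1, h, OneMemClass.coe_one, encPerm_one]

theorem rel_one {w : List ℕ}
    (h : sameI id (wordI (appI matC) (appI matD) (appI matE) w) = true) :
    word3 gc gd ge w = 1 := by
  refine Subtype.ext ?_
  rw [show ((word3 gc gd ge w : co3) : Co0) = word3 (gc : Co0) gd ge w from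
    map_word3 co3.subtype gc gd ge w, OneMemClass.coe_one]
  refine (Acts.eq (a := id) (fun x _ => ?_)
    (acts_word hasMat_gc.acts hasMat_gd.acts hasMat_ge.acts w) h).symm
  rw [one_smul]; rfl

theorem aut_inner (φ : MulAut co3) : ∃ a, φ = MulAut.conj a := by
  have := finite_Co0
  have : Fact (Nat.Prime 23) := ⟨by norm_num⟩
  have emul : ∀ a b : Spor.M23, encPerm (a * b).1 = permMul (encPerm a.1) (encPerm b.1) :=
    fun a b => encPerm_mul a.1 b.1
  have epow : ∀ (a : Spor.M23) (k : ℕ), encPerm (a ^ k).1 = pw (encPerm a.1) k := fun a k => by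
    rw [SubmonoidClass.coe_pow, enc_pow']
  obtain ⟨-, hreps, hshift, -, -⟩ := m23_relations
  obtain ⟨a, k, hk, z, ⟨i, hi, j, hj, rfl⟩, ψ, hφ, h1, h2, h3⟩ :=
    exists_normal_form 23 (by rw [card_co3]; norm_num) ([1, 5] : List ℕ)
      (fun z : co3 => ∃ i < 2, ∃ j < 11, z = gz ^ i * gd ^ j) orderOf_gc rel_dc rel_ed cent_c cent_d
      (fun k hk => (hreps k hk).imp_right fun ⟨k₀, h0, i, _, hi⟩ => ⟨k₀, h0, i, by
        rw [gc, gd, ← map_pow, ← map_pow, ← map_pow, ← map_mul, ← map_mul]
        refine congrArg cm (Subtype.ext (encPerm_injective ?_))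
        rw [emul, emul, epow, epow, epow, enc23.1, enc23.2.1, hi]⟩)
      (by decide)
      (fun i hi => by
        obtain ⟨j, -, hj⟩ := hshift i hi
        refine ⟨j, ?_⟩
        rw [gc, gd, ← map_pow, ← map_pow, ← map_mul, ← map_mul, ← map_mul]
        refine congrArg cm (Subtype.ext (encPerm_injective ?_))
        rw [emul, emul, emul, epow, epow, enc23.1, enc23.2.1, hj])
      φ
  refine ⟨a, ?_⟩
  have hw := List.all_eq_true.mp (List.all_eq_true.mp (List.all_eq_true.mp words_move k hk) i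
    (List.mem_range.mpr hi)) j (List.mem_range.mpr hj)
  rw [Bool.or_eq_true, Bool.or_eq_true] at hw
  rcases hw with hs | hm
  · simp only [Bool.and_eq_true] at hs
    obtain ⟨⟨hk1, hi0⟩, hj0⟩ := hs
    have hk1' := Nat.eq_of_beq_eq_true hk1
    have hi0' := Nat.eq_of_beq_eq_true hi0
    have hj0' := Nat.eq_of_beq_eq_true hj0
    subst hk1' hi0' hj0'
    rw [hφ, eq_of_three closure_gens (φ := ψ) (ψ := 1) (by rw [h1, pow_one]; rfl) h2
      (by rw [h3, pow_zero, pow_zero, one_mul, mul_one]; rfl), mul_one]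
  · exfalso
    have main : ∀ w, word3 gc gd ge w = 1 →
        movesI (wordI (powI matC k) (appI matD) (actCand i j) w) = true → False := by
      intro w hw hm
      have hrel := word3_of_map ψ hw
      rw [h1, h2, h3] at hrel
      have hA := acts_word (hasMat_gc.acts_pow k) hasMat_gd.acts
        (hasMat_ge.acts.mul ((hasMat_gz.acts_pow i).mul (hasMat_gd.acts_pow j))) w
      refine hA.ne_one hm ?_
      have := congrArg (fun z : co3 => (z : Co0)) hrel
      rw [show ((word3 (gc ^ k) gd (ge * (gz ^ i * gd ^ j)) w : co3) : Co0) = _ from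
        map_word3 co3.subtype _ _ _ w] at this
      simpa using this
    rcases hm with hm | hm
    · exact main _ (rel_one words_one.1) hm
    · exact main _ (rel_one words_one.2) hm

theorem card_out_co3 : Nat.card (Cfsg.Out co3) = 1 := Golay.card_out_eq_one aut_inner

theorem mem_spor_co3 {g : Equiv.Perm leechLattice} (hg : g ∈ Co0) :
    g ∈ Spor.Co3 ↔ (⟨g, hg⟩ : Co0) ∈ co3 := by
  have e1 : Spor.leechV = -pV := by rw [pV_eq, neg_neg]
  simp only [Spor.Co3, Subgroup.mem_inf, MulAction.mem_stabilizer_iff, e1, mem_co3]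
  show g ∈ Co0 ∧ (⟨g, hg⟩ : Co0) • (-pV) = -pV ↔ _
  rw [co0_neg, neg_inj]
  simp [hg]

/-- The group is the one of the prelude. -/
def sporEquiv : co3 ≃* Spor.Co3 where
  toFun g := ⟨g.1.1, (mem_spor_co3 g.1.2).mpr g.2⟩
  invFun g := ⟨⟨g.1, g.2.1⟩, (mem_spor_co3 g.2.1).mp g.2⟩
  left_inv _ := rfl
  right_inv _ := rfl
  map_mul' _ _ := rfl

end Cfsg.Agent.Leech.Co3Out
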