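import Cfsg.Agent.Leech.OutMcLData
import Cfsg.Agent.AutCert.NormalForm
import Cfsg.Agent.Leech.OutHS

/-!
The McLaughlin group has outer automorphism group of order 2.
-/

set_option autoImplicit false

namespace Cfsg.Agent.Leech.McLOut

open Cfsg Cfsg.Agent.Golay Cfsg.Agent.SchurCert Cfsg.Agent.AutCert

attribute [local irreducible] keyOf

/-! ### Elements of M22 -/

/-- The element of order 11 in M22. -/
noncomputable def c22 : Spor.M22 := elemAt Spor.M22 m22Gens 0
/-- The element of order 5 in M22. -/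
noncomputable def d22 : Spor.M22 := elemAt Spor.M22 m22Gens 1
/-- The element of M22 squaring it. -/
noncomputable def r22 : Spor.M22 := elemAt Spor.M22 m22Gens 2

theorem enc22 : encPerm c22.1 = m22AutCert.c ∧ encPerm d22.1 = m22AutCert.d ∧
    encPerm r22.1 = m22AutCert.e := by
  have henc : ∀ i, encPerm (elemAt Spor.M22 m22Gens i).1 = (m22Gens.map Prod.fst).getD i permOne :=
    enc_elemAt m22Gens_tested.1 m22Gens_mem
  exact ⟨(henc 0).trans (by decide +kernel), (henc 1).trans (by decide +kernel),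
    (henc 2).trans (by decide +kernel)⟩

theorem val22 : (c22 : Equiv.Perm GolayPt) = permOfPair qC ∧
    (d22 : Equiv.Perm GolayPt) = permOfPair qD ∧ (r22 : Equiv.Perm GolayPt) = permOfPair qR := by
  have h : validPair qC = true ∧ validPair qD = true ∧ validPair qR = true ∧
      qC.1 = m22AutCert.c ∧ qD.1 = m22AutCert.d ∧ qR.1 = m22AutCert.e := by decide +kernel
  obtain ⟨v1, v2, v3, e1, e2, e3⟩ := h
  obtain ⟨h1, h2, h3⟩ := enc22
  exact ⟨encPerm_injective (by rw [h1, encPerm_permOfPair v1, e1]),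
    encPerm_injective (by rw [h2, encPerm_permOfPair v2, e2]),
    encPerm_injective (by rw [h3, encPerm_permOfPair v3, e3])⟩

theorem gen22 : Subgroup.closure ({c22, d22, r22} : Set Spor.M22) = ⊤ := by
  have hchk : m22AutCert.genC.check = true ∧ m22AutCert.genC.start = 3 ∧
      m22AutCert.genC.vals.take 3 = [m22AutCert.c, m22AutCert.d, m22AutCert.e] ∧
      m22AutCert.genC.bound = 443520 := by
    decide +kernel
  obtain ⟨hD, hs, ht, hb⟩ := hchk
  exact closure_eq_top_of_genCert hD hs (by rw [enc22.1, enc22.2.1, enc22.2.2]; exact ht)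
    (m22_card.trans hb.symm)

theorem cent22_c (σ : Spor.M22) (h : σ * c22 = c22 * σ) : ∃ i < 11, σ = c22 ^ i := by
  have hchk : m22AutCert.genC.check = true ∧ m22AutCert.genC.start = 3 ∧
      m22AutCert.genC.vals.take 3 = [m22AutCert.c, m22AutCert.d, m22AutCert.e] ∧
      m22AutCert.genC.bound = 443520 ∧
      m22AutCert.genC.centOK m22AutCert.c (m22AutCert.centC.map (pw m22AutCert.c)) = true ∧
      m22AutCert.centC.all (fun i => Nat.blt i 11) = true := by
    decide +kernel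
  obtain ⟨hD, hs, ht, hb, hcent, hlt⟩ := hchk
  rw [← enc22.1] at hcent
  have := centOK_sound _ hD (start_mem (c := c22) (d := d22) (e := r22) hs
    (by rw [enc22.1, enc22.2.1, enc22.2.2]; exact ht)) (m22_card.trans hb.symm) hcent σ.2
    (congrArg Subtype.val h)
  obtain ⟨i, hi, hi'⟩ := List.mem_map.1 this
  refine ⟨i, Nat.blt_eq.mp (List.all_eq_true.mp hlt i hi), Subtype.ext (encPerm_injective ?_)⟩
  rw [SubmonoidClass.coe_pow, enc_pow', ← hi']

theorem cent22_d (σ : Spor.M22) (h : σ * d22 = d22 * σ) : ∃ i < 5, σ = d22 ^ i := by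
  have hchk : m22AutCert.genD.check = true ∧ m22AutCert.genD.start = 3 ∧
      m22AutCert.genD.vals.take 3 = [m22AutCert.c, m22AutCert.d, m22AutCert.e] ∧
      m22AutCert.genD.bound = 443520 ∧
      m22AutCert.genD.centOK m22AutCert.d m22AutCert.centD = true ∧
      (m22AutCert.centD.all fun x => (List.range 5).any fun i => x == pw m22AutCert.d i) = true := by
    decide +kernel
  obtain ⟨hD, hs, ht, hb, hcent, hpw⟩ := hchk
  rw [← enc22.2.1] at hcent
  have := centOK_sound _ hD (start_mem (c := c22) (d := d22) (e := r22) hs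
    (by rw [enc22.1, enc22.2.1, enc22.2.2]; exact ht)) (m22_card.trans hb.symm) hcent σ.2
    (congrArg Subtype.val h)
  simp only [List.all_eq_true, List.any_eq_true, List.mem_range, beq_iff_eq] at hpw
  obtain ⟨i, hi, hi'⟩ := hpw _ this
  refine ⟨i, hi, Subtype.ext (encPerm_injective ?_)⟩
  rw [SubmonoidClass.coe_pow, enc_pow', hi', enc22.2.1]

theorem m22_relations :
    permMul m22AutCert.d m22AutCert.c = permMul (pw m22AutCert.c 3) m22AutCert.d ∧
    (∀ k < 11, k = 0 ∨ ∃ k₀ ∈ ([1, 10] : List ℕ), ∃ i < 5,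
      permMul (pw m22AutCert.d i) (pw m22AutCert.c k) =
        permMul (pw m22AutCert.c k₀) (pw m22AutCert.d i)) ∧
    (∀ i < 11, ∃ j < 11, permMul (pw m22AutCert.c j) (permMul m22AutCert.d (pw m22AutCert.c i)) =
      permMul m22AutCert.d (pw m22AutCert.c j)) ∧
    pw m22AutCert.c 11 = permOne ∧ m22AutCert.c ≠ permOne := by
  decide +kernel

/-! ### The three generators -/

theorem ops_ok : opsC.all opOK = true ∧ opsD.all opOK = true ∧ opsR.all opOK = true ∧
    opsE.all opOK = true := by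
  have h := ok_all
  simp only [List.all_append, Bool.and_eq_true] at h
  exact ⟨h.1.1.1, h.1.1.2, h.1.2, h.2⟩

theorem opsEl_single (o : LOp) : opsEl [o] = opEl o := one_mul _

theorem hom_ops : m22Hom c22 = opsEl opsC ∧ m22Hom d22 = opsEl opsD ∧
    m22Hom r22 = opsEl opsR := by
  obtain ⟨o1, o2, o3, -⟩ := ops_ok
  simp only [opsC, opsD, opsR, List.all_cons, List.all_nil, Bool.and_true] at o1 o2 o3
  obtain ⟨h1, h2, h3⟩ := val22
  exact ⟨((opsEl_single _).trans (opEl_perm_eq o1 _ h1)).symm,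
    ((opsEl_single _).trans (opEl_perm_eq o2 _ h2)).symm,
    ((opsEl_single _).trans (opEl_perm_eq o3 _ h3)).symm⟩

/-- The homomorphism from M22 into the group. -/
def mm : Spor.M22 →* mcl := m22Hom.codRestrict mcl fun σ => m22G_le_mcl ⟨σ, rfl⟩

theorem mm_coe (σ : Spor.M22) : (mm σ : Co0) = m22Hom σ := rfl

theorem mm_injective : Function.Injective mm := fun _ _ h =>
  m22Hom_injective (congrArg Subtype.val h)

/-- The element of order 11. -/
noncomputable def gc : mcl := mm c22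
/-- The element of order 5. -/
noncomputable def gd : mcl := mm d22
/-- The element of M22. -/
noncomputable def gr : mcl := mm r22
/-- The third generator. -/
noncomputable def ge : mcl :=
  ⟨opsEl opsE, mem_mcl.mpr ⟨opsEl_fix ops_ok.2.2.2 fix_e.1, opsEl_fix ops_ok.2.2.2 fix_e.2⟩⟩
/-- An element centralising the second generator. -/
noncomputable def gz : mcl := gr ^ 3 * ge

theorem acts_gens : Acts (gc : Co0) (appI matC) ∧ Acts (gd : Co0) (appI matD) ∧
    Acts (gr : Co0) (appI matR) ∧ Acts (ge : Co0) (appI matE) := by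
  obtain ⟨o1, o2, o3, o4⟩ := ops_ok
  obtain ⟨r1, r2, r3, r4⟩ := rows_ok
  refine ⟨?_, ?_, ?_, (hasMat_ops o4 r4).acts⟩
  · rw [gc, mm_coe, hom_ops.1]; exact (hasMat_ops o1 r1).acts
  · rw [gd, mm_coe, hom_ops.2.1]; exact (hasMat_ops o2 r2).acts
  · rw [gr, mm_coe, hom_ops.2.2]; exact (hasMat_ops o3 r3).acts

theorem hasMat_gd : HasMat (gd : Co0) matD := by
  rw [gd, mm_coe, hom_ops.2.1]; exact hasMat_ops ops_ok.2.1 rows_ok.2.1

theorem hasMat_gc : HasMat (gc : Co0) matC := by
  rw [gc, mm_coe, hom_ops.1]; exact hasMat_ops ops_ok.1 rows_ok.1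

theorem hasMat_gr : HasMat (gr : Co0) matR := by
  rw [gr, mm_coe, hom_ops.2.2]; exact hasMat_ops ops_ok.2.2.1 rows_ok.2.2.1

theorem hasMat_gz : HasMat (gz : Co0) matZ := by
  have hlen : matZ.length = 24 := by decide +kernel
  have hA : Acts (gz : Co0) (powI matR 3 ∘ appI matE) := by
    rw [gz, Subgroup.coe_mul, Subgroup.coe_pow]
    exact (hasMat_gr.acts_pow 3).mul acts_gens.2.2.2
  refine ⟨hlen, fun i hi => ?_⟩
  have h1 : sqNorm (crossL (ptOf i)).1 ≤ 1000000 := by
    rw [show (crossL (ptOf i)).1 = cross (ptOf i) from rfl, sqNorm_cross]; norm_num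
  rw [hA _ h1]
  have h := List.all_eq_true.mp matZ_eq i (List.mem_range.mpr hi)
  rw [beq_iff_eq] at h
  rw [show (crossL (ptOf i)).1 = cross (ptOf i) from rfl, ← h]
  have hd : ∀ i < 24, appI matZ (encI (cross (ptOf i))) = matZ.getD i 0 := by decide +kernel
  exact (hd i hi).symm

theorem rel_dc : gd * gc = gc ^ 3 * gd := by
  rw [gc, gd, ← map_pow, ← map_mul, ← map_mul]
  congr 1
  refine Subtype.ext (encPerm_injective ?_)
  rw [Subgroup.coe_mul, Subgroup.coe_mul, SubmonoidClass.coe_pow, encPerm_mul, encPerm_mul,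
    enc_pow', enc22.1, enc22.2.1]
  exact m22_relations.1

theorem rel_ed : ge * gd = gd ^ 2 * ge := by
  refine Subtype.ext ?_
  simp only [Subgroup.coe_mul, Subgroup.coe_pow]
  exact (acts_gens.2.2.2.mul acts_gens.2.1).eq ((hasMat_gd.acts_pow 2).mul acts_gens.2.2.2) rel_e

/-! ### Generation -/

theorem opsEl_steps : ∀ (w : List ℕ), opsEl (w.map LOp.step) = wordAut w := by
  intro w
  refine co0_ext fun j => Subtype.ext ?_
  rw [opsEl_smul (by simp [opOK]), wordAut_smul]
  generalize (crossL j).1 = x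
  induction w generalizing x with
  | nil => rfl
  | cons i w ih => simp only [List.map_cons, opsVec, opVec, wordApp2]; exact ih _

theorem perm_mem_m22G (q : ℕ × ℕ) (hv : validPair q = true) (ho : opOK (.perm q) = true)
    (hr : PreservesRows (codeFun q.1) ∧ codeFun q.1 none = none ∧
      codeFun q.1 (some 0) = some 0) : opEl (.perm q) ∈ m22G := by
  refine ⟨⟨permOfPair q, mem_M22_iff.mpr ⟨permOfPair_mem_M24 hv hr.1,
    (permOfPair_apply hv _).trans hr.2.1, (permOfPair_apply hv _).trans hr.2.2⟩⟩, ?_⟩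
  exact (opEl_perm_eq ho _ rfl).symm

theorem qP_checks : ∀ q ∈ [qP1, qP2], validPair q = true ∧ opOK (.perm q) = true ∧
    PreservesRows (codeFun q.1) ∧ codeFun q.1 none = none ∧ codeFun q.1 (some 0) = some 0 := by
  decide +kernel

theorem closure_gens : Subgroup.closure ({gc, gd, ge} : Set mcl) = ⊤ := by
  have := finite_Co0
  set S := Subgroup.closure ({gc, gd, ge} : Set mcl) with hS
  have hc : gc ∈ S := Subgroup.subset_closure (by simp)
  have hd : gd ∈ S := Subgroup.subset_closure (by simp)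
  have he : ge ∈ S := Subgroup.subset_closure (by simp)
  have hr : gr ∈ S := by
    have e : gr = word3 gc gd ge wordR := by
      refine Subtype.ext ?_
      rw [show ((word3 gc gd ge wordR : mcl) : Co0) = word3 (gc : Co0) gd ge wordR from
        map_word3 mcl.subtype gc gd ge wordR]
      exact acts_gens.2.2.1.eq
        (acts_word acts_gens.1 acts_gens.2.1 acts_gens.2.2.2 wordR) wordR_eval
    rw [e]
    exact word3_mem hc hd he _
  let K : Subgroup Co0 := S.map mcl.subtype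
  have hM : m22G ≤ K := by
    rintro _ ⟨σ, rfl⟩
    have hle : Subgroup.closure ({c22, d22, r22} : Set Spor.M22) ≤ S.comap mm := by
      rw [Subgroup.closure_le]
      rintro x (rfl | rfl | rfl)
      exacts [hc, hd, hr]
    exact ⟨mm σ, hle (gen22 ▸ Subgroup.mem_top σ), rfl⟩
  have hKle : K ≤ mcl := Subgroup.map_subtype_le S
  have hT : wordAut stepsT ∈ K := by
    have e : (ge : Co0) = opEl (.perm qP1) * (wordAut stepsT * opEl (.perm qP2)) := by
      show opsEl opsE = _
      rw [opsE, opsEl_append, opsEl_append, opsEl_single, opsEl_single, opsEl_steps]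
    obtain ⟨⟨v1, o1, r1⟩, ⟨v2, o2, r2⟩⟩ :=
      And.intro (qP_checks qP1 (by simp)) (qP_checks qP2 (by simp))
    have h1 := hM (perm_mem_m22G qP1 v1 o1 r1)
    have h2 := hM (perm_mem_m22G qP2 v2 o2 r2)
    have he' : (ge : Co0) ∈ K := ⟨ge, he, rfl⟩
    rw [e] at he'
    have := mul_mem (mul_mem (inv_mem h1) he') (inv_mem h2)
    simpa [mul_assoc] using this
  have hgens : ∀ g ∈ Trees.t2025.gens, wordAut g.1 ∈ K := by
    intro g hg
    obtain ⟨hfst, hf1, hf2⟩ := gens_fix
    have hmem : g.1 ∈ [[156], [162], stepsT] := hfst ▸ List.mem_map_of_mem hg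
    have hfix := le_stabilizer_of_gensB certs2025.1 g hg
    have hin : ∀ w, g.1 = w → fixesB w pZ.1 = true → wordAut g.1 ∈ K := by
      intro w hw hfw
      refine hM (mcl_inf_pZ ▸ ?_)
      exact ⟨mem_mcl.mpr ⟨hfix pV (by simp), hfix pU (by simp)⟩,
        hw ▸ wordAut_mem_stabilizer hfw⟩
    simp only [List.mem_cons, List.not_mem_nil, or_false] at hmem
    rcases hmem with h | h | h
    · exact hin _ h hf1
    · exact hin _ h hf2
    · rw [h]; exact hT
  have horb : 2025 ≤ {x | ∃ g ∈ K, g • pZ = x}.ncard :=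
    le_ncard_orbit Trees.t2025 hgens (fun g hg => by
      have := List.all_eq_true.mp certs2025.1 g hg
      rw [Bool.and_eq_true] at this
      exact this.1) certs2025.2.1
  have hmul := card_mul_stab (K := K) (x := pZ) (S := {x | ∃ g ∈ K, g • pZ = x})
    (fun g hg => ⟨g, hg, rfl⟩) (fun y hy => hy)
  have hst : 443520 ≤ Nat.card ↥(K ⊓ MulAction.stabilizer Co0 pZ) := by
    rw [← card_m22G]
    refine Nat.le_of_dvd Nat.card_pos (Subgroup.card_dvd_of_le (le_inf hM ?_))
    rw [← mcl_inf_pZ]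
    exact inf_le_right
  have hcard : Nat.card mcl ≤ Nat.card K := by
    rw [card_mcl, ← hmul]
    exact le_trans (by norm_num) (Nat.mul_le_mul horb hst)
  have hKS : Nat.card K = Nat.card S :=
    Subgroup.card_map_of_injective (Subgroup.subtype_injective _)
  exact Subgroup.eq_top_of_le_card S (hKS ▸ hcard)

/-! ### Centralisers -/

theorem fixed_pZ {q : ℕ × ℕ} {σ : Spor.M22} (hv : validPair q = true)
    (hσ : (σ : Equiv.Perm GolayPt) = permOfPair q) {os : List (List ℕ)}
    (hos : orbsB q.1 os = true) {g : mcl} (hg : g * mm σ = mm σ * g) :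
    ((g : Co0) • pZ).1 ∈ fixedCands pU.1 pW.1 os 0 16 := by
  obtain ⟨h1, h2, h3⟩ := set2025_inv g.2 pZ_mem
  refine mem_fixedCands hos (fun p => ?_) h1 _ _ h2 h3
  have hfix : m22Hom σ • ((g : Co0) • pZ) = (g : Co0) • pZ := by
    have e := congrArg (fun z : mcl => (z : Co0) • pZ) hg
    simp only [Subgroup.coe_mul, mm_coe, mul_smul] at e
    rw [← e, m22G_fix_tv 4 (-4) 0 pZ rfl _ ⟨σ, rfl⟩]
  have := congrArg (fun v : leechLattice => v.1 (codeFun q.1 p)) hfix
  rw [m22Hom_smul, hσ, show (permOfPair q)⁻¹ (codeFun q.1 p) = p from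
    Equiv.Perm.inv_eq_iff_eq.mpr (permOfPair_apply hv p).symm] at this
  exact this.symm

theorem exists_mm_of_fix {g : mcl} (h : (g : Co0) • pZ = pZ) : ∃ σ, g = mm σ := by
  obtain ⟨σ, hσ⟩ : (g : Co0) ∈ m22G := mcl_inf_pZ ▸ ⟨g.2, h⟩
  exact ⟨σ, Subtype.ext hσ.symm⟩

theorem cent_c (g : mcl) (hg : g * gc = gc * g) : ∃ i < 11, g = gc ^ i := by
  have hv : validPair qC = true := by decide +kernel
  have h := List.all_eq_true.mp candsC _ (fixed_pZ hv val22.1 orbsC_ok.1 hg)
  obtain ⟨σ, rfl⟩ := exists_mm_of_fix (Subtype.ext (eq_of_eqB h))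
  have hcomm : σ * c22 = c22 * σ := mm_injective (by rw [map_mul, map_mul]; exact hg)
  obtain ⟨i, hi, rfl⟩ := cent22_c σ hcomm
  exact ⟨i, hi, map_pow _ _ _⟩

theorem cent_d (g : mcl) (hg : g * gd = gd * g) :
    ∃ a < 5, ∃ b < 5, g = gz ^ a * gd ^ b := by
  have hv : validPair qD = true := by decide +kernel
  have h := List.all_eq_true.mp candsD _ (fixed_pZ hv val22.2.1 orbsC_ok.2 hg)
  rw [List.any_eq_true] at h
  obtain ⟨y, hy, he⟩ := h
  obtain ⟨a, ha, rfl⟩ := List.getElem_of_mem hy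
  have ha5 : a < 5 := ha
  have hya := List.all_eq_true.mp zpowers_fix a (List.mem_range.mpr ha5)
  rw [beq_iff_eq, List.getD_eq_getElem _ _ ha] at hya
  have hza : ((gz ^ a : mcl) : Co0) • pZ = (g : Co0) • pZ := by
    refine Subtype.ext (encI_inj ?_ ?_ ?_)
    · rw [show sqNorm (((gz ^ a : mcl) : Co0) • pZ).1 = sqNorm pZ.1 from (((gz ^ a : mcl) : Co0)).2.2 _,
        sqNorm_configs.2.2.2.2.2.1]
      norm_num
    · rw [show sqNorm ((g : Co0) • pZ).1 = sqNorm pZ.1 from (g : Co0).2.2 _,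
        sqNorm_configs.2.2.2.2.2.1]
      norm_num
    · rw [Subgroup.coe_pow, hasMat_gz.pow_apply pZ (by rw [sqNorm_configs.2.2.2.2.2.1]; norm_num),
        ← hya, ← eq_of_eqB he]
  have hzd : gz * gd = gd * gz := by
    refine Subtype.ext ?_
    simp only [Subgroup.coe_mul]
    exact (hasMat_gz.acts.mul acts_gens.2.1).eq (acts_gens.2.1.mul hasMat_gz.acts)
      (by decide +kernel)
  obtain ⟨σ, hσ⟩ := exists_mm_of_fix (g := (gz ^ a)⁻¹ * g) (by
    rw [Subgroup.coe_mul, Subgroup.coe_inv, mul_smul, ← hza, inv_smul_smul])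
  have hcomm : σ * d22 = d22 * σ := mm_injective (by
    rw [map_mul, map_mul, ← hσ]
    show (gz ^ a)⁻¹ * g * gd = gd * ((gz ^ a)⁻¹ * g)
    have hza' : Commute (gz ^ a)⁻¹ gd := ((show Commute gz gd from hzd).pow_left a).inv_left
    rw [mul_assoc, hg, ← mul_assoc, hza'.eq, mul_assoc])
  obtain ⟨b, hb, rfl⟩ := cent22_d σ hcomm
  refine ⟨a, ha5, b, hb, ?_⟩
  rw [map_pow] at hσ
  rw [show gd = mm d22 from rfl, ← hσ, mul_inv_cancel_left]

/-! ### The automorphisms -/

theorem orderOf_gc : orderOf gc = 11 := by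
  have : Fact (Nat.Prime 11) := ⟨by norm_num⟩
  rw [gc, orderOf_injective mm mm_injective]
  refine orderOf_eq_prime (Subtype.ext (encPerm_injective ?_)) fun h => ?_
  · rw [SubmonoidClass.coe_pow, enc_pow', enc22.1, OneMemClass.coe_one, encPerm_one]
    exact m22_relations.2.2.2.1
  · refine m22_relations.2.2.2.2 ?_
    rw [← enc22.1, h, OneMemClass.coe_one, encPerm_one]

theorem rel_one : word3 gc gd ge wordU = 1 := by
  refine Subtype.ext ?_
  rw [show ((word3 gc gd ge wordU : mcl) : Co0) = word3 (gc : Co0) gd ge wordU from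
    map_word3 mcl.subtype gc gd ge wordU, OneMemClass.coe_one]
  refine (Acts.eq (a := id) (fun x _ => ?_)
    (acts_word acts_gens.1 acts_gens.2.1 acts_gens.2.2.2 wordU) wordU_one).symm
  rw [one_smul]; rfl

theorem normal_cases (φ : MulAut mcl) : ∃ a, ∃ ψ : MulAut mcl, φ = MulAut.conj a * ψ ∧
    ((ψ gc = gc ∧ ψ gd = gd ∧ ψ ge = ge) ∨
      (ψ gc = gc ^ 1 ∧ ψ gd = gd ∧ ψ ge = ge * gz)) := by
  have := finite_Co0
  have : Fact (Nat.Prime 11) := ⟨by norm_num⟩
  have emul : ∀ a b : Spor.M22, encPerm (a * b).1 = permMul (encPerm a.1) (encPerm b.1) :=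
    fun a b => encPerm_mul a.1 b.1
  have epow : ∀ (a : Spor.M22) (k : ℕ), encPerm (a ^ k).1 = pw (encPerm a.1) k := fun a k => by
    rw [SubmonoidClass.coe_pow, enc_pow']
  obtain ⟨-, hreps, hshift, -, -⟩ := m22_relations
  obtain ⟨a, k, hk, z, ⟨i, hi, j, hj, rfl⟩, ψ, hφ, h1, h2, h3⟩ :=
    exists_normal_form 11 (by rw [card_mcl]; norm_num) ([1, 10] : List ℕ)
      (fun z : mcl => ∃ i < 5, ∃ j < 5, z = gz ^ i * gd ^ j) orderOf_gc rel_dc rel_ed cent_c cent_d
      (fun k hk => (hreps k hk).imp_right fun ⟨k₀, h0, i, _, hi⟩ => ⟨k₀, h0, i, by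
        rw [gc, gd, ← map_pow, ← map_pow, ← map_pow, ← map_mul, ← map_mul]
        refine congrArg mm (Subtype.ext (encPerm_injective ?_))
        rw [emul, emul, epow, epow, epow, enc22.1, enc22.2.1, hi]⟩)
      (by decide)
      (fun i hi => by
        obtain ⟨j, -, hj⟩ := hshift i hi
        refine ⟨j, ?_⟩
        rw [gc, gd, ← map_pow, ← map_pow, ← map_mul, ← map_mul, ← map_mul]
        refine congrArg mm (Subtype.ext (encPerm_injective ?_))
        rw [emul, emul, emul, epow, epow, enc22.1, enc22.2.1, hj])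
      φ
  refine ⟨a, ψ, hφ, ?_⟩
  have hw := List.all_eq_true.mp (List.all_eq_true.mp (List.all_eq_true.mp wordU_moves k hk) i
    (List.mem_range.mpr hi)) j (List.mem_range.mpr hj)
  rw [Bool.or_eq_true] at hw
  rcases hw with hs | hm
  · simp only [Bool.and_eq_true, Nat.ble_eq] at hs
    obtain ⟨⟨hk1, hi1⟩, hj0⟩ := hs
    have hk1' := Nat.eq_of_beq_eq_true hk1
    have hj0' := Nat.eq_of_beq_eq_true hj0
    subst hk1' hj0'
    interval_cases i
    · exact Or.inl ⟨by rw [h1, pow_one], h2, by rw [h3, pow_zero, pow_zero, one_mul, mul_one]⟩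
    · exact Or.inr ⟨h1, h2, by rw [h3, pow_one, pow_zero, mul_one]⟩
  · exfalso
    have hrel := word3_of_map ψ rel_one
    rw [h1, h2, h3] at hrel
    have hA := acts_word (hasMat_gc.acts_pow k) acts_gens.2.1
      (acts_gens.2.2.2.mul ((hasMat_gz.acts_pow i).mul (hasMat_gd.acts_pow j))) wordU
    refine hA.ne_one hm ?_
    have := congrArg (fun z : mcl => (z : Co0)) hrel
    rw [show ((word3 (gc ^ k) gd (ge * (gz ^ i * gd ^ j)) wordU : mcl) : Co0) = _ from
      map_word3 mcl.subtype _ _ _ wordU] at this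
    simpa using this

/-- An element exchanging the two vectors. -/
theorem exists_swap : ∃ g : Co0, g • pV = pV ∧ g • pU = pW ∧ g • pW = pU := by
  have hW : pW ∈ set552 pV := by
    refine ⟨sqNorm_configs.2.2.1, ?_⟩
    decide +kernel
  obtain ⟨g, hV, hU⟩ := transitive552 hW
  exact ⟨g, hV, hU, by rw [pW_eq, co0_sub, hV, hU, pW_eq, sub_sub_cancel]⟩

/-- The exchanging element. -/
noncomputable def swapEl : Co0 := exists_swap.choose

theorem swapEl_spec : swapEl • pV = pV ∧ swapEl • pU = pW ∧ swapEl • pW = pU :=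
  exists_swap.choose_spec

theorem swap_conj {g : Co0} (hg : g ∈ mcl) :
    swapEl * g * swapEl⁻¹ ∈ mcl ∧ swapEl⁻¹ * g * swapEl ∈ mcl := by
  obtain ⟨hV, hU, hW⟩ := swapEl_spec
  obtain ⟨gV, gU⟩ := mem_mcl.mp hg
  have gW := mcl_smul_pW hg
  have iV : swapEl⁻¹ • pV = pV := inv_smul_eq_iff.mpr hV.symm
  have iU : swapEl⁻¹ • pU = pW := inv_smul_eq_iff.mpr hW.symm
  have iW : swapEl⁻¹ • pW = pU := inv_smul_eq_iff.mpr hU.symm
  constructor <;> refine mem_mcl.mpr ⟨?_, ?_⟩
  · rw [mul_smul, mul_smul, iV, gV, hV]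
  · rw [mul_smul, mul_smul, iU, gW, hW]
  · rw [mul_smul, mul_smul, hV, gV, iV]
  · rw [mul_smul, mul_smul, hU, gW, iW]

/-- The outer automorphism. -/
noncomputable def tau : MulAut mcl where
  toFun g := ⟨swapEl * g * swapEl⁻¹, (swap_conj g.2).1⟩
  invFun g := ⟨swapEl⁻¹ * g * swapEl, (swap_conj g.2).2⟩
  left_inv g := Subtype.ext (by simp [mul_assoc])
  right_inv g := Subtype.ext (by simp [mul_assoc])
  map_mul' a b := Subtype.ext (by simp [mul_assoc])

theorem tau_not_inner (a : mcl) : tau ≠ MulAut.conj a := by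
  intro h
  set u : Co0 := (a : Co0)⁻¹ * swapEl with hu
  have hcomm : ∀ g ∈ mcl, u * g = g * u := by
    intro g hg
    have e := congrArg (fun f : MulAut mcl => ((f ⟨g, hg⟩ : mcl) : Co0)) h
    simp only [tau, MulEquiv.coe_mk, Equiv.coe_fn_mk, MulAut.conj_apply, Subgroup.coe_mul,
      Subgroup.coe_inv] at e
    rw [hu]
    calc (a : Co0)⁻¹ * swapEl * g = (a : Co0)⁻¹ * (swapEl * g * swapEl⁻¹) * swapEl := by group
      _ = g * ((a : Co0)⁻¹ * swapEl) := by rw [e]; group
  obtain ⟨hV, hU, hW⟩ := swapEl_spec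
  obtain ⟨aV, aU⟩ := mem_mcl.mp (inv_mem a.2)
  have aW := mcl_smul_pW (inv_mem a.2)
  have uU : u • pU = pW := by rw [hu, mul_smul, hU]; exact aW
  have uW : u • pW = pU := by rw [hu, mul_smul, hW]; exact aU
  have hfix : ∀ g ∈ m22G, g • (u • pZ) = u • pZ := by
    intro g hg
    rw [← mul_smul, ← hcomm g (m22G_le_mcl hg), mul_smul, m22G_fix_tv 4 (-4) 0 pZ rfl g hg]
  obtain ⟨z1, z2, z3⟩ := pZ_mem
  have h1 : sqNorm (u • pZ).1 = 32 := (sqNorm_co0 u pZ).trans z1
  have h2 : dotInt pU.1 (u • pZ).1 = 16 := by rw [← uW, co0_dotInt]; exact z3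
  have h3 : dotInt pW.1 (u • pZ).1 = 0 := by rw [← uU, co0_dotInt]; exact z2
  have e := eq_tv_of_fixed hfix
  generalize (u • pZ).1 none = x at e
  generalize (u • pZ).1 (some 0) = y at e
  generalize (u • pZ).1 (some 1) = z at e
  rw [e, sqNorm_tv] at h1
  rw [e, show pU.1 = tv 4 4 0 from rfl, dot_tv] at h2
  rw [e, show pW.1 = tv 1 (-3) 1 from rfl, dot_tv] at h3
  obtain ⟨hz1, hz2⟩ := abs_le_one (c := z) (by nlinarith)
  obtain ⟨hx1, hx2⟩ : -5 ≤ x ∧ x ≤ 5 := abs_le_five (by nlinarith)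
  have hy : y = 4 - x := by omega
  subst hy
  interval_cases z <;> interval_cases x <;> omega

theorem card_out_mcl : Nat.card (Cfsg.Out mcl) = 2 :=
  haveI := finite_Co0
  Golay.card_out_eq_two tau tau_not_inner
    (exists_conj_or closure_gens tau tau_not_inner normal_cases)

theorem mem_spor_mcl {g : Equiv.Perm leechLattice} (hg : g ∈ Co0) :
    g ∈ Spor.McL ↔ (⟨g, hg⟩ : Co0) ∈ mcl := by
  have e1 : Spor.leechV = -pV := by rw [pV_eq, neg_neg]
  simp only [Spor.McL, Spor.Co3, Subgroup.mem_inf, MulAction.mem_stabilizer_iff, e1, mem_mcl,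
    ← pU_eq]
  show (g ∈ Co0 ∧ (⟨g, hg⟩ : Co0) • (-pV) = -pV) ∧ (⟨g, hg⟩ : Co0) • pU = pU ↔ _
  rw [co0_neg, neg_inj]
  simp [hg]

/-- The group is the one of the prelude. -/
def sporEquiv : mcl ≃* Spor.McL where
  toFun g := ⟨g.1.1, (mem_spor_mcl g.1.2).mpr g.2⟩
  invFun g := ⟨⟨g.1, g.2.1.1⟩, (mem_spor_mcl g.2.1.1).mp g.2⟩
  left_inv _ := rfl
  right_inv _ := rfl
  map_mul' _ _ := rfl

end Cfsg.Agent.Leech.McLOut
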