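import Mathlib

/-!
Certificates for the reduction of short Leech vectors: for each profile of absolute values the
pivots with their code words, the free positions, and words of steps.
-/

namespace Cfsg.Agent.Leech

/-- A profile with its certificate. -/
structure Profile where
  /-- Absolute values by position. -/
  vals : List ℕ
  /-- Pivot positions with code word numbers. -/
  piv : List (ℕ × ℕ)
  /-- The remaining positions of the support. -/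
  free : List ℕ
  /-- Words of steps. -/
  certs : List (List ℕ)

/-- Certificate `a32oct`. -/
def a32oct : Profile :=
  ⟨[2, 2, 2, 2, 0, 2, 0, 0, 0, 0, 0, 0, 0, 0, 2, 0, 0, 2, 0, 0, 0, 0, 0, 2], [(0, 81), (1, 66), (2, 4), (3, 24), (5, 112), (14, 64), (17, 16)], [23], [[1033, 0]]⟩

/-- Certificate `a48oct`. -/
def a48oct : Profile :=
  ⟨[2, 2, 2, 2, 4, 2, 0, 0, 0, 0, 0, 0, 0, 0, 2, 0, 0, 2, 0, 0, 0, 0, 0, 2], [(0, 129), (1, 66), (2, 4), (3, 200), (4, 208), (5, 160), (14, 64), (17, 192)], [23], [[12, 0]]⟩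

/-- Certificate `a48dod`. -/
def a48dod : Profile :=
  ⟨[2, 2, 2, 2, 2, 0, 2, 0, 2, 2, 0, 0, 2, 2, 0, 0, 2, 0, 2, 0, 0, 0, 0, 0], [(0, 1025), (1, 1058), (2, 164), (3, 168), (4, 1072), (6, 64), (8, 1440), (9, 1664), (12, 128), (13, 32), (16, 1152)], [18], [[0]]⟩

/-- Certificate `a64four`. -/
def a64four : Profile :=
  ⟨[4, 4, 4, 0, 0, 0, 0, 0, 0, 0, 0, 0, 0, 0, 0, 0, 0, 0, 0, 0, 0, 0, 0, 4], [(0, 17), (1, 2), (2, 20), (23, 16)], [], [[2300, 0]]⟩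

/-- Certificate `a64six`. -/
def a64six : Profile :=
  ⟨[2, 2, 2, 2, 0, 2, 0, 0, 0, 0, 0, 0, 0, 0, 2, 0, 0, 2, 0, 0, 0, 0, 0, 6], [(0, 81), (1, 66), (2, 4), (3, 24), (5, 112), (14, 64), (17, 16)], [23], [[2447, 0]]⟩

/-- Certificate `a64sixteen`. -/
def a64sixteen : Profile :=
  ⟨[0, 0, 0, 0, 2, 0, 2, 2, 2, 2, 2, 2, 2, 2, 0, 2, 2, 0, 2, 2, 2, 2, 2, 0], [(4, 30), (6, 76), (7, 139), (8, 261), (9, 518), (10, 1037), (11, 2053), (12, 7), (13, 15), (15, 12), (16, 6)], [18, 19, 20, 21, 22], [[895, 0], [158, 3002, 0], [181, 591, 0], [142, 1453, 0], [128, 989, 0], [810, 0], [158, 1282, 0], [1, 0], [142, 3537, 0], [104, 1709, 0], [99, 689, 0], [0], [74, 4223, 0], [1, 0], [0], [181, 0]]⟩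

/-- Certificate `b32`. -/
def b32 : Profile :=
  ⟨[1, 1, 1, 1, 1, 1, 1, 1, 1, 1, 1, 1, 1, 1, 1, 1, 1, 1, 1, 1, 1, 1, 1, 3], [], [], [[706, 0]]⟩

/-- Certificate `b48three`. -/
def b48three : Profile :=
  ⟨[3, 3, 1, 1, 1, 1, 1, 1, 1, 1, 1, 1, 1, 1, 1, 1, 1, 1, 1, 1, 1, 1, 1, 3], [], [], [[0]]⟩

/-- Certificate `b64five`. -/
def b64five : Profile :=
  ⟨[3, 3, 1, 1, 1, 1, 1, 1, 1, 1, 1, 1, 1, 1, 1, 1, 1, 1, 1, 1, 1, 1, 1, 5], [], [], [[1401, 0]]⟩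

/-- Certificate `b64three`. -/
def b64three : Profile :=
  ⟨[3, 3, 3, 3, 1, 1, 1, 1, 1, 1, 1, 1, 1, 1, 1, 1, 1, 1, 1, 1, 1, 1, 1, 3], [], [], [[2345, 0]]⟩

/-- Certificates `a64oct`. -/
def a64oct : List Profile :=
  [⟨[2, 2, 2, 2, 4, 2, 4, 0, 0, 0, 0, 0, 0, 0, 2, 0, 0, 2, 0, 0, 0, 0, 0, 2], [(0, 129), (1, 1026), (2, 4), (3, 1160), (4, 1168), (5, 160), (6, 1088), (14, 1024), (17, 1152)], [23], [[98, 2107, 0]]⟩,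
   ⟨[2, 2, 2, 2, 4, 2, 0, 4, 0, 0, 0, 0, 0, 0, 2, 0, 0, 2, 0, 0, 0, 0, 0, 2], [(0, 513), (1, 66), (2, 4), (3, 584), (4, 592), (5, 544), (7, 640), (14, 64), (17, 576)], [23], [[181, 3936, 0]]⟩,
   ⟨[2, 2, 2, 2, 4, 2, 0, 0, 4, 0, 0, 0, 0, 0, 2, 0, 0, 2, 0, 0, 0, 0, 0, 2], [(0, 129), (1, 66), (2, 4), (3, 200), (4, 208), (5, 160), (8, 256), (14, 64), (17, 192)], [23], [[109, 3376, 0]]⟩,
   ⟨[2, 2, 2, 2, 4, 2, 0, 0, 0, 4, 0, 0, 0, 0, 2, 0, 0, 2, 0, 0, 0, 0, 0, 2], [(0, 129), (1, 66), (2, 4), (3, 200), (4, 208), (5, 160), (9, 640), (14, 64), (17, 192)], [23], [[158, 2037, 0]]⟩,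
   ⟨[2, 2, 2, 2, 4, 2, 0, 0, 0, 0, 4, 0, 0, 0, 2, 0, 0, 2, 0, 0, 0, 0, 0, 2], [(0, 129), (1, 66), (2, 4), (3, 200), (4, 208), (5, 160), (10, 1088), (14, 64), (17, 192)], [23], [[104, 1121, 0]]⟩,
   ⟨[2, 2, 2, 2, 4, 2, 0, 0, 0, 0, 0, 4, 0, 0, 2, 0, 0, 2, 0, 0, 0, 0, 0, 2], [(0, 129), (1, 66), (2, 4), (3, 200), (4, 208), (5, 160), (11, 2240), (14, 64), (17, 192)], [23], [[173, 2449, 0]]⟩,
   ⟨[2, 2, 2, 2, 4, 2, 0, 0, 0, 0, 0, 0, 4, 0, 2, 0, 0, 2, 0, 0, 0, 0, 0, 2], [(0, 129), (1, 706), (2, 644), (3, 200), (4, 208), (5, 544), (12, 640), (14, 64), (17, 576)], [23], [[103, 3680, 0]]⟩,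
   ⟨[2, 2, 2, 2, 4, 2, 0, 0, 0, 0, 0, 0, 0, 4, 2, 0, 0, 2, 0, 0, 0, 0, 0, 2], [(0, 129), (1, 322), (2, 260), (3, 456), (4, 464), (5, 416), (13, 256), (14, 64), (17, 192)], [23], [[2416, 0]]⟩,
   ⟨[2, 2, 2, 2, 4, 2, 0, 0, 0, 0, 0, 0, 0, 0, 2, 4, 0, 2, 0, 0, 0, 0, 0, 2], [(0, 385), (1, 66), (2, 260), (3, 200), (4, 208), (5, 416), (14, 320), (15, 256), (17, 192)], [23], [[185, 4077, 0]]⟩,
   ⟨[2, 2, 2, 2, 4, 2, 0, 0, 0, 0, 0, 0, 0, 0, 2, 0, 4, 2, 0, 0, 0, 0, 0, 2], [(0, 385), (1, 322), (2, 4), (3, 200), (4, 464), (5, 160), (14, 64), (16, 256), (17, 192)], [23], [[1058, 0]]⟩,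
   ⟨[2, 2, 2, 2, 4, 2, 0, 0, 0, 0, 0, 0, 0, 0, 2, 0, 0, 2, 4, 0, 0, 0, 0, 2], [(0, 129), (1, 322), (2, 260), (3, 456), (4, 208), (5, 160), (14, 320), (17, 192), (18, 256)], [23], [[128, 254, 0]]⟩,
   ⟨[2, 2, 2, 2, 4, 2, 0, 0, 0, 0, 0, 0, 0, 0, 2, 0, 0, 2, 0, 4, 0, 0, 0, 2], [(0, 385), (1, 66), (2, 4), (3, 456), (4, 464), (5, 416), (14, 320), (17, 192), (19, 256)], [23], [[91, 2386, 0]]⟩,
   ⟨[2, 2, 2, 2, 4, 2, 0, 0, 0, 0, 0, 0, 0, 0, 2, 0, 0, 2, 0, 0, 4, 0, 0, 2], [(0, 385), (1, 66), (2, 260), (3, 456), (4, 208), (5, 160), (14, 64), (17, 448), (20, 256)], [23], [[47, 1023, 0]]⟩,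
   ⟨[2, 2, 2, 2, 4, 2, 0, 0, 0, 0, 0, 0, 0, 0, 2, 0, 0, 2, 0, 0, 0, 4, 0, 2], [(0, 129), (1, 322), (2, 4), (3, 200), (4, 464), (5, 416), (14, 320), (17, 448), (21, 256)], [23], [[23, 3724, 0]]⟩,
   ⟨[2, 2, 2, 2, 4, 2, 0, 0, 0, 0, 0, 0, 0, 0, 2, 0, 0, 2, 0, 0, 0, 0, 4, 2], [(0, 513), (1, 66), (2, 644), (3, 200), (4, 592), (5, 160), (14, 704), (17, 576), (22, 640)], [23], [[538, 0]]⟩]

/-- Certificates `a64dod`. -/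
def a64dod : List Profile :=
  [⟨[2, 2, 2, 2, 2, 4, 2, 0, 2, 2, 0, 0, 2, 2, 0, 0, 2, 0, 2, 0, 0, 0, 0, 0], [(0, 1025), (1, 2178), (2, 3076), (3, 3080), (4, 2192), (5, 3232), (6, 64), (8, 2304), (9, 1664), (12, 128), (13, 3200), (16, 1152)], [18], [[185, 0]]⟩,
   ⟨[2, 2, 2, 2, 2, 0, 2, 4, 2, 2, 0, 0, 2, 2, 0, 0, 2, 0, 2, 0, 0, 0, 0, 0], [(0, 1025), (1, 1058), (2, 3076), (3, 3080), (4, 1072), (6, 64), (7, 3232), (8, 2304), (9, 2592), (12, 3104), (13, 32), (16, 2080)], [18], [[150, 0]]⟩,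
   ⟨[2, 2, 2, 2, 2, 0, 2, 0, 2, 2, 4, 0, 2, 2, 0, 0, 2, 0, 2, 0, 0, 0, 0, 0], [(0, 2209), (1, 2178), (2, 164), (3, 168), (4, 2192), (6, 64), (8, 2304), (9, 2592), (10, 3232), (12, 128), (13, 32), (16, 2080)], [18], [[185, 0]]⟩,
   ⟨[2, 2, 2, 2, 2, 0, 2, 0, 2, 2, 0, 4, 2, 2, 0, 0, 2, 0, 2, 0, 0, 0, 0, 0], [(0, 1025), (1, 1058), (2, 164), (3, 168), (4, 1072), (6, 64), (8, 1440), (9, 1664), (11, 3232), (12, 128), (13, 32), (16, 1152)], [18], [[129, 0]]⟩,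
   ⟨[2, 2, 2, 2, 2, 0, 2, 0, 2, 2, 0, 0, 2, 2, 4, 0, 2, 0, 2, 0, 0, 0, 0, 0], [(0, 1025), (1, 2178), (2, 164), (3, 168), (4, 1072), (6, 3296), (8, 2304), (9, 2592), (12, 3104), (13, 3200), (14, 3232), (16, 1152)], [18], [[150, 0]]⟩,
   ⟨[2, 2, 2, 2, 2, 0, 2, 0, 2, 2, 0, 0, 2, 2, 0, 4, 2, 0, 2, 0, 0, 0, 0, 0], [(0, 2209), (1, 1058), (2, 164), (3, 3080), (4, 2192), (6, 3296), (8, 2304), (9, 1664), (12, 3104), (13, 32), (15, 3232), (16, 1152)], [18], [[99, 0]]⟩,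
   ⟨[2, 2, 2, 2, 2, 0, 2, 0, 2, 2, 0, 0, 2, 2, 0, 0, 2, 4, 2, 0, 0, 0, 0, 0], [(0, 2209), (1, 2178), (2, 164), (3, 3080), (4, 1072), (6, 64), (8, 1440), (9, 1664), (12, 3104), (13, 3200), (16, 2080), (17, 3232)], [18], [[29, 0]]⟩,
   ⟨[2, 2, 2, 2, 2, 0, 2, 0, 2, 2, 0, 0, 2, 2, 0, 0, 2, 0, 2, 4, 0, 0, 0, 0], [(0, 1025), (1, 2178), (2, 3076), (3, 168), (4, 2192), (6, 3296), (8, 1440), (9, 1664), (12, 3104), (13, 32), (16, 2080), (19, 3232)], [18], [[185, 0]]⟩,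
   ⟨[2, 2, 2, 2, 2, 0, 2, 0, 2, 2, 0, 0, 2, 2, 0, 0, 2, 0, 2, 0, 4, 0, 0, 0], [(0, 2209), (1, 1058), (2, 3076), (3, 168), (4, 2192), (6, 64), (8, 1440), (9, 2592), (12, 3104), (13, 3200), (16, 1152), (20, 3232)], [18], [[55, 0]]⟩,
   ⟨[2, 2, 2, 2, 2, 0, 2, 0, 2, 2, 0, 0, 2, 2, 0, 0, 2, 0, 2, 0, 0, 4, 0, 0], [(0, 2209), (1, 1058), (2, 3076), (3, 168), (4, 1072), (6, 3296), (8, 2304), (9, 1664), (12, 128), (13, 3200), (16, 2080), (21, 3232)], [18], [[95, 0]]⟩,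
   ⟨[2, 2, 2, 2, 2, 0, 2, 0, 2, 2, 0, 0, 2, 2, 0, 0, 2, 0, 2, 0, 0, 0, 4, 0], [(0, 2209), (1, 2178), (2, 3076), (3, 3080), (4, 1072), (6, 3296), (8, 1440), (9, 2592), (12, 128), (13, 32), (16, 1152), (22, 3232)], [18], [[13, 0]]⟩,
   ⟨[2, 2, 2, 2, 2, 0, 2, 0, 2, 2, 0, 0, 2, 2, 0, 0, 2, 0, 2, 0, 0, 0, 0, 4], [(0, 1025), (1, 1058), (2, 164), (3, 3080), (4, 2192), (6, 3296), (8, 1440), (9, 2592), (12, 128), (13, 3200), (16, 2080), (23, 3232)], [18], [[29, 0]]⟩]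

end Cfsg.Agent.Leech
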