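import Cfsg.Agent.Leech.SchurMcLCoresA
import Cfsg.Agent.Leech.SchurMcLCoresB
import Cfsg.Agent.Leech.SchurMcLCoresC
import Cfsg.Agent.Leech.SchurMcLCoresD

/-!
Checks of the tables for the corestriction in the McLaughlin group.
-/
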