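import Mathlib

/-!
Simplicity from a simple point stabiliser of suitable index.
-/

set_option autoImplicit false

namespace Cfsg.Agent.SimpleIndex

variable {G : Type*} [Group G]

/-- An element of `p`-power order fixes the points of a group of coprime-free size: if
conjugation by `x` of prime order `p` preserves a finite `q`-group `P` of order `q ^ k` and `p`
divides no `q ^ i - 1` with `1 ≤ i ≤ k`, then `x` centralises `P`. -/
theorem commute_of_pgroup [Finite G] {p : ℕ} [hp : Fact p.Prime] {x : G} (hx : orderOf x = p)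
    (P : Subgroup G) (hnorm : ∀ a ∈ P, x * a * x⁻¹ ∈ P) {q k : ℕ} (hq : q.Prime)
    (hP : Nat.card P = q ^ k) (hqp : q ≠ p)
    (hcond : ∀ i, 1 ≤ i → i ≤ k → ¬ p ∣ q ^ i - 1) : ∀ a ∈ P, x * a = a * x := by
  classical
  set C : Subgroup G := P ⊓ Subgroup.centralizer {x} with hC
  have hxn : x ∈ Subgroup.normalizer (P : Set G) := by
    rw [Subgroup.mem_normalizer_iff]
    refine fun a => ⟨hnorm a, fun h => ?_⟩
    have : ∀ n : ℕ, ∀ b ∈ P, x ^ n * b * (x ^ n)⁻¹ ∈ P := by
      intro n
      induction n with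
      | zero => intro b hb; simpa using hb
      | succ n ih =>
        intro b hb
        have := hnorm _ (ih b hb)
        rw [pow_succ', mul_inv_rev]
        simpa [mul_assoc] using this
    have h' := this (p - 1) _ h
    have hpx : x ^ (p - 1) = x⁻¹ := by
      refine eq_inv_of_mul_eq_one_left ?_
      rw [← pow_succ, Nat.sub_add_cancel hp.out.one_le, ← hx, pow_orderOf_eq_one]
    rw [hpx] at h'
    simpa [mul_assoc] using h'
  let K : Subgroup G := Subgroup.zpowers x
  have hK : K ≤ Subgroup.normalizer (P : Set G) := Subgroup.zpowers_le.mpr hxn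
  letI act : MulAction K P :=
    { smul := fun g a => ⟨(g : G) * a * (g : G)⁻¹,
        ((Subgroup.mem_normalizer_iff.mp (hK g.2)) a).mp a.2⟩
      one_smul := fun a => by
        apply Subtype.ext
        show ((1 : K) : G) * a * ((1 : K) : G)⁻¹ = a
        simp
      mul_smul := fun g h a => by
        apply Subtype.ext
        show ((g * h : K) : G) * a * ((g * h : K) : G)⁻¹ =
          (g : G) * ((h : G) * a * (h : G)⁻¹) * (g : G)⁻¹
        simp [mul_assoc] }
  have hKp : IsPGroup p K := IsPGroup.of_card (n := 1) (by rw [Nat.card_zpowers, hx, pow_one])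
  have hfix : Nat.card (MulAction.fixedPoints K P) = Nat.card C := by
    refine Nat.card_congr ⟨fun a => ⟨a.1.1, a.1.2, ?_⟩, fun a => ⟨⟨a.1, a.2.1⟩, ?_⟩,
      fun a => rfl, fun a => rfl⟩
    · have h := congrArg Subtype.val (a.2 ⟨x, Subgroup.mem_zpowers x⟩)
      change x * a.1.1 * x⁻¹ = a.1.1 at h
      refine Subgroup.mem_centralizer_singleton_iff.mpr ?_
      first
        | exact (mul_inv_eq_iff_eq_mul.mp h)
        | exact (mul_inv_eq_iff_eq_mul.mp h).symm
    · intro g
      apply Subtype.ext
      change (g : G) * a.1 * (g : G)⁻¹ = a.1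
      obtain ⟨n, hn⟩ := Subgroup.mem_zpowers_iff.mp g.2
      have hc : Commute x a.1 := by
        have h2 := Subgroup.mem_centralizer_singleton_iff.mp a.2.2
        first
          | exact h2
          | exact h2.symm
      rw [← hn, (hc.zpow_left n).eq, mul_inv_cancel_right]
  have hmod := hKp.card_modEq_card_fixedPoints (α := P)
  rw [hfix, hP] at hmod
  obtain ⟨j, hj, hjc⟩ : ∃ j ≤ k, Nat.card C = q ^ j :=
    (Nat.dvd_prime_pow hq).mp (hP ▸ Subgroup.card_dvd_of_le inf_le_left)
  rw [hjc] at hmod
  have hjk : j = k := by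
    by_contra hne
    refine hcond (k - j) (by omega) (by omega) ?_
    have h1 : p ∣ q ^ k - q ^ j :=
      (Nat.modEq_iff_dvd' (Nat.pow_le_pow_right hq.pos hj)).mp hmod.symm
    have e : q ^ k - q ^ j = q ^ j * (q ^ (k - j) - 1) := by
      rw [Nat.mul_sub, mul_one, ← pow_add, Nat.add_sub_cancel' hj]
    rw [e] at h1
    rcases hp.out.dvd_mul.mp h1 with h | h
    · exact absurd ((Nat.prime_dvd_prime_iff_eq hp.out hq).mp (hp.out.dvd_of_dvd_pow h)).symm hqp
    · exact h
  have hCP : C = P := Subgroup.eq_of_le_of_card_ge inf_le_left (by rw [hjc, hjk, hP])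
  intro a ha
  rw [← hCP] at ha
  have h2 := Subgroup.mem_centralizer_singleton_iff.mp ha.2
  first
    | exact h2
    | exact h2.symm

/-- A normal subgroup of order dividing a suitable number commutes with an element of prime
order. -/
theorem commute_of_normal [Finite G] {N : Subgroup G} [N.Normal] {p d : ℕ} [hp : Fact p.Prime]
    {x : G} (hx : orderOf x = p) (hN : Nat.card N ∣ d) (hpd : ¬ p ∣ d)
    (hcond : ∀ e, e ∣ d → IsPrimePow e → ¬ p ∣ e - 1) :
    ∀ a ∈ N, x * a = a * x := by
  classical
  set C : Subgroup G := N ⊓ Subgroup.centralizer {x} with hC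
  suffices hfull : Nat.card N ∣ Nat.card C by
    have hCN : C = N := Subgroup.eq_of_le_of_card_ge inf_le_left
      (Nat.le_of_dvd Nat.card_pos hfull)
    intro a ha
    rw [← hCN] at ha
    have h2 := Subgroup.mem_centralizer_singleton_iff.mp ha.2
    first
      | exact h2
      | exact h2.symm
  rw [Nat.dvd_iff_prime_pow_dvd_dvd]
  intro q k hq hqk
  rcases Nat.eq_zero_or_pos k with rfl | hk
  · simp
  have : Fact q.Prime := ⟨hq⟩
  have hqd : q ^ k ∣ d := hqk.trans hN
  have hqp : q ≠ p := fun h => hpd (h ▸ (dvd_pow_self q hk.ne').trans hqd)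
  let K : Subgroup G := Subgroup.zpowers x
  have hKp : IsPGroup p K := IsPGroup.of_card (n := 1) (by rw [Nat.card_zpowers, hx, pow_one])
  letI act : MulAction K (Sylow q N) :=
    MulAction.compHom (Sylow q N) ((MulAut.conjNormal (H := N)).comp K.subtype)
  have hdvd : Nat.card (Sylow q N) ∣ d := by
    obtain ⟨P⟩ := (inferInstance : Nonempty (Sylow q N))
    exact (P.card_dvd_index.trans (Subgroup.index_dvd_card _)).trans hN
  obtain ⟨P, hP⟩ := hKp.nonempty_fixed_point_of_prime_not_dvd_card (Sylow q N)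
    (fun h => hpd (h.trans hdvd))
  set Q : Subgroup G := (P : Subgroup N).map N.subtype with hQ
  obtain ⟨m, hm⟩ := IsPGroup.iff_card.mp P.isPGroup'
  have hQc : Nat.card Q = q ^ m := by
    rw [hQ, Subgroup.card_map_of_injective N.subtype_injective, hm]
  have hmk : k ≤ m := by
    have h1 : q ^ k ∣ Nat.card (P : Subgroup N) := P.pow_dvd_card_of_pow_dvd_card hqk
    rw [hm] at h1
    exact (Nat.pow_dvd_pow_iff_le_right hq.one_lt).mp h1
  have hmd : q ^ m ∣ d := by
    rw [← hm]; exact (Subgroup.card_subgroup_dvd_card _).trans hN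
  have hnorm : ∀ a ∈ Q, x * a * x⁻¹ ∈ Q := by
    rintro _ ⟨⟨a, haN⟩, ha, rfl⟩
    have hfix : (⟨x, Subgroup.mem_zpowers x⟩ : K) • P = P := hP _
    refine ⟨MulAut.conjNormal x ⟨a, haN⟩, ?_, by simp [MulAut.conjNormal_apply]⟩
    rw [← hfix]
    exact Subgroup.smul_mem_pointwise_smul (⟨a, haN⟩ : N) (MulAut.conjNormal x) (P : Subgroup N) ha
  have hcom := commute_of_pgroup (p := p) hx Q hnorm hq hQc hqp (fun i hi hik => by
    refine hcond _ ((pow_dvd_pow q hik).trans hmd) ?_
    exact (hq.prime.isPrimePow).pow (by omega))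
  have hQC : Q ≤ C := by
    intro a ha
    refine ⟨Subgroup.map_subtype_le _ ha, Subgroup.mem_centralizer_singleton_iff.mpr ?_⟩
    first
      | exact hcom a ha
      | exact (hcom a ha).symm
  exact ((pow_dvd_pow q hmk).trans hQc.symm.dvd).trans (Subgroup.card_dvd_of_le hQC)

/-- A normal subgroup meeting a simple subgroup trivially, of suitable order, is centralised
by it. -/
theorem le_centralizer_of_disjoint [Finite G] {N M : Subgroup G} [N.Normal] [IsSimpleGroup M]
    {p : ℕ} [hp : Fact p.Prime] (hpM : p ∣ Nat.card M) (hdisj : N ⊓ M = ⊥)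
    (hpd : ¬ p ∣ M.index) (hcond : ∀ e, e ∣ M.index → IsPrimePow e → ¬ p ∣ e - 1) :
    ∀ m ∈ M, ∀ a ∈ N, m * a = a * m := by
  have hN : Nat.card N ∣ M.index := by
    have h1 : N.subgroupOf M = ⊥ :=
      Subgroup.subgroupOf_eq_bot.mpr (disjoint_iff.mpr hdisj)
    have h4 : Nat.card N * Nat.card M ∣ Nat.card G := by
      have h5 : (M ⊔ N).index * Nat.card (M ⊔ N : Subgroup G) = Nat.card G :=
        Subgroup.index_mul_card _
      have h6 : Nat.card (M ⊔ N : Subgroup G) = Nat.card N * Nat.card M := by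
        rw [← Subgroup.card_mul_index (N.subgroupOf (M ⊔ N))]
        rw [Nat.card_congr (Subgroup.subgroupOfEquivOfLe le_sup_right).toEquiv]
        congr 1
        have e := QuotientGroup.quotientInfEquivProdNormalQuotient M N
        rw [Subgroup.index_eq_card, ← Nat.card_congr e.toEquiv, ← Subgroup.index_eq_card, h1,
          Subgroup.index_bot]
      rw [← h5, h6]
      exact dvd_mul_left _ _
    rw [← Subgroup.index_mul_card M] at h4
    exact Nat.dvd_of_mul_dvd_mul_right Nat.card_pos h4
  obtain ⟨y, hy⟩ := exists_prime_orderOf_dvd_card' (G := M) p hpM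
  have hyG : orderOf (y : G) = p := by rw [Subgroup.orderOf_coe, hy]
  have hyN := commute_of_normal hyG hN hpd hcond
  have hnormC : ((Subgroup.centralizer (N : Set G)).subgroupOf M).Normal := inferInstance
  rcases hnormC.eq_bot_or_eq_top with h | h
  · exfalso
    have hy' : y ∈ (Subgroup.centralizer (N : Set G)).subgroupOf M := by
      rw [Subgroup.mem_subgroupOf, Subgroup.mem_centralizer_iff]
      exact fun a ha => (hyN a ha).symm
    rw [h, Subgroup.mem_bot] at hy'
    rw [hy', orderOf_one] at hy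
    exact hp.out.one_lt.ne hy
  · intro m hm a ha
    have hm' : (⟨m, hm⟩ : M) ∈ (Subgroup.centralizer (N : Set G)).subgroupOf M := by
      rw [h]; trivial
    exact (Subgroup.mem_centralizer_iff.mp (Subgroup.mem_subgroupOf.mp hm') a ha).symm

/-- A group with a simple subgroup of suitable index, whose centraliser lies in it and whose
normal closure is everything, is simple. -/
theorem isSimpleGroup_of_index [Finite G] (M : Subgroup G) [hM : IsSimpleGroup M] (p : ℕ)
    [hp : Fact p.Prime] (hpM : p ∣ Nat.card M) (hpd : ¬ p ∣ M.index)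
    (hcond : ∀ e, e ∣ M.index → IsPrimePow e → ¬ p ∣ e - 1)
    (hcent : ∀ g : G, (∀ m ∈ M, m * g = g * m) → g ∈ M)
    (htop : ∀ N : Subgroup G, N.Normal → M ≤ N → N = ⊤) : IsSimpleGroup G := by
  have : Nontrivial G := M.subtype_injective.nontrivial
  refine { eq_bot_or_eq_top_of_normal := fun N hN => ?_ }
  have hnM : (N.subgroupOf M).Normal := inferInstance
  rcases hnM.eq_bot_or_eq_top with h | h
  · left
    have hdisj : N ⊓ M = ⊥ := disjoint_iff.mp (Subgroup.subgroupOf_eq_bot.mp h)
    refine (Subgroup.eq_bot_iff_forall N).mpr fun a ha => ?_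
    have hc := le_centralizer_of_disjoint hpM hdisj hpd hcond
    have : a ∈ N ⊓ M := Subgroup.mem_inf.mpr ⟨ha, hcent a fun m hm => hc m hm a ha⟩
    rwa [hdisj, Subgroup.mem_bot] at this
  · exact Or.inr (htop N hN (Subgroup.subgroupOf_eq_top.mp h))

end Cfsg.Agent.SimpleIndex
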