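import Cfsg.Agent.Leech.TreesData

/-!
Data: points fixed by the generators of some orbit certificates, and a further spanning tree.
-/

set_option autoImplicit false

namespace Cfsg.Agent.Leech.Trees

/-- Orbit certificate `t552b` (found by a search; every property is checked where it is used). -/
def t552b : OrbitCert where
  gens :=
    [([154],
      [1083010, 1082713, 1081440, 1083075, 1083027, 1081987, 1083009, 1082499, 1082883, 1083019,
       1083883, 1083246, 4330442, 4244706, 4342720, 4638224, 5325537, 2245136, 1189840, 4359137,
       704635, 4194496, 16384, 8388608]),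
     ([168],
      [1060611, 1056788, 1058832, 1057808, 1056768, 1056792, 1056848, 1056912, 1057738, 1058547,
       1059118, 1057296, 1061652, 151107, 4330921, 3160380, 1114690, 46004, 409482, 1711430, 143667,
       1188800, 1179675, 8388608]),
     ([706, 0, 159, 2559, 0, 2461],
      [2366483, 5742555, 5742557, 5704219, 4689201, 5539359, 428055, 5505563, 4654531, 5742489,
       5741571, 1412243, 1089050, 5191953, 1823626, 4494922, 5445580, 5276353, 1677699, 5020889,
       5214108, 5964559, 1643037, 15958987])]
  toks :=
   [0x4008c0008800104400042318000008011880000043008011804108422,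
    0x61180001802300801100001080108c000046110000008600842200000,
    0x46000023008400006300801088000086000c0200440000610846000002,
    0x4400004208c42100000000318003008400846008c00000031002300002,
    0x1042300003000021800018442000030086000c0208460000020046000022,
    0x100010844000000108000846300002000611800008c010880000c6000801,
    0x210441180000000008801180400080108c020000010c600002300061,
    0x600004008c0210c021800018003008400004300423000000886000c42,
    0xc021000108c0000c0118003100030880000c6000840000230042108800,
    0x10c00004600084008443000000080108c02000611800000c211000000860,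
    0x300460008211800000863000601080018003008400844108c0000000,
    0x880000c6000062084220000000c011800210c0000c600006008c4000c22,
    0x8823000600004310003000610880000c60004211000010c0000c0218040,
    0x8c0000c000006300041088000046000801100211800000c001080110000,
    0x21800300800104400844000002004230000008c01088000046000821,
    0x3180011080018460000021804008c0000c0200460000230080110022,
    0x42084400000200423000021804000c020880000c61084400000010023,
    0x8422000000002308c0000422004600000318040000430880000c6000440,
    0x8c0000003180221800000c2300003008600042210000004430080018002,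
    0x84600000010801180001884300022100001800208c00008600880000c41,
    0x1180420000110440000430000010c420042118000000620000210001,
    0x10000008430080000c610880000043000220000310003008211800000823,
    0x46010800180400080010421180001804008c001000108801]

/-- Points fixed by the generators of `t552b`, one each. -/
def t552bFixed : List (List ℤ) :=
  [[4, 0, 0, 0, 0, 0, 0, 0, 0, 0, 0, 0, 0, 0, 0, 0, 0, 0, 0, 0, 0, 0, 0, 4],
   [0, 0, 0, 0, 4, 0, 0, 0, 0, 0, 0, 0, 0, 0, 0, 0, 0, 0, 0, 0, 0, 0, 0, 4],
   [0, 4, 0, 0, 0, 0, 0, 0, 0, 0, 0, 0, 0, 0, 0, 0, 0, 0, 0, 0, 0, 0, 0, 4]]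

/-- Points fixed by the generators of `t100`, one each. -/
def t100Fixed : List (List ℤ) :=
  [[4, 0, 0, 0, 0, 0, 0, 0, 0, 0, 0, 0, 0, 0, 0, 0, 0, 0, 0, 0, 0, 0, 0, 4],
   [4, 0, 0, 0, 0, 0, 0, 0, 0, 0, 0, 0, 0, 0, 0, 0, 0, 0, 0, 0, 0, 0, 0, 4],
   [2, 2, 2, 0, 2, 0, 0, 0, 0, 0, 0, 0, 0, 2, 0, 0, 2, 0, 0, 0, 0, 0, 2, 2]]

/-- Points fixed by the generators of `t2025`, one each. -/
def t2025Fixed : List (List ℤ) :=
  [[-4, 0, 0, 0, 0, 0, 0, 0, 0, 0, 0, 0, 0, 0, 0, 0, 0, 0, 0, 0, 0, 0, 0, 4],
   [-4, 0, 0, 0, 0, 0, 0, 0, 0, 0, 0, 0, 0, 0, 0, 0, 0, 0, 0, 0, 0, 0, 0, 4],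
   [-2, 0, 2, 0, 0, 0, 2, 0, 2, 0, 0, 0, 0, 0, 0, 2, 0, -2, 0, 0, 0, 0, 2, 2]]

end Cfsg.Agent.Leech.Trees
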