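import Cfsg.Agent.Leech.Stabilizers
import Cfsg.Agent.Leech.SimpleIndex
import Cfsg.Agent.Leech.TreesData2

/-!
Simplicity of the McLaughlin group and of the Higman-Sims group as stabilisers in `Co0`.
-/

set_option autoImplicit false

namespace Cfsg.Agent.Leech

open Cfsg Cfsg.Agent.Golay

/-- A certificate whose words lie in `K` and each fix a point of the orbit shows that the only
normal subgroup containing a point stabiliser is everything. -/
theorem normal_eq_top_of_cert (C : OrbitCert) (conf : List leechLattice) {K : Subgroup Co0}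
    (hK : fixConf conf ≤ K) {x₀ : leechLattice} {S : Set leechLattice} {n : ℕ} (hn : 0 < n)
    (hS : S.ncard = n) (hinv : ∀ g ∈ K, g • x₀ ∈ S) (ht : ∀ y ∈ S, ∃ g ∈ K, g • x₀ = y)
    (hg : C.gensB (conf.map fun v => v.1) = true) (hsize : C.sizeB (keyOf x₀.1) n = true)
    (hfix : ∀ g ∈ C.gens, ∃ y ∈ S, wordAut g.1 • y = y)
    (N : Subgroup K) (hN : N.Normal) (hM : MulAction.stabilizer K x₀ ≤ N) : N = ⊤ := by
  have hacts : ∀ g ∈ C.gens, actsB g.1 g.2 = true := fun g hg' => by
    have := List.all_eq_true.mp hg g hg'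
    rw [Bool.and_eq_true] at this
    exact this.1
  have hmem : ∀ g ∈ C.gens, wordAut g.1 ∈ N.map K.subtype := by
    intro g hg'
    have hwK : wordAut g.1 ∈ K :=
      hK (mem_fixConf.mpr (le_stabilizer_of_gensB hg g hg'))
    obtain ⟨y, hy, hwy⟩ := hfix g hg'
    obtain ⟨k, hk, rfl⟩ := ht y hy
    set w : K := ⟨wordAut g.1, hwK⟩ with hw
    set k' : K := ⟨k, hk⟩ with hk'
    have h1 : k'⁻¹ * w * k' ∈ MulAction.stabilizer K x₀ := by
      rw [MulAction.mem_stabilizer_iff]
      show (k⁻¹ * wordAut g.1 * k) • x₀ = x₀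
      rw [mul_smul, mul_smul, hwy, inv_smul_smul]
    have h2 := hN.conj_mem _ (hM h1) k'
    refine ⟨w, ?_, rfl⟩
    have e : k' * (k'⁻¹ * w * k') * k'⁻¹ = w := by simp [mul_assoc]
    rw [e] at h2
    exact h2
  have hsize' := le_ncard_orbit C hmem hacts hsize
  have hsub : {x | ∃ g ∈ N.map K.subtype, g • x₀ = x} ⊆ S := by
    rintro x ⟨g, ⟨g', -, rfl⟩, rfl⟩
    exact hinv g'.1 g'.2
  have heq := Set.eq_of_subset_of_ncard_le hsub (by omega) (Set.finite_of_ncard_pos (by omega))
  refine eq_top_iff.mpr fun k _ => ?_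
  have hkS := hinv k.1 k.2
  rw [← heq] at hkS
  obtain ⟨g, ⟨m, hm, rfl⟩, hgk⟩ := hkS
  have h1 : m⁻¹ * k ∈ MulAction.stabilizer K x₀ := by
    rw [MulAction.mem_stabilizer_iff]
    show ((m : Co0)⁻¹ * k.1) • x₀ = x₀
    rw [mul_smul, ← hgk]
    exact inv_smul_smul _ _
  have := mul_mem hm (hM h1)
  rwa [mul_inv_cancel_left] at this

/-- A fixed point of each word, from a list checked by evaluation. -/
def fixedB (C : OrbitCert) (us : List ℤ) (T : ℤ) (pts : List (List ℤ)) : Bool :=
  pts.length == C.gens.length &&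
  (List.zip C.gens pts).all fun z =>
    fixesB z.1.1 (ofList z.2) && inLeechB (ofList z.2) &&
      (((List.range 24).map fun i => ofList z.2 (ptOf i) * ofList z.2 (ptOf i)).sum == 32) &&
      (dotL (ofList us) (ofList z.2) == T)

theorem exists_fixed_of_fixedB {C : OrbitCert} {us : List ℤ} {T : ℤ} {pts : List (List ℤ)}
    (h : fixedB C us T pts = true) :
    ∀ g ∈ C.gens, ∃ y : leechLattice, (sqNorm y.1 = 32 ∧ dotInt (ofList us) y.1 = T) ∧
      wordAut g.1 • y = y := by
  simp only [fixedB, Bool.and_eq_true, beq_iff_eq, List.all_eq_true] at h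
  obtain ⟨hlen, hall⟩ := h
  intro g hg
  obtain ⟨i, hi, rfl⟩ := List.getElem_of_mem hg
  have hz : (C.gens[i], pts[i]) ∈ List.zip C.gens pts :=
    List.mem_iff_getElem.mpr ⟨i, by simp [List.length_zip]; omega, by simp [List.getElem_zip]⟩
  obtain ⟨⟨⟨h1, h2⟩, h3⟩, h4⟩ := hall _ hz
  refine ⟨⟨_, mem_of_inLeechB h2⟩, ⟨?_, ?_⟩, MulAction.mem_stabilizer_iff.mp
    (wordAut_mem_stabilizer (x := ⟨_, mem_of_inLeechB h2⟩) h1)⟩
  · rw [← h3, sqNorm, sum_ptOf]
    simp [sq]
  · rw [← h4, dotL_eq]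

/-! ### The two sets -/

/-- The minimal vectors with inner products 0, 16 with `pU`, `pW`. -/
def set2025 : Set leechLattice :=
  {x | sqNorm x.1 = 32 ∧ dotInt pU.1 x.1 = 0 ∧ dotInt pW.1 x.1 = 16}

/-- The minimal vectors with inner products 24, -24 with `pV`, `pY`. -/
def set100 : Set leechLattice :=
  {x | sqNorm x.1 = 32 ∧ dotInt pV.1 x.1 = 24 ∧ dotInt pY.1 x.1 = -24}

theorem pack2025 : ofList (threeVals 104 (-296) 100) = pU.1 + 100 • pW.1 := by decide +kernel

theorem pack100 : ofList (threeVals (-95) (-499) (-99)) = pV.1 + 100 • pY.1 := by decide +kernel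

theorem set2025_eq :
    set2025 = {x | sqNorm x.1 = 32 ∧ dotInt (ofList (threeVals 104 (-296) 100)) x.1 = 1600} := by
  ext x
  simp only [set2025, Set.mem_ofPred_eq]
  refine and_congr_right fun hx => ?_
  rw [show (1600 : ℤ) = 0 + 100 * 16 by norm_num]
  exact (dot_pack pack2025 (sqNorm_configs.1.trans_le (by norm_num))
    (sqNorm_configs.2.2.1.trans_le (by norm_num)) hx (by norm_num)).symm

theorem set100_eq :
    set100 = {x | sqNorm x.1 = 32 ∧
      dotInt (ofList (threeVals (-95) (-499) (-99))) x.1 = -2376} := by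
  ext x
  simp only [set100, Set.mem_ofPred_eq]
  refine and_congr_right fun hx => ?_
  rw [show (-2376 : ℤ) = 24 + 100 * (-24) by norm_num]
  exact (dot_pack pack100 sqNorm_configs.2.1.le sqNorm_configs.2.2.2.2.1.le hx
    (by norm_num)).symm

theorem count2025 : set2025.ncard = 2025 := by
  rw [set2025_eq]
  exact ncard_min_dot_grouped (threeVals 104 (-296) 100) (by decide) 1600 2025
    [[100, 100, 100, 100, 100, 100, 100, 100], [-296, 100, 100, 100, 100, 100, 100, 100],
      [100, 100, 100, 100, 100, 100, 100, 104], [-296, 100, 100, 100, 100, 100, 100, 104]]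
    (by decide +kernel)

theorem count100 : set100.ncard = 100 := by
  rw [set100_eq]
  exact ncard_min_dot_grouped (threeVals (-95) (-499) (-99)) (by decide) (-2376) 100
    [[-99, -99, -99, -99, -99, -99, -99, -99], [-499, -99, -99, -99, -99, -99, -99, -99],
      [-99, -99, -99, -99, -99, -99, -99, -95], [-499, -99, -99, -99, -99, -99, -99, -95]]
    (by decide +kernel)

theorem set2025_inv {g : Co0} (hg : g ∈ mcl) {x : leechLattice} (hx : x ∈ set2025) :
    g • x ∈ set2025 := by
  refine ⟨(sqNorm_co0 g x).trans hx.1, ?_, ?_⟩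
  · have h := co0_dotInt g pU x
    rw [(mem_mcl.mp hg).2] at h
    rw [h]; exact hx.2.1
  · have h := co0_dotInt g pW x
    rw [mcl_smul_pW hg] at h
    rw [h]; exact hx.2.2

theorem set100_inv {g : Co0} (hg : g ∈ hs) {x : leechLattice} (hx : x ∈ set100) :
    g • x ∈ set100 := by
  refine ⟨(sqNorm_co0 g x).trans hx.1, ?_, ?_⟩
  · have h := co0_dotInt g pV x
    rw [(mem_hs.mp hg).1] at h
    rw [h]; exact hx.2.1
  · have h := co0_dotInt g pY x
    rw [hs_smul_pY hg] at h
    rw [h]; exact hx.2.2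

theorem certs2025 : Trees.t2025.gensB ([pV, pU].map fun v => v.1) = true ∧
    Trees.t2025.sizeB (keyOf pZ.1) 2025 = true ∧
    fixedB Trees.t2025 (threeVals 104 (-296) 100) 1600 Trees.t2025Fixed = true := by
  decide +kernel

theorem certs100 : Trees.t100.gensB ([pV, pX].map fun v => v.1) = true ∧
    Trees.t100.sizeB (keyOf pU.1) 100 = true ∧
    fixedB Trees.t100 (threeVals (-95) (-499) (-99)) (-2376) Trees.t100Fixed = true := by
  decide +kernel

theorem pZ_mem : pZ ∈ set2025 := by
  refine ⟨sqNorm_configs.2.2.2.2.2.1, dot_configs.2.2.2.2.2.2.2.1, dot_configs.2.2.2.2.2.2.2.2⟩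

theorem pU_mem100 : pU ∈ set100 :=
  ⟨sqNorm_configs.1, dot_configs.1, dot_configs.2.2.2.2.2.2.1⟩

theorem fixConf_le_mcl : fixConf [pV, pU] ≤ mcl := fun g hg =>
  mem_mcl.mpr ⟨mem_fixConf.mp hg pV (by simp), mem_fixConf.mp hg pU (by simp)⟩

theorem fixConf_le_hs : fixConf [pV, pX] ≤ hs := fun g hg =>
  mem_hs.mpr ⟨mem_fixConf.mp hg pV (by simp), mem_fixConf.mp hg pX (by simp)⟩

theorem transitive2025 {y : leechLattice} (hy : y ∈ set2025) : ∃ g ∈ mcl, g • pZ = y := by
  obtain ⟨g, hg, e⟩ := transitive_of_cert Trees.t2025 (conf := [pV, pU]) (x₀ := pZ)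
    (S := set2025) (N := 2025) (by norm_num) count2025 pZ_mem
    (fun g hg x hx => set2025_inv (fixConf_le_mcl hg) hx) certs2025.1 certs2025.2.1 y hy
  exact ⟨g, fixConf_le_mcl hg, e⟩

theorem transitive100 {y : leechLattice} (hy : y ∈ set100) : ∃ g ∈ hs, g • pU = y := by
  obtain ⟨g, hg, e⟩ := transitive_of_cert Trees.t100 (conf := [pV, pX]) (x₀ := pU)
    (S := set100) (N := 100) (by norm_num) count100 pU_mem100
    (fun g hg x hx => set100_inv (fixConf_le_hs hg) hx) certs100.1 certs100.2.1 y hy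
  exact ⟨g, fixConf_le_hs hg, e⟩

theorem mcl_inf_pZ : mcl ⊓ MulAction.stabilizer Co0 pZ = m22G := by
  have := finite_Co0
  symm
  refine Subgroup.eq_of_le_of_card_ge
    (fun g hg => ⟨m22G_le_mcl hg, m22G_fix_tv 4 (-4) 0 pZ rfl g hg⟩) ?_
  have h := card_mul_stab (K := mcl) (x := pZ) (S := set2025)
    (fun g hg => set2025_inv hg pZ_mem) (fun y hy => transitive2025 hy)
  rw [count2025, card_mcl] at h
  rw [card_m22G]
  omega

theorem hs_inf_pU : hs ⊓ MulAction.stabilizer Co0 pU = m22G := by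
  have := finite_Co0
  symm
  refine Subgroup.eq_of_le_of_card_ge
    (fun g hg => ⟨m22G_le_hs hg, m22G_fix_tv 4 4 0 pU rfl g hg⟩) ?_
  have h := card_mul_stab (K := hs) (x := pU) (S := set100)
    (fun g hg => set100_inv hg pU_mem100) (fun y hy => transitive100 hy)
  rw [count100, card_hs] at h
  rw [card_m22G]
  omega

theorem sqNorm_tv (a b c : ℤ) : sqNorm (tv a b c) = a ^ 2 + b ^ 2 + 22 * c ^ 2 := by
  rw [sqNorm, sum_ptOf]
  simp only [tv, ofList, List.range, List.range.loop, List.map_cons, List.map_nil, List.sum_cons,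
    List.sum_nil]
  simp [ptIdx_ptOf, threeVals, List.replicate]
  ring

theorem dot_tv (a b c a' b' c' : ℤ) :
    dotInt (tv a b c) (tv a' b' c') = a * a' + b * b' + 22 * (c * c') := by
  rw [dotInt, sum_ptOf]
  simp only [tv, ofList, List.range, List.range.loop, List.map_cons, List.map_nil, List.sum_cons,
    List.sum_nil]
  simp [ptIdx_ptOf, threeVals, List.replicate]
  ring

theorem abs_le_five {a : ℤ} (h : a ^ 2 ≤ 32) : -5 ≤ a ∧ a ≤ 5 := by
  constructor <;> nlinarith

theorem abs_le_one {c : ℤ} (h : 22 * c ^ 2 ≤ 32) : -1 ≤ c ∧ c ≤ 1 := by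
  constructor <;> nlinarith

theorem isSimpleGroup_of_m22 {K : Subgroup Co0} {x : leechLattice} {n : ℕ}
    (hK : K ⊓ MulAction.stabilizer Co0 x = m22G)
    (hidx : (MulAction.stabilizer K x).index = n) (hp : ¬ 11 ∣ n)
    (hcond : ∀ e ∈ n.divisors, IsPrimePow e → ¬ 11 ∣ e - 1) (hn : n ≠ 0)
    (huniq : ∀ y : leechLattice, (∀ g ∈ m22G, g • y = y) → y ∈ MulAction.orbit K x → y = x)
    (htop : ∀ N : Subgroup K, N.Normal → MulAction.stabilizer K x ≤ N → N = ⊤) :
    IsSimpleGroup K := by
  have := finite_Co0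
  have e : MulAction.stabilizer K x ≃* m22G := (stabEquiv K x).trans (MulEquiv.subgroupCongr hK)
  have hsimple : IsSimpleGroup (MulAction.stabilizer K x) :=
    e.isSimpleGroup_congr.mpr isSimpleGroup_m22G
  have : Fact (Nat.Prime 11) := ⟨by norm_num⟩
  refine SimpleIndex.isSimpleGroup_of_index _ 11 ?_ (hidx ▸ hp) (fun d hd hpp => ?_) ?_ htop
  · rw [Nat.card_congr e.toEquiv, card_m22G]; norm_num
  · rw [hidx] at hd
    exact hcond d (Nat.mem_divisors.mpr ⟨hd, hn⟩) hpp
  · intro g hg
    refine huniq _ (fun m hm => ?_) ⟨g, rfl⟩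
    rw [← hK] at hm
    have h := hg ⟨m, hm.1⟩ hm.2
    have h' : (m * (g : Co0)) • x = ((g : Co0) * m) • x := by
      exact congrArg (fun z : K => (z : Co0) • x) h
    rw [mul_smul, mul_smul, MulAction.mem_stabilizer_iff.mp hm.2] at h'
    exact h'

theorem isSimpleGroup_mcl : IsSimpleGroup mcl := by
  refine isSimpleGroup_of_m22 (n := 2025) mcl_inf_pZ
    ((index_stab (fun g hg => set2025_inv hg pZ_mem) fun y hy => transitive2025 hy).trans count2025)
    (by norm_num) (by decide +kernel) (by norm_num) (fun y hy hyo => ?_) (fun N hN hM => ?_)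
  · obtain ⟨g, rfl⟩ := hyo
    obtain ⟨h1, h2, h3⟩ := set2025_inv g.2 pZ_mem
    have e := eq_tv_of_fixed hy
    refine Subtype.ext ?_
    change sqNorm (g • pZ).1 = 32 at h1
    change dotInt pU.1 (g • pZ).1 = 0 at h2
    change dotInt pW.1 (g • pZ).1 = 16 at h3
    generalize (g • pZ).1 none = a at e
    generalize (g • pZ).1 (some 0) = b at e
    generalize (g • pZ).1 (some 1) = c at e
    rw [e, sqNorm_tv] at h1
    rw [e, show pU.1 = tv 4 4 0 from rfl, dot_tv] at h2
    rw [e, show pW.1 = tv 1 (-3) 1 from rfl, dot_tv] at h3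
    obtain ⟨-, -⟩ := abs_le_five (a := a) (by nlinarith)
    obtain ⟨hc1, hc2⟩ := abs_le_one (c := c) (by nlinarith)
    rw [e, show pZ.1 = tv 4 (-4) 0 from rfl]
    have hb : b = -a := by omega
    subst hb
    interval_cases c
    · omega
    · have : a = 4 := by omega
      subst this; rfl
    · omega
  · exact normal_eq_top_of_cert Trees.t2025 [pV, pU] fixConf_le_mcl (n := 2025) (by norm_num)
      count2025 (fun g hg => set2025_inv hg pZ_mem) (fun y hy => transitive2025 hy) certs2025.1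
      certs2025.2.1 (fun g hg => by
        obtain ⟨y, hy, hwy⟩ := exists_fixed_of_fixedB certs2025.2.2 g hg
        exact ⟨y, by rw [set2025_eq]; exact hy, hwy⟩) N hN hM

theorem isSimpleGroup_hs : IsSimpleGroup hs := by
  refine isSimpleGroup_of_m22 (n := 100) hs_inf_pU
    ((index_stab (fun g hg => set100_inv hg pU_mem100) fun y hy => transitive100 hy).trans count100)
    (by norm_num) (by decide +kernel) (by norm_num) (fun y hy hyo => ?_) (fun N hN hM => ?_)
  · obtain ⟨g, rfl⟩ := hyo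
    obtain ⟨h1, h2, h3⟩ := set100_inv g.2 pU_mem100
    have e := eq_tv_of_fixed hy
    refine Subtype.ext ?_
    change sqNorm (g • pU).1 = 32 at h1
    change dotInt pV.1 (g • pU).1 = 24 at h2
    change dotInt pY.1 (g • pU).1 = -24 at h3
    generalize (g • pU).1 none = a at e
    generalize (g • pU).1 (some 0) = b at e
    generalize (g • pU).1 (some 1) = c at e
    rw [e, sqNorm_tv] at h1
    rw [e, show pV.1 = tv 5 1 1 from rfl, dot_tv] at h2
    rw [e, show pY.1 = tv (-1) (-5) (-1) from rfl, dot_tv] at h3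
    obtain ⟨hc1, hc2⟩ := abs_le_one (c := c) (by nlinarith)
    rw [e, show pU.1 = tv 4 4 0 from rfl]
    have hb : b = a := by omega
    subst hb
    interval_cases c
    · exfalso; nlinarith
    · have : b = 4 := by omega
      subst this; rfl
    · exfalso; omega
  · exact normal_eq_top_of_cert Trees.t100 [pV, pX] fixConf_le_hs (n := 100) (by norm_num)
      count100 (fun g hg => set100_inv hg pU_mem100) (fun y hy => transitive100 hy) certs100.1
      certs100.2.1 (fun g hg => by
        obtain ⟨y, hy, hwy⟩ := exists_fixed_of_fixedB certs100.2.2 g hg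
        exact ⟨y, by rw [set100_eq]; exact hy, hwy⟩) N hN hM

end Cfsg.Agent.Leech
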