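import Cfsg.Agent.Leech.Shapes
import Cfsg.Agent.Leech.Moves
import Cfsg.Agent.Leech.DodecadOctads

/-!
`Co0` is transitive on the lattice vectors of squared length 32, 48 and 64.
-/

namespace Cfsg.Agent.Leech

open Cfsg Cfsg.Agent.Golay
open scoped Pointwise

theorem Conj.sqNorm_eq {x y : GolayPt → ℤ} (h : Conj x y) : sqNorm y = sqNorm x := by
  obtain ⟨hx, g, -, rfl⟩ := h
  exact g.2.2 ⟨x, hx⟩

/-- Equality of vectors, computed. -/
def eqB (t x : GolayPt → ℤ) : Bool := (List.range 24).all fun i => x (ptOf i) == t (ptOf i)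

theorem eq_of_eqB {t x : GolayPt → ℤ} (h : eqB t x = true) : x = t := by
  simp only [eqB, List.all_eq_true, List.mem_range, beq_iff_eq] at h
  funext p
  have := h (ptIdx p) (ptIdx_lt p)
  rwa [ptOf_ptIdx] at this

theorem absCount_pos_of_hasAbs {x : GolayPt → ℤ} {v : ℕ} (h : hasAbs v x = true) :
    0 < absCount x v := by
  simp only [hasAbs, List.any_eq_true, beq_iff_eq] at h
  obtain ⟨i, -, hi⟩ := h
  exact Finset.card_pos.mpr ⟨ptOf i, mem_absSet.mpr hi⟩

theorem abs_cases_of_allAbs {x : GolayPt → ℤ} {v : ℕ} (h : allAbs v x = true) (p : GolayPt) :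
    (x p).natAbs = 0 ∨ (x p).natAbs = v := by
  simp only [allAbs, List.all_eq_true, List.mem_range, Bool.or_eq_true, beq_iff_eq] at h
  have := h (ptIdx p) (ptIdx_lt p)
  rwa [ptOf_ptIdx] at this

theorem absCount_disjoint {x : GolayPt → ℤ} {v w : ℕ} (hvw : v ≠ w) :
    Disjoint (absSet x v) (absSet x w) := by
  rw [Finset.disjoint_left]
  intro p h h'
  exact hvw ((mem_absSet.mp h).symm.trans (mem_absSet.mp h'))

theorem abs_two {x : GolayPt → ℤ} {a b : ℕ} (hab : a ≠ b)
    (h : absCount x a + absCount x b = 24) (p : GolayPt) :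
    (x p).natAbs = a ∨ (x p).natAbs = b := by
  have hu : absSet x a ∪ absSet x b = Finset.univ := by
    apply Finset.eq_univ_of_card
    rw [Finset.card_union_of_disjoint (absCount_disjoint hab), card_golayPt]
    exact h
  have := Finset.mem_univ p
  rw [← hu, Finset.mem_union, mem_absSet, mem_absSet] at this
  exact this

theorem abs_three {x : GolayPt → ℤ} {a b c : ℕ} (hab : a ≠ b) (hac : a ≠ c) (hbc : b ≠ c)
    (h : absCount x a + absCount x b + absCount x c = 24) (p : GolayPt) :
    (x p).natAbs = a ∨ (x p).natAbs = b ∨ (x p).natAbs = c := by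
  have hu : absSet x a ∪ absSet x b ∪ absSet x c = Finset.univ := by
    apply Finset.eq_univ_of_card
    rw [Finset.card_union_of_disjoint
        (Finset.disjoint_union_left.mpr ⟨absCount_disjoint hac, absCount_disjoint hbc⟩),
      Finset.card_union_of_disjoint (absCount_disjoint hab), card_golayPt]
    exact h
  have := Finset.mem_univ p
  rw [← hu, Finset.mem_union, Finset.mem_union, mem_absSet, mem_absSet, mem_absSet, or_assoc] at this
  exact this

/-- The positions that are 2 mod 4, when no coordinate is `±6`. -/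
theorem absSet_two_support {x : GolayPt → ℤ} (hx : x ∈ leechLattice) (he : ∀ p, x p % 2 = 0)
    (hN : sqNorm x ≤ 64) (h6 : ∀ p, (x p).natAbs ≠ 6) :
    absSet x 2 ∈ supports (golayCode : Set (GolayPt → ZMod 2)) := by
  have h := (even_support hx he hN).1
  have : absSet x 6 = ∅ := Finset.eq_empty_of_forall_notMem fun p hp => h6 p (mem_absSet.mp hp)
  rwa [this, Finset.union_empty] at h

/-! ### Standard profiles -/

/-- Two 4s. -/
def a32pair : Profile :=
  ⟨[4, 0, 0, 0, 0, 0, 0, 0, 0, 0, 0, 0, 0, 0, 0, 0, 0, 0, 0, 0, 0, 0, 0, 4],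
    [(23, 4), (0, 5)], [], [[]]⟩

/-- One 8. -/
def a64one : Profile :=
  ⟨[0, 0, 0, 0, 0, 0, 0, 0, 0, 0, 0, 0, 0, 0, 0, 0, 0, 0, 0, 0, 0, 0, 0, 8],
    [(23, 1)], [], [[]]⟩

/-- One 5. -/
def b48five : Profile :=
  ⟨[1, 1, 1, 1, 1, 1, 1, 1, 1, 1, 1, 1, 1, 1, 1, 1, 1, 1, 1, 1, 1, 1, 1, 5], [], [],
    [[4287]]⟩

/-- The vector with 8 at the extra point. -/
def vec8 : GolayPt → ℤ := fun p => if p = none then 8 else 0

theorem base_checks : checkEven (eqB Spor.vecU) a32pair = true ∧
    checkEven (eqB vec8) a64one = true ∧ checkOdd (eqB Spor.vecV) b48five = true := by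
  decide +kernel

theorem at_table :
    (∀ p, a32pair.at' p = if p = basePt 0 ∨ p = basePt 1 then 4 else 0) ∧
    (∀ p, a32oct.at' p = if p ∈ oct0 then 2 else 0) ∧
    (∀ p, b32.at' p = if p = basePt 0 then 3 else 1) ∧
    (∀ p, a48oct.at' p = if p ∈ oct0 then 2 else if p = basePt 6 then 4 else 0) ∧
    (∀ p, a48dod.at' p = if p ∈ support₂ (qrWord 0) then 2 else 0) ∧
    (∀ p, b48five.at' p = if p = basePt 0 then 5 else 1) ∧
    (∀ p, b48three.at' p = if p = basePt 0 ∨ p = basePt 1 ∨ p = basePt 2 then 3 else 1) := by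
  decide +kernel

theorem at_table64 :
    (∀ p, a64one.at' p = if p = basePt 0 then 8 else 0) ∧
    (∀ p, a64four.at' p =
      if p = basePt 0 ∨ p = basePt 1 ∨ p = basePt 2 ∨ p = basePt 3 then 4 else 0) ∧
    (∀ p, a64six.at' p = if p = basePt 0 then 6 else if p ∈ oct0 then 2 else 0) ∧
    (∀ p, a64sixteen.at' p = if p ∈ oct0 then 0 else 2) ∧
    (∀ p, b64five.at' p =
      if p = basePt 0 then 5 else if p = basePt 1 ∨ p = basePt 2 then 3 else 1) ∧
    (∀ p, b64three.at' p = if p = basePt 0 ∨ p = basePt 1 ∨ p = basePt 2 ∨ p = basePt 3 ∨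
      p = basePt 4 then 3 else 1) := by
  decide +kernel

theorem at_oct_family : ∀ q, q ∉ oct0 → q ≠ basePt 6 → ∃ P ∈ a64oct,
    ∀ p, P.at' p = if p ∈ oct0 then 2 else if p = basePt 6 ∨ p = q then 4 else 0 := by
  decide +kernel

theorem at_dod_family : ∀ q, q ∉ support₂ (qrWord 0) → ∃ P ∈ a64dod,
    ∀ p, P.at' p = if p ∈ support₂ (qrWord 0) then 2 else if p = q then 4 else 0 := by
  decide +kernel

theorem exists_point_notMem {o : Finset GolayPt} (h : o.card < 24) : ∃ q, q ∉ o := by
  by_contra hc
  push Not at hc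
  rw [Finset.eq_univ_of_forall hc, Finset.card_univ, card_golayPt] at h
  omega

theorem smul_mem_iff {g : Equiv.Perm GolayPt} {o o' : Finset GolayPt} (h : g • o = o')
    (p : GolayPt) : g p ∈ o' ↔ p ∈ o := apply_mem_octad_iff h p

/-- An element of M24 taking a dodecad to the square dodecad. -/
theorem exists_move_dodecad {d : Finset GolayPt} (hd : d ∈ dodecads) :
    ∃ g ∈ M24, g • d = support₂ (qrWord 0) :=
  dodecads_transitive hd squareDodecad_mem

/-! ### Squared length 32 -/

theorem conj32_pair {x : GolayPt → ℤ} (hx : x ∈ leechLattice) (h4 : absCount x 4 = 2)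
    (h0 : absCount x 0 = 22) : Conj x Spor.vecU := by
  obtain ⟨a, b, hab, hT⟩ := Finset.card_eq_two.mp h4
  have habs := abs_two (x := x) (show (4 : ℕ) ≠ 0 by norm_num) (by omega)
  obtain ⟨g, hg, hga, hgb⟩ :=
    exists_move_point_set (k := 1) (by norm_num) (p := a) (T := {b})
      (by simpa using hab) (Finset.card_singleton b)
  have hgb' : g b = basePt 1 := by
    obtain ⟨i, hi, he⟩ := (hgb b).mp (Finset.mem_singleton_self b)
    rwa [Nat.lt_one_iff.mp hi] at he
  obtain ⟨y, hy, hgoal⟩ := reduce_even_via base_checks.1 hx hg (fun p => by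
    rw [at_table.1]
    have hp : (x p).natAbs = 4 ↔ (p = a ∨ p = b) := by
      rw [← mem_absSet, hT, Finset.mem_insert, Finset.mem_singleton]
    simp only [← hga, ← hgb', g.injective.eq_iff]
    split_ifs with h
    · exact hp.mpr h
    · rcases habs p with e | e
      · exact absurd (hp.mp e) h
      · exact e)
  rwa [eq_of_eqB hgoal] at hy

theorem conj32_of_hasAbs {x : GolayPt → ℤ} (hx : x ∈ leechLattice) (hN : sqNorm x = 32)
    (h : hasAbs 4 x = true) : Conj x Spor.vecU := by
  have h4 := absCount_pos_of_hasAbs h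
  rcases shape32 hx hN with ⟨-, e, e0⟩ | ⟨-, e, e0⟩ | ⟨-, e, e0⟩
  · exact conj32_pair hx e e0
  · have := abs_two (x := x) (show (2 : ℕ) ≠ 0 by norm_num) (by omega)
    rw [absCount_eq_zero fun p => by rcases this p with h | h <;> omega] at h4
    omega
  · have := abs_two (x := x) (show (3 : ℕ) ≠ 1 by norm_num) (by omega)
    rw [absCount_eq_zero fun p => by rcases this p with h | h <;> omega] at h4
    omega

theorem conj32_oct {x : GolayPt → ℤ} (hx : x ∈ leechLattice) (hN : sqNorm x = 32)
    (he : ∀ p, x p % 2 = 0) (h2 : absCount x 2 = 8) (h0 : absCount x 0 = 16) :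
    Conj x Spor.vecU := by
  have habs := abs_two (x := x) (show (2 : ℕ) ≠ 0 by norm_num) (by omega)
  have hsup := absSet_two_support hx he (by omega) fun p => by
    rcases habs p with e | e <;> omega
  have ho : absSet x 2 ∈ octads := ⟨hsup, h2⟩
  obtain ⟨p0, hp0⟩ := Finset.card_pos.mp (show 0 < (absSet x 2).card by
    rw [show (absSet x 2).card = 8 from h2]; norm_num)
  obtain ⟨q0, hq0⟩ := exists_point_notMem (o := absSet x 2)
    (by rw [show (absSet x 2).card = 8 from h2]; norm_num)
  obtain ⟨g, hg, hgo, -, -⟩ := exists_move_octad ho hp0 hq0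
  obtain ⟨y, hy, hgoal⟩ := reduce_even_via check32.1 hx hg (fun p => by
    rw [at_table.2.1]
    simp only [smul_mem_iff hgo]
    split_ifs with h
    · exact mem_absSet.mp h
    · rcases habs p with e | e
      · exact absurd (mem_absSet.mpr e) h
      · exact e)
  exact hy.trans (conj32_of_hasAbs hy.mem_right (hy.sqNorm_eq.trans hN) hgoal)

theorem conj32 {x : GolayPt → ℤ} (hx : x ∈ leechLattice) (hN : sqNorm x = 32) :
    Conj x Spor.vecU := by
  rcases shape32 hx hN with ⟨-, e, e0⟩ | ⟨he, e, e0⟩ | ⟨-, e, e0⟩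
  · exact conj32_pair hx e e0
  · exact conj32_oct hx hN he e e0
  · obtain ⟨a, hT⟩ := Finset.card_eq_one.mp e
    have habs := abs_two (x := x) (show (3 : ℕ) ≠ 1 by norm_num) (by omega)
    obtain ⟨g, hg, hga, -⟩ :=
      exists_move_point_set (k := 0) (by norm_num) (p := a) (T := ∅) (by simp) rfl
    obtain ⟨y, hy, hgoal⟩ := reduce_odd_via check32.2 hx hg (fun p => by
      rw [at_table.2.2.1]
      simp only [← hga, g.injective.eq_iff]
      have hp : (x p).natAbs = 3 ↔ p = a := by rw [← mem_absSet, hT, Finset.mem_singleton]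
      split_ifs with h
      · exact hp.mpr h
      · rcases habs p with e | e
        · exact absurd (hp.mp e) h
        · exact e)
    simp only [g32, Bool.or_eq_true] at hgoal
    refine hy.trans ?_
    have hyN := hy.sqNorm_eq.trans hN
    rcases hgoal with h | h
    · exact conj32_of_hasAbs hy.mem_right hyN h
    · rcases shape32 hy.mem_right hyN with ⟨-, e, e0⟩ | ⟨he, e, e0⟩ | ⟨-, e, e0⟩
      · exact conj32_pair hy.mem_right e e0
      · exact conj32_oct hy.mem_right hyN he e e0
      · rw [absCount_eq_zero fun p => by rcases abs_cases_of_allAbs h p with h | h <;> omega] at e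
        omega

/-! ### Squared length 48 -/

theorem conj48_five {x : GolayPt → ℤ} (hx : x ∈ leechLattice) (h5 : absCount x 5 = 1)
    (h1 : absCount x 1 = 23) : Conj x Spor.vecV := by
  obtain ⟨a, hT⟩ := Finset.card_eq_one.mp h5
  have habs := abs_two (x := x) (show (5 : ℕ) ≠ 1 by norm_num) (by omega)
  obtain ⟨g, hg, hga, -⟩ :=
    exists_move_point_set (k := 0) (by norm_num) (p := a) (T := ∅) (by simp) rfl
  obtain ⟨y, hy, hgoal⟩ := reduce_odd_via base_checks.2.2 hx hg (fun p => by
    rw [at_table.2.2.2.2.2.1]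
    simp only [← hga, g.injective.eq_iff]
    have hp : (x p).natAbs = 5 ↔ p = a := by rw [← mem_absSet, hT, Finset.mem_singleton]
    split_ifs with h
    · exact hp.mpr h
    · rcases habs p with e | e
      · exact absurd (hp.mp e) h
      · exact e)
  rwa [eq_of_eqB hgoal] at hy

theorem conj48_of_five {x : GolayPt → ℤ} (hx : x ∈ leechLattice) (hN : sqNorm x = 48)
    (h : hasAbs 5 x = true) : Conj x Spor.vecV := by
  have h5 := absCount_pos_of_hasAbs h
  rcases shape48 hx hN with ⟨-, e, e4, e0⟩ | ⟨-, e, e0⟩ | ⟨-, e, e1⟩ | ⟨-, e, e1⟩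
  · have := abs_three (x := x) (show (2 : ℕ) ≠ 4 by norm_num) (show (2 : ℕ) ≠ 0 by norm_num)
      (show (4 : ℕ) ≠ 0 by norm_num) (by omega)
    rw [absCount_eq_zero fun p => by rcases this p with h | h | h <;> omega] at h5
    omega
  · have := abs_two (x := x) (show (2 : ℕ) ≠ 0 by norm_num) (by omega)
    rw [absCount_eq_zero fun p => by rcases this p with h | h <;> omega] at h5
    omega
  · exact conj48_five hx e e1
  · have := abs_two (x := x) (show (3 : ℕ) ≠ 1 by norm_num) (by omega)
    rw [absCount_eq_zero fun p => by rcases this p with h | h <;> omega] at h5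
    omega

theorem conj48_three {x : GolayPt → ℤ} (hx : x ∈ leechLattice) (hN : sqNorm x = 48)
    (h3 : absCount x 3 = 3) (h1 : absCount x 1 = 21) : Conj x Spor.vecV := by
  obtain ⟨a, b, c, hab, hac, hbc, hT⟩ := Finset.card_eq_three.mp h3
  have habs := abs_two (x := x) (show (3 : ℕ) ≠ 1 by norm_num) (by omega)
  obtain ⟨g, hg, hga, hgT⟩ := exists_move_point_set (k := 2) (by norm_num) (p := a) (T := {b, c})
    (by simp [hab, hac]) (Finset.card_pair hbc)
  obtain ⟨y, hy, hgoal⟩ := reduce_odd_via check48.2.2 hx hg (fun p => by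
    rw [at_table.2.2.2.2.2.2]
    have hp : (x p).natAbs = 3 ↔ (p = a ∨ p = b ∨ p = c) := by
      rw [← mem_absSet, hT]; simp
    have hq : (g p = basePt 0 ∨ g p = basePt 1 ∨ g p = basePt 2) ↔ (p = a ∨ p = b ∨ p = c) := by
      rw [← hga, g.injective.eq_iff]
      refine or_congr Iff.rfl ?_
      have h := hgT p
      simp only [Finset.mem_insert, Finset.mem_singleton, Nat.exists_lt_succ_right,
        Nat.not_lt_zero, false_and, exists_false, false_or] at h
      exact h.symm
    split_ifs with h
    · exact hp.mpr (hq.mp h)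
    · rcases habs p with e | e
      · exact absurd (hq.mpr (hp.mp e)) h
      · exact e)
  exact hy.trans (conj48_of_five hy.mem_right (hy.sqNorm_eq.trans hN) hgoal)

theorem conj48_odd {x : GolayPt → ℤ} (hx : x ∈ leechLattice) (hN : sqNorm x = 48)
    (ho : IsOdd x) : Conj x Spor.vecV := by
  rcases shape48 hx hN with ⟨he, -⟩ | ⟨he, -⟩ | ⟨-, e, e1⟩ | ⟨-, e, e1⟩
  · have := he none; have := ho none; omega
  · have := he none; have := ho none; omega
  · exact conj48_five hx e e1
  · exact conj48_three hx hN e e1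

theorem isOdd_of_abs {x : GolayPt → ℤ} (hx : x ∈ leechLattice) {v : ℕ} (hv : v % 2 = 1)
    (h : hasAbs v x = true) : IsOdd x := by
  rcases parity_cases hx with ho | he
  · exact ho
  · have := absCount_pos_of_hasAbs h
    rw [absCount_eq_zero fun p => by have := he p; omega] at this
    omega

theorem conj48_of_g48 {x : GolayPt → ℤ} (hx : x ∈ leechLattice) (hN : sqNorm x = 48)
    (h : g48 x = true) : Conj x Spor.vecV := by
  simp only [g48, Bool.or_eq_true] at h
  rcases h with h | h
  · exact conj48_of_five hx hN h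
  · exact conj48_odd hx hN (isOdd_of_abs hx rfl h)

theorem conj48_dod {x : GolayPt → ℤ} (hx : x ∈ leechLattice) (hN : sqNorm x = 48)
    (he : ∀ p, x p % 2 = 0) (h2 : absCount x 2 = 12) (h0 : absCount x 0 = 12) :
    Conj x Spor.vecV := by
  have habs := abs_two (x := x) (show (2 : ℕ) ≠ 0 by norm_num) (by omega)
  have hd : absSet x 2 ∈ dodecads := ⟨absSet_two_support hx he (by omega) fun p => by
    rcases habs p with e | e <;> omega, h2⟩
  obtain ⟨g, hg, hgo⟩ := exists_move_dodecad hd
  obtain ⟨y, hy, hgoal⟩ := reduce_even_via check48.2.1 hx hg (fun p => by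
    rw [at_table.2.2.2.2.1]
    simp only [smul_mem_iff hgo]
    split_ifs with h
    · exact mem_absSet.mp h
    · rcases habs p with e | e
      · exact absurd (mem_absSet.mpr e) h
      · exact e)
  exact hy.trans (conj48_of_g48 hy.mem_right (hy.sqNorm_eq.trans hN) hgoal)

theorem conj48 {x : GolayPt → ℤ} (hx : x ∈ leechLattice) (hN : sqNorm x = 48) :
    Conj x Spor.vecV := by
  rcases shape48 hx hN with ⟨he, e, e4, e0⟩ | ⟨he, e, e0⟩ | ⟨-, e, e1⟩ | ⟨-, e, e1⟩
  · have habs := abs_three (x := x) (show (2 : ℕ) ≠ 4 by norm_num) (show (2 : ℕ) ≠ 0 by norm_num)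
      (show (4 : ℕ) ≠ 0 by norm_num) (by omega)
    have ho : absSet x 2 ∈ octads := ⟨absSet_two_support hx he (by omega) fun p => by
      rcases habs p with e | e | e <;> omega, e⟩
    obtain ⟨p0, hp0⟩ := Finset.card_pos.mp (show 0 < (absSet x 2).card by
      rw [show (absSet x 2).card = 8 from e]; norm_num)
    obtain ⟨a, hT⟩ := Finset.card_eq_one.mp e4
    have ha : a ∉ absSet x 2 := fun h => by
      have h' : a ∈ absSet x 4 := by rw [hT]; exact Finset.mem_singleton_self a
      rw [mem_absSet] at h h'; omega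
    obtain ⟨g, hg, hgo, -, hga⟩ := exists_move_octad ho hp0 ha
    obtain ⟨y, hy, hgoal⟩ := reduce_even_via check48.1 hx hg (fun p => by
      rw [at_table.2.2.2.1]
      simp only [← hga, g.injective.eq_iff]
      simp only [smul_mem_iff hgo]
      have hp : (x p).natAbs = 4 ↔ p = a := by rw [← mem_absSet, hT, Finset.mem_singleton]
      split_ifs with h h'
      · exact mem_absSet.mp h
      · exact hp.mpr h'
      · rcases habs p with e | e | e
        · exact absurd (mem_absSet.mpr e) h
        · exact absurd (hp.mp e) h'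
        · exact e)
    refine hy.trans ?_
    have hyN := hy.sqNorm_eq.trans hN
    simp only [g48b, Bool.or_eq_true] at hgoal
    rcases hgoal with h | h
    · exact conj48_of_g48 hy.mem_right hyN h
    · rcases shape48 hy.mem_right hyN with ⟨-, -, e4, -⟩ | ⟨he, e, e0⟩ | ⟨ho, -⟩ | ⟨ho, -⟩
      · rw [absCount_eq_zero fun p => by rcases abs_cases_of_allAbs h p with h | h <;> omega] at e4
        omega
      · exact conj48_dod hy.mem_right hyN he e e0
      · exact conj48_odd hy.mem_right hyN ho
      · exact conj48_odd hy.mem_right hyN ho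
  · exact conj48_dod hx hN he e e0
  · exact conj48_five hx e e1
  · exact conj48_three hx hN e e1

/-! ### Squared length 64 -/

theorem conj64_one {x : GolayPt → ℤ} (hx : x ∈ leechLattice) (h8 : absCount x 8 = 1)
    (h0 : absCount x 0 = 23) : Conj x vec8 := by
  obtain ⟨a, hT⟩ := Finset.card_eq_one.mp h8
  have habs := abs_two (x := x) (show (8 : ℕ) ≠ 0 by norm_num) (by omega)
  obtain ⟨g, hg, hga, -⟩ :=
    exists_move_point_set (k := 0) (by norm_num) (p := a) (T := ∅) (by simp) rfl
  obtain ⟨y, hy, hgoal⟩ := reduce_even_via base_checks.2.1 hx hg (fun p => by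
    rw [at_table64.1]
    simp only [← hga, g.injective.eq_iff]
    have hp : (x p).natAbs = 8 ↔ p = a := by rw [← mem_absSet, hT, Finset.mem_singleton]
    split_ifs with h
    · exact hp.mpr h
    · rcases habs p with e | e
      · exact absurd (hp.mp e) h
      · exact e)
  rwa [eq_of_eqB hgoal] at hy

theorem conj64_of_g64a {x : GolayPt → ℤ} (hx : x ∈ leechLattice) (hN : sqNorm x = 64)
    (h : g64a x = true) : Conj x vec8 := by
  have h8 := absCount_pos_of_hasAbs (show hasAbs 8 x = true from h)
  obtain ⟨h24, hsq⟩ := short_equations (x := x) hN.le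
  rw [hN] at hsq
  have hsq' := hsq.symm
  norm_cast at hsq'
  exact conj64_one hx (by omega) (by omega)

theorem conj64_four {x : GolayPt → ℤ} (hx : x ∈ leechLattice) (hN : sqNorm x = 64)
    (h4 : absCount x 4 = 4) (h0 : absCount x 0 = 20) : Conj x vec8 := by
  obtain ⟨a, ha⟩ := Finset.card_pos.mp (show 0 < (absSet x 4).card by
    rw [show (absSet x 4).card = 4 from h4]; norm_num)
  have habs := abs_two (x := x) (show (4 : ℕ) ≠ 0 by norm_num) (by omega)
  obtain ⟨g, hg, hga, hgT⟩ := exists_move_point_set (k := 3) (by norm_num) (p := a)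
    (T := (absSet x 4).erase a) (Finset.notMem_erase _ _)
    (by rw [Finset.card_erase_of_mem ha, show (absSet x 4).card = 4 from h4])
  obtain ⟨y, hy, hgoal⟩ := reduce_even_via check64.1 hx hg (fun p => by
    rw [at_table64.2.1]
    have hq : (g p = basePt 0 ∨ g p = basePt 1 ∨ g p = basePt 2 ∨ g p = basePt 3) ↔
        (x p).natAbs = 4 := by
      have h := hgT p
      simp only [Finset.mem_erase, Nat.exists_lt_succ_right, Nat.not_lt_zero, false_and,
        exists_false, false_or, or_assoc, mem_absSet] at h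
      rw [← h, ← hga, g.injective.eq_iff]
      by_cases hpa : p = a
      · simp [hpa, mem_absSet.mp ha]
      · simp [hpa]
    split_ifs with h
    · exact hq.mp h
    · rcases habs p with e | e
      · exact absurd (hq.mpr e) h
      · exact e)
  exact hy.trans (conj64_of_g64a hy.mem_right (hy.sqNorm_eq.trans hN) hgoal)

theorem conj64_of_g64b {x : GolayPt → ℤ} (hx : x ∈ leechLattice) (hN : sqNorm x = 64)
    (h : g64b x = true) : Conj x vec8 := by
  simp only [g64b, Bool.or_eq_true] at h
  rcases h with h | h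
  · exact conj64_of_g64a hx hN h
  · obtain ⟨h24, hsq⟩ := short_equations (x := x) hN.le
    rw [hN] at hsq
    have hz : ∀ v, v ≠ 0 → v ≠ 4 → absCount x v = 0 := fun v h0 h4 =>
      absCount_eq_zero fun p => by rcases abs_cases_of_allAbs h p with e | e <;> omega
    rw [hz 1 (by norm_num) (by norm_num), hz 2 (by norm_num) (by norm_num),
      hz 3 (by norm_num) (by norm_num), hz 5 (by norm_num) (by norm_num),
      hz 6 (by norm_num) (by norm_num), hz 7 (by norm_num) (by norm_num),
      hz 8 (by norm_num) (by norm_num)] at h24 hsq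
    exact conj64_four hx hN (by omega) (by omega)

theorem conj64_six {x : GolayPt → ℤ} (hx : x ∈ leechLattice) (hN : sqNorm x = 64)
    (he : ∀ p, x p % 2 = 0) (h6 : absCount x 6 = 1) (h2 : absCount x 2 = 7)
    (h0 : absCount x 0 = 16) : Conj x vec8 := by
  obtain ⟨a, hT⟩ := Finset.card_eq_one.mp h6
  have habs := abs_three (x := x) (show (2 : ℕ) ≠ 6 by norm_num) (show (2 : ℕ) ≠ 0 by norm_num)
    (show (6 : ℕ) ≠ 0 by norm_num) (by omega)
  obtain ⟨hsup, hcard, -⟩ := even_support hx he hN.le
  have ho : absSet x 2 ∪ absSet x 6 ∈ octads := ⟨hsup, by omega⟩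
  have ha : a ∈ absSet x 2 ∪ absSet x 6 := by simp [hT]
  obtain ⟨q0, hq0⟩ := exists_point_notMem (o := absSet x 2 ∪ absSet x 6) (by omega)
  obtain ⟨g, hg, hgo, hga, -⟩ := exists_move_octad ho ha hq0
  obtain ⟨y, hy, hgoal⟩ := reduce_even_via check64.2.1 hx hg (fun p => by
    rw [at_table64.2.2.1]
    simp only [← hga, g.injective.eq_iff]
    simp only [smul_mem_iff hgo, Finset.mem_union]
    have hp : (x p).natAbs = 6 ↔ p = a := by rw [← mem_absSet, hT, Finset.mem_singleton]
    split_ifs with h h'
    · exact hp.mpr h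
    · rcases h' with h' | h'
      · exact mem_absSet.mp h'
      · exact absurd (hp.mp (mem_absSet.mp h')) h
    · rcases habs p with e | e | e
      · exact absurd (Or.inl (mem_absSet.mpr e)) h'
      · exact absurd (hp.mp e) h
      · exact e)
  exact hy.trans (conj64_of_g64b hy.mem_right (hy.sqNorm_eq.trans hN) hgoal)

theorem conj64_of_g64c {x : GolayPt → ℤ} (hx : x ∈ leechLattice) (hN : sqNorm x = 64)
    (h : g64c x = true) : Conj x vec8 := by
  simp only [g64c, Bool.or_eq_true] at h
  rcases h with h | h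
  · exact conj64_of_g64b hx hN h
  · have h6 := absCount_pos_of_hasAbs h
    have he : ∀ p, x p % 2 = 0 := by
      rcases parity_cases hx with ho | he
      · rw [(odd_counts ho).2.2.2.1] at h6; omega
      · exact he
    obtain ⟨e1, e3, e5, e7⟩ := even_counts he
    obtain ⟨h24, hsq⟩ := short_equations (x := x) hN.le
    rw [hN, e1, e3, e5, e7] at hsq
    rw [e1, e3, e5, e7] at h24
    obtain ⟨-, -, hw⟩ := even_support hx he hN.le
    simp only [Nat.mul_zero, Nat.add_zero, Nat.zero_add] at h24 hsq
    have h := even_arith64 _ _ _ _ _ h24 (by exact_mod_cast hsq.symm) hw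
    have hsq' : 4 * absCount x 2 + 16 * absCount x 4 + 36 * absCount x 6 + 64 * absCount x 8 = 64 :=
      by exact_mod_cast hsq.symm
    exact conj64_six hx hN he (by omega) (by omega) (by omega)

theorem conj64_oct {x : GolayPt → ℤ} (hx : x ∈ leechLattice) (hN : sqNorm x = 64)
    (he : ∀ p, x p % 2 = 0) (h2 : absCount x 2 = 8) (h4 : absCount x 4 = 2)
    (h0 : absCount x 0 = 14) : Conj x vec8 := by
  have habs := abs_three (x := x) (show (2 : ℕ) ≠ 4 by norm_num) (show (2 : ℕ) ≠ 0 by norm_num)
    (show (4 : ℕ) ≠ 0 by norm_num) (by omega)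
  have ho : absSet x 2 ∈ octads := ⟨absSet_two_support hx he hN.le fun p => by
    rcases habs p with e | e | e <;> omega, h2⟩
  obtain ⟨p0, hp0⟩ := Finset.card_pos.mp (show 0 < (absSet x 2).card by
    rw [show (absSet x 2).card = 8 from h2]; norm_num)
  obtain ⟨a, b, hab, hT⟩ := Finset.card_eq_two.mp h4
  have hout : ∀ q ∈ absSet x 4, q ∉ absSet x 2 := fun q h h' => by
    rw [mem_absSet] at h h'; omega
  have ha : a ∉ absSet x 2 := hout a (by simp [hT])
  obtain ⟨g, hg, hgo, -, hga⟩ := exists_move_octad ho hp0 ha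
  obtain ⟨P, hPmem, hP⟩ := at_oct_family (g b)
    (fun h => hout b (by simp [hT]) ((smul_mem_iff hgo b).mp h))
    (fun h => hab (g.injective (hga.trans h.symm)))
  obtain ⟨y, hy, hgoal⟩ := reduce_even_via (List.all_eq_true.mp check64_oct P hPmem) hx hg
    (fun p => by
      rw [hP]
      simp only [← hga, g.injective.eq_iff]
      simp only [smul_mem_iff hgo]
      have hp : (x p).natAbs = 4 ↔ (p = a ∨ p = b) := by
        rw [← mem_absSet, hT, Finset.mem_insert, Finset.mem_singleton]
      split_ifs with h h'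
      · exact mem_absSet.mp h
      · exact hp.mpr h'
      · rcases habs p with e | e | e
        · exact absurd (mem_absSet.mpr e) h
        · exact absurd (hp.mp e) h'
        · exact e)
  exact hy.trans (conj64_of_g64c hy.mem_right (hy.sqNorm_eq.trans hN) hgoal)

theorem conj64_dod {x : GolayPt → ℤ} (hx : x ∈ leechLattice) (hN : sqNorm x = 64)
    (he : ∀ p, x p % 2 = 0) (h2 : absCount x 2 = 12) (h4 : absCount x 4 = 1)
    (h0 : absCount x 0 = 11) : Conj x vec8 := by
  have habs := abs_three (x := x) (show (2 : ℕ) ≠ 4 by norm_num) (show (2 : ℕ) ≠ 0 by norm_num)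
    (show (4 : ℕ) ≠ 0 by norm_num) (by omega)
  have hd : absSet x 2 ∈ dodecads := ⟨absSet_two_support hx he hN.le fun p => by
    rcases habs p with e | e | e <;> omega, h2⟩
  obtain ⟨a, hT⟩ := Finset.card_eq_one.mp h4
  obtain ⟨g, hg, hgo⟩ := exists_move_dodecad hd
  obtain ⟨P, hPmem, hP⟩ := at_dod_family (g a) (fun h => by
    have h' : a ∈ absSet x 4 := by rw [hT]; exact Finset.mem_singleton_self a
    have := mem_absSet.mp ((smul_mem_iff hgo a).mp h)
    rw [mem_absSet] at h'; omega)
  obtain ⟨y, hy, hgoal⟩ := reduce_even_via (List.all_eq_true.mp check64_dod P hPmem) hx hg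
    (fun p => by
      rw [hP]
      simp only [g.injective.eq_iff]
      simp only [smul_mem_iff hgo]
      have hp : (x p).natAbs = 4 ↔ p = a := by rw [← mem_absSet, hT, Finset.mem_singleton]
      split_ifs with h h'
      · exact mem_absSet.mp h
      · exact hp.mpr h'
      · rcases habs p with e | e | e
        · exact absurd (mem_absSet.mpr e) h
        · exact absurd (hp.mp e) h'
        · exact e)
  refine hy.trans ?_
  have hyN := hy.sqNorm_eq.trans hN
  simp only [g64d, Bool.or_eq_true, Bool.and_eq_true, beq_iff_eq] at hgoal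
  rcases hgoal with h | ⟨hc, hev⟩
  · exact conj64_of_g64c hy.mem_right hyN h
  · have hc' : absCount y 4 = 2 := by
      rw [← hc, List.countP_eq_length_filter]
      have hnd : ((List.range 24).filter fun i => (y (ptOf i)).natAbs == 4).Nodup :=
        List.nodup_range.filter _
      rw [← List.toFinset_card_of_nodup hnd]
      refine Finset.card_bij' (fun p _ => ptIdx p) (fun i _ => ptOf i) ?_ ?_ ?_ ?_
      · intro p hp
        rw [List.mem_toFinset, List.mem_filter, List.mem_range, beq_iff_eq, ptOf_ptIdx]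
        exact ⟨ptIdx_lt p, mem_absSet.mp hp⟩
      · intro i hi
        rw [List.mem_toFinset, List.mem_filter, beq_iff_eq] at hi
        exact mem_absSet.mpr hi.2
      · intro p _; exact ptOf_ptIdx p
      · intro i hi
        rw [List.mem_toFinset, List.mem_filter, List.mem_range] at hi
        have key : ∀ i < 24, ptIdx (ptOf i) = i := by decide +kernel
        exact key i hi.1
    rcases shape64 hy.mem_right hyN with ⟨-, e, e0⟩ | ⟨-, e, -⟩ | ⟨he', e, e2, e0⟩ |
        ⟨he', e2, e4, e0⟩ | ⟨-, -, e, -⟩ | ⟨-, e, e0⟩ | ⟨ho, -⟩ | ⟨ho, -⟩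
    · exact conj64_one hy.mem_right e e0
    · omega
    · exact conj64_six hy.mem_right hyN he' e e2 e0
    · exact conj64_oct hy.mem_right hyN he' e2 e4 e0
    · omega
    · have := abs_two (x := y) (show (2 : ℕ) ≠ 0 by norm_num) (by omega)
      rw [absCount_eq_zero fun p => by rcases this p with h | h <;> omega] at hc'
      omega
    · have := ho none; omega
    · have := ho none; omega

theorem conj64_sixteen {x : GolayPt → ℤ} (hx : x ∈ leechLattice) (hN : sqNorm x = 64)
    (he : ∀ p, x p % 2 = 0) (h2 : absCount x 2 = 16) (h0 : absCount x 0 = 8) :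
    Conj x vec8 := by
  have habs := abs_two (x := x) (show (2 : ℕ) ≠ 0 by norm_num) (by omega)
  obtain ⟨u, hu, hus⟩ := absSet_two_support hx he hN.le fun p => by
    rcases habs p with e | e <;> omega
  have ho : absSet x 0 ∈ octads := by
    refine ⟨⟨u + 1, add_mem hu one_mem_golayCode, ?_⟩, h0⟩
    ext p
    have h1 : ∀ a : ZMod 2, a + 1 ≠ 0 ↔ ¬ a ≠ 0 := by decide
    have h2' : p ∈ absSet x 2 ↔ u p ≠ 0 := by rw [← hus]; simp [support₂]
    simp only [support₂, Finset.mem_filter, Finset.mem_univ, true_and, Pi.add_apply, Pi.one_apply,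
      h1, ← h2', mem_absSet]
    rcases habs p with e | e <;> omega
  obtain ⟨p0, hp0⟩ := Finset.card_pos.mp (show 0 < (absSet x 0).card by
    rw [show (absSet x 0).card = 8 from h0]; norm_num)
  obtain ⟨q0, hq0⟩ := exists_point_notMem (o := absSet x 0)
    (by rw [show (absSet x 0).card = 8 from h0]; norm_num)
  obtain ⟨g, hg, hgo, -, -⟩ := exists_move_octad ho hp0 hq0
  obtain ⟨y, hy, hgoal⟩ := reduce_even_via check64_sixteen hx hg (fun p => by
    rw [at_table64.2.2.2.1]
    simp only [smul_mem_iff hgo]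
    split_ifs with h
    · exact mem_absSet.mp h
    · rcases habs p with e | e
      · exact e
      · exact absurd (mem_absSet.mpr e) h)
  exact hy.trans (conj64_of_g64c hy.mem_right (hy.sqNorm_eq.trans hN) hgoal)

theorem conj64 {x : GolayPt → ℤ} (hx : x ∈ leechLattice) (hN : sqNorm x = 64) :
    Conj x vec8 := by
  rcases shape64 hx hN with ⟨-, e, e0⟩ | ⟨-, e, e0⟩ | ⟨he, e, e2, e0⟩ | ⟨he, e2, e4, e0⟩ |
      ⟨he, e2, e4, e0⟩ | ⟨he, e, e0⟩ | ⟨-, e5, e3, e1⟩ | ⟨-, e3, e1⟩
  · exact conj64_one hx e e0
  · exact conj64_four hx hN e e0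
  · exact conj64_six hx hN he e e2 e0
  · exact conj64_oct hx hN he e2 e4 e0
  · exact conj64_dod hx hN he e2 e4 e0
  · exact conj64_sixteen hx hN he e e0
  · obtain ⟨a, hT⟩ := Finset.card_eq_one.mp e5
    have habs := abs_three (x := x) (show (5 : ℕ) ≠ 3 by norm_num) (show (5 : ℕ) ≠ 1 by norm_num)
      (show (3 : ℕ) ≠ 1 by norm_num) (by omega)
    have ha5 : (x a).natAbs = 5 := mem_absSet.mp (by rw [hT]; exact Finset.mem_singleton_self a)
    obtain ⟨g, hg, hga, hgT⟩ := exists_move_point_set (k := 2) (by norm_num) (p := a)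
      (T := absSet x 3) (fun h => by rw [mem_absSet] at h; omega) e3
    obtain ⟨y, hy, hgoal⟩ := reduce_odd_via check64.2.2.1 hx hg (fun p => by
      rw [at_table64.2.2.2.2.1]
      have hp : (x p).natAbs = 5 ↔ g p = basePt 0 := by
        rw [← mem_absSet, hT, Finset.mem_singleton, ← hga, g.injective.eq_iff]
      have hq : (g p = basePt 1 ∨ g p = basePt 2) ↔ (x p).natAbs = 3 := by
        have h := hgT p
        simp only [Nat.exists_lt_succ_right, Nat.not_lt_zero, false_and, exists_false, false_or,
          mem_absSet] at h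
        exact h.symm
      split_ifs with h h'
      · exact hp.mpr h
      · exact hq.mp h'
      · rcases habs p with e | e | e
        · exact absurd (hp.mp e) h
        · exact absurd (hq.mpr e) h'
        · exact e)
    exact hy.trans (conj64_of_g64c hy.mem_right (hy.sqNorm_eq.trans hN) hgoal)
  · have habs := abs_two (x := x) (show (3 : ℕ) ≠ 1 by norm_num) (by omega)
    obtain ⟨a, ha⟩ := Finset.card_pos.mp (show 0 < (absSet x 3).card by
      rw [show (absSet x 3).card = 5 from e3]; norm_num)
    obtain ⟨g, hg, hga, hgT⟩ := exists_move_point_set (k := 4) (by norm_num) (p := a)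
      (T := (absSet x 3).erase a) (Finset.notMem_erase _ _)
      (by rw [Finset.card_erase_of_mem ha, show (absSet x 3).card = 5 from e3])
    obtain ⟨y, hy, hgoal⟩ := reduce_odd_via check64.2.2.2 hx hg (fun p => by
      rw [at_table64.2.2.2.2.2]
      have hq : (g p = basePt 0 ∨ g p = basePt 1 ∨ g p = basePt 2 ∨ g p = basePt 3 ∨
          g p = basePt 4) ↔ (x p).natAbs = 3 := by
        have h := hgT p
        simp only [Finset.mem_erase, Nat.exists_lt_succ_right, Nat.not_lt_zero, false_and,
          exists_false, false_or, or_assoc, mem_absSet] at h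
        rw [← h, ← hga, g.injective.eq_iff]
        by_cases hpa : p = a
        · simp [hpa, mem_absSet.mp ha]
        · simp [hpa]
      split_ifs with h
      · exact hq.mp h
      · rcases habs p with e | e
        · exact absurd (hq.mpr e) h
        · exact e)
    exact hy.trans (conj64_of_g64c hy.mem_right (hy.sqNorm_eq.trans hN) hgoal)

/-- Two vectors conjugate to the same one are conjugate, in the form of the group action. -/
theorem exists_smul_eq_of_conj {v w : leechLattice} {t : GolayPt → ℤ} (hv : Conj v.1 t)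
    (hw : Conj w.1 t) : ∃ g : Co0, g • v = w := by
  obtain ⟨_, g, -, hg⟩ := hv.trans hw.symm
  exact ⟨g, Subtype.ext hg⟩

/-- The same, with the conjugating element in `monoXi`. -/
theorem exists_mem_monoXi_of_conj {v w : leechLattice} {t : GolayPt → ℤ} (hv : Conj v.1 t)
    (hw : Conj w.1 t) : ∃ g ∈ monoXi, g • v = w := by
  obtain ⟨_, g, hgm, hg⟩ := hv.trans hw.symm
  exact ⟨g, hgm, Subtype.ext hg⟩

end Cfsg.Agent.Leech
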